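import Mathlib.GroupTheory.PGroup
import Mathlib.GroupTheory.SpecificGroups.Cyclic
import Mathlib.GroupTheory.Abelianization.Defs
import Mathlib.GroupTheory.Index
import Mathlib.GroupTheory.Nilpotent
import Mathlib.GroupTheory.Commutator.Basic

/-!
# Small facts on finite `p`-groups (helper76)

* `comm_of_center_index_dvd_prime`: a group whose centre has index dividing a prime is commutative.
* `commHom`: `y ↦ ⁅a, y⁆` as a homomorphism when these commutators are central.
* `normal_card_prime_le_center`: a normal subgroup of order `p` of a `p`-group is central.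
* `card_commutator_of_center_index_sq`, `center_index_of_card_commutator`: groups of order `p ^ 4`.
-/

set_option autoImplicit false

namespace Cfsg.Agent.Helper76

open scoped commutatorElement

variable {P : Type*} [Group P]

/-- A finite group whose centre has index dividing a prime is commutative. -/
theorem comm_of_center_index_dvd_prime [Finite P] {p : ℕ} (hp : p.Prime)
    (h : (Subgroup.center P).index ∣ p) (a b : P) : a * b = b * a := by
  rcases (Nat.dvd_prime hp).mp h with h1 | h1
  · have h2 : Subgroup.center P = ⊤ := Subgroup.index_eq_one.mp h1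
    have ha : a ∈ Subgroup.center P := by rw [h2]; trivial
    exact (Subgroup.mem_center_iff.mp ha b).symm
  · have : Fact p.Prime := ⟨hp⟩
    have hc : Nat.card (P ⧸ Subgroup.center P) = p := by rw [← Subgroup.index_eq_card, h1]
    have : IsCyclic (P ⧸ Subgroup.center P) := isCyclic_of_prime_card hc
    exact ((QuotientGroup.mk' (Subgroup.center P)).isMulCommutative_of_isCyclic_of_ker_le_center
      (by rw [QuotientGroup.ker_mk'])).is_comm.comm a b

/-- If all commutators `⁅a, y⁆` are central, then `y ↦ ⁅a, y⁆` is a homomorphism. -/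
def commHom (a : P) (h : ∀ y : P, ⁅a, y⁆ ∈ Subgroup.center P) : P →* P where
  toFun y := ⁅a, y⁆
  map_one' := by simp
  map_mul' y y' := by
    have h1 := Subgroup.mem_center_iff.mp (h y') y
    have h2 : ⁅a, y * y'⁆ = ⁅a, y⁆ * (y * ⁅a, y'⁆) * y⁻¹ := by
      simp only [commutatorElement_def]; group
    rw [h2, h1]; group

theorem commHom_apply (a : P) (h : ∀ y : P, ⁅a, y⁆ ∈ Subgroup.center P) (y : P) :
    commHom a h y = ⁅a, y⁆ := rfl

theorem commHom_ker (a : P) (h : ∀ y : P, ⁅a, y⁆ ∈ Subgroup.center P) :
    (commHom a h).ker = Subgroup.centralizer ({a} : Set P) := by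
  ext y
  rw [MonoidHom.mem_ker, commHom_apply, commutatorElement_eq_one_iff_mul_comm,
    Subgroup.mem_centralizer_iff]
  simp

theorem card_lt_of_lt [Finite P] {K L : Subgroup P} (h : K < L) : Nat.card K < Nat.card L := by
  have h1 := Subgroup.card_le_of_le h.le
  rcases h1.lt_or_eq with h2 | h2
  · exact h2
  · exact absurd (Subgroup.eq_of_le_of_card_ge h.le h2.ge) h.ne

theorem card_subgroup_eq_pow [Finite P] {p n : ℕ} (hp : p.Prime) (hP : Nat.card P = p ^ n)
    (K : Subgroup P) : ∃ k ≤ n, Nat.card K = p ^ k := by
  have h := Subgroup.card_subgroup_dvd_card K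
  rw [hP] at h
  exact (Nat.dvd_prime_pow hp).mp h

/-- A normal subgroup of order `p` in a finite `p`-group is central. -/
theorem normal_card_prime_le_center [Finite P] {p : ℕ} [hp : Fact p.Prime] (hP : IsPGroup p P)
    (N : Subgroup P) [hN : N.Normal] (hcard : Nat.card N = p) : N ≤ Subgroup.center P := by
  have hcyc : IsCyclic N := isCyclic_of_prime_card hcard
  have hAut : Nat.card (MulAut N) = p - 1 := by
    rw [IsCyclic.card_mulAut, hcard, Nat.totient_prime hp.out]
  intro n hn
  rw [Subgroup.mem_center_iff]
  intro g
  have h1 : orderOf (MulAut.conjNormal g : MulAut N) ∣ orderOf g := orderOf_map_dvd _ g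
  obtain ⟨k, hk⟩ := (IsPGroup.iff_orderOf.mp hP) g
  rw [hk] at h1
  have h2 : orderOf (MulAut.conjNormal g : MulAut N) ∣ p - 1 := by
    rw [← hAut]; exact orderOf_dvd_natCard _
  have h3 : Nat.Coprime (p ^ k) (p - 1) := by
    apply Nat.Coprime.pow_left
    rw [Nat.Prime.coprime_iff_not_dvd hp.out]
    exact Nat.not_dvd_of_pos_of_lt (Nat.sub_pos_of_lt hp.out.one_lt)
      (Nat.sub_lt hp.out.pos one_pos)
  have h4 : orderOf (MulAut.conjNormal g : MulAut N) = 1 :=
    Nat.eq_one_of_dvd_coprimes h3 h1 h2
  rw [orderOf_eq_one_iff] at h4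
  have h5 : (MulAut.conjNormal g : MulAut N) ⟨n, hn⟩ = ⟨n, hn⟩ := by rw [h4]; rfl
  have h6 := congrArg Subtype.val h5
  rw [MulAut.conjNormal_apply] at h6
  simp only at h6
  calc g * n = g * n * g⁻¹ * g := by group
    _ = n * g := by rw [h6]

/-- If `S` is a normal subgroup and `P ⧸ S` is commutative then `commutator P ≤ S`. -/
theorem commutator_le_of_quotient_comm (S : Subgroup P) [S.Normal]
    (h : ∀ a b : P ⧸ S, a * b = b * a) : commutator P ≤ S := by
  rw [commutator_def, Subgroup.commutator_le]
  intro x _ y _
  rw [← QuotientGroup.eq_one_iff, commutatorElement_def, QuotientGroup.mk_mul, QuotientGroup.mk_mul,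
    QuotientGroup.mk_mul, QuotientGroup.mk_inv, QuotientGroup.mk_inv, h (x : P ⧸ S) (y : P ⧸ S)]
  group

theorem central_normal (S : Subgroup P) (h : S ≤ Subgroup.center P) : S.Normal := by
  constructor
  intro n hn g
  have h1 := Subgroup.mem_center_iff.mp (h hn) g
  rw [h1]
  simpa using hn

theorem mem_center_of_centralizer_eq_top (a : P)
    (h : Subgroup.centralizer ({a} : Set P) = ⊤) : a ∈ Subgroup.center P := by
  rw [Subgroup.mem_center_iff]
  intro g
  have h1 : g ∈ Subgroup.centralizer ({a} : Set P) := by rw [h]; trivial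
  rw [Subgroup.mem_centralizer_iff] at h1
  exact (h1 a rfl).symm

section order_p4

variable [Finite P] {p : ℕ} [hp : Fact p.Prime]

/-- In a group of order `p ^ 4` whose centre has index `p ^ 2`, the derived subgroup has
order `p`. -/
theorem card_commutator_of_center_index_sq (hP : Nat.card P = p ^ 4)
    (hZ : (Subgroup.center P).index = p ^ 2) : Nat.card (commutator P) = p := by
  classical
  have hp1 := hp.out.one_lt
  have hppos := hp.out.pos
  have hcardZ : Nat.card (Subgroup.center P) = p ^ 2 := by
    have h1 := Subgroup.card_mul_index (Subgroup.center P)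
    rw [hP, hZ] at h1
    have h2 : Nat.card (Subgroup.center P) * p ^ 2 = p ^ 2 * p ^ 2 := by rw [h1]; ring
    exact Nat.eq_of_mul_eq_mul_right (by positivity) h2
  have hquot : Nat.card (P ⧸ Subgroup.center P) = p ^ 2 := by
    rw [← Subgroup.index_eq_card, hZ]
  have hPZ : commutator P ≤ Subgroup.center P :=
    commutator_le_of_quotient_comm _
      (IsPGroup.isMulCommutative_of_card_eq_prime_sq hquot).is_comm.comm
  have hcomm : ∀ x y : P, ⁅x, y⁆ ∈ Subgroup.center P := by
    intro x y
    apply hPZ
    rw [commutator_def]
    exact Subgroup.commutator_mem_commutator (Subgroup.mem_top x) (Subgroup.mem_top y)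
  -- a noncentral element
  have hZtop : Subgroup.center P ≠ ⊤ := by
    intro h
    rw [← Subgroup.index_eq_one, hZ] at h
    have : 1 < p ^ 2 := Nat.one_lt_pow (by norm_num) hp1
    omega
  obtain ⟨a, ha⟩ : ∃ a : P, a ∉ Subgroup.center P := by
    by_contra hall
    push Not at hall
    exact hZtop (Subgroup.eq_top_iff' _ |>.mpr hall)
  set f := commHom a (hcomm a) with hf
  set C := Subgroup.centralizer ({a} : Set P) with hC
  have hker : f.ker = C := commHom_ker a (hcomm a)
  have hZC : Subgroup.center P < C := by
    refine lt_of_le_of_ne (Subgroup.center_le_centralizer _) ?_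
    intro h
    apply ha
    rw [h, hC, Subgroup.mem_centralizer_iff]
    intro x hx
    rw [Set.mem_singleton_iff] at hx
    rw [hx]
  have hCtop : C ≠ ⊤ := fun h => ha (mem_center_of_centralizer_eq_top a h)
  obtain ⟨k, hk4, hk⟩ := card_subgroup_eq_pow hp.out hP C
  have hk2 : 2 < k := by
    have h1 := card_lt_of_lt hZC
    rw [hcardZ, hk] at h1
    exact (Nat.pow_lt_pow_iff_right hp1).mp h1
  have hk3 : k = 3 := by
    rcases Nat.lt_or_ge k 4 with h | h
    · omega
    · exfalso
      have hk' : k = 4 := le_antisymm hk4 h
      apply hCtop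
      apply Subgroup.eq_top_of_card_eq
      rw [hk, hk', hP]
  have hCidx : C.index = p := by
    have h1 := Subgroup.card_mul_index C
    rw [hP, hk, hk3] at h1
    have h2 : p ^ 3 * C.index = p ^ 3 * p := by rw [h1]; ring
    exact Nat.eq_of_mul_eq_mul_left (by positivity) h2
  have hScard : Nat.card f.range = p := by
    rw [← Subgroup.index_ker, hker, hCidx]
  have hSZ : f.range ≤ Subgroup.center P := by
    rintro _ ⟨y, rfl⟩
    exact hcomm a y
  have hSn : f.range.Normal := central_normal _ hSZ
  -- T = preimage of the centre of P ⧸ S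
  set T := (Subgroup.center (P ⧸ f.range)).comap (QuotientGroup.mk' f.range) with hT
  have hZT : Subgroup.center P ≤ T := by
    intro z hz
    rw [hT, Subgroup.mem_comap, Subgroup.mem_center_iff]
    intro g
    obtain ⟨g, rfl⟩ := QuotientGroup.mk'_surjective _ g
    rw [← map_mul, ← map_mul, Subgroup.mem_center_iff.mp hz g]
  have haT : a ∈ T := by
    rw [hT, Subgroup.mem_comap, Subgroup.mem_center_iff]
    intro g
    obtain ⟨g, rfl⟩ := QuotientGroup.mk'_surjective _ g
    have h1 : (QuotientGroup.mk' f.range) ⁅a, g⁆ = 1 := by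
      rw [QuotientGroup.mk'_apply, QuotientGroup.eq_one_iff]
      exact ⟨g, rfl⟩
    rw [map_commutatorElement, commutatorElement_eq_one_iff_mul_comm] at h1
    exact h1.symm
  have hZT' : Subgroup.center P < T :=
    lt_of_le_of_ne hZT (fun h => ha (h ▸ haT))
  obtain ⟨j, hj4, hj⟩ := card_subgroup_eq_pow hp.out hP T
  have hj2 : 2 < j := by
    have h1 := card_lt_of_lt hZT'
    rw [hcardZ, hj] at h1
    exact (Nat.pow_lt_pow_iff_right hp1).mp h1
  have hTidx : T.index ∣ p := by
    have h1 := Subgroup.card_mul_index T
    rw [hP, hj] at h1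
    have hj' : j = 3 ∨ j = 4 := by omega
    rcases hj' with rfl | rfl
    · have h2 : p ^ 3 * T.index = p ^ 3 * p := by rw [h1]; ring
      rw [Nat.eq_of_mul_eq_mul_left (by positivity) h2]
    · have h2 : p ^ 4 * T.index = p ^ 4 * 1 := by rw [h1]; ring
      rw [Nat.eq_of_mul_eq_mul_left (by positivity) h2]
      exact one_dvd _
  have hcidx : (Subgroup.center (P ⧸ f.range)).index ∣ p := by
    rw [← Subgroup.index_comap_of_surjective _ (QuotientGroup.mk'_surjective f.range)]
    exact hTidx
  have hPS : commutator P ≤ f.range :=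
    commutator_le_of_quotient_comm _ (comm_of_center_index_dvd_prime hp.out hcidx)
  have hne : commutator P ≠ ⊥ := by
    intro h
    apply ha
    rw [Subgroup.mem_center_iff]
    intro g
    have h1 : ⁅g, a⁆ ∈ commutator P := by
      rw [commutator_def]
      exact Subgroup.commutator_mem_commutator (Subgroup.mem_top g) (Subgroup.mem_top a)
    rw [h, Subgroup.mem_bot, commutatorElement_eq_one_iff_mul_comm] at h1
    exact h1
  have hdvd : Nat.card (commutator P) ∣ p := by
    rw [← hScard]; exact Subgroup.card_dvd_of_le hPS
  rcases (Nat.dvd_prime hp.out).mp hdvd with h | h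
  · exact absurd (Subgroup.card_eq_one.mp h) hne
  · exact h

/-- A group of order `p ^ 3` whose centre has order at least `p ^ 2` is commutative. -/
theorem comm_of_card_cube (hQ : Nat.card P = p ^ 3)
    (h : p ^ 2 ≤ Nat.card (Subgroup.center P)) (a b : P) : a * b = b * a := by
  have hp1 := hp.out.one_lt
  obtain ⟨k, hk3, hk⟩ := card_subgroup_eq_pow hp.out hQ (Subgroup.center P)
  have hk2 : 2 ≤ k := by
    rw [hk] at h
    exact (Nat.pow_le_pow_iff_right hp1).mp h
  have h1 := Subgroup.card_mul_index (Subgroup.center P)
  rw [hQ, hk] at h1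
  apply comm_of_center_index_dvd_prime hp.out
  have hk' : k = 2 ∨ k = 3 := by omega
  rcases hk' with rfl | rfl
  · have h2 : p ^ 2 * (Subgroup.center P).index = p ^ 2 * p := by rw [h1]; ring
    rw [Nat.eq_of_mul_eq_mul_left (by positivity) h2]
  · have h2 : p ^ 3 * (Subgroup.center P).index = p ^ 3 * 1 := by rw [h1]; ring
    rw [Nat.eq_of_mul_eq_mul_left (by positivity) h2]
    exact one_dvd _

/-- In a group of order `p ^ 4` whose derived subgroup has order `p`, the centre has index
`p ^ 2`. -/
theorem center_index_of_card_commutator (hP : Nat.card P = p ^ 4)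
    (hc : Nat.card (commutator P) = p) : (Subgroup.center P).index = p ^ 2 := by
  classical
  have hp1 := hp.out.one_lt
  have hppos := hp.out.pos
  have hPp : IsPGroup p P := IsPGroup.of_card hP
  have hPZ : commutator P ≤ Subgroup.center P := normal_card_prime_le_center hPp _ hc
  have hcomm : ∀ x y : P, ⁅x, y⁆ ∈ Subgroup.center P := by
    intro x y
    apply hPZ
    rw [commutator_def]
    exact Subgroup.commutator_mem_commutator (Subgroup.mem_top x) (Subgroup.mem_top y)
  have hcomm' : ∀ x y : P, ⁅x, y⁆ ∈ commutator P := by
    intro x y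
    rw [commutator_def]
    exact Subgroup.commutator_mem_commutator (Subgroup.mem_top x) (Subgroup.mem_top y)
  -- P is not commutative
  have hnc : ¬ ∀ a b : P, a * b = b * a := by
    intro h
    have h1 : commutator P = ⊥ := by
      rw [eq_bot_iff, commutator_def, Subgroup.commutator_le]
      intro x _ y _
      rw [Subgroup.mem_bot, commutatorElement_eq_one_iff_mul_comm]
      exact h x y
    rw [h1, Subgroup.card_bot] at hc
    omega
  have hZtop : Subgroup.center P ≠ ⊤ := by
    intro h
    apply hnc
    intro a b
    have ha : a ∈ Subgroup.center P := by rw [h]; trivial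
    exact (Subgroup.mem_center_iff.mp ha b).symm
  -- centralizers of noncentral elements have order p ^ 3
  have hcent : ∀ x : P, x ∉ Subgroup.center P →
      Nat.card (Subgroup.centralizer ({x} : Set P)) = p ^ 3 ∧
        (Subgroup.centralizer ({x} : Set P)).index = p := by
    intro x hx
    have hker := commHom_ker x (hcomm x)
    have hrange : (commHom x (hcomm x)).range ≤ commutator P := by
      rintro _ ⟨y, rfl⟩
      exact hcomm' x y
    have h1 : (Subgroup.centralizer ({x} : Set P)).index ∣ p := by
      rw [← hker, Subgroup.index_ker, ← hc]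
      exact Subgroup.card_dvd_of_le hrange
    have h2 : (Subgroup.centralizer ({x} : Set P)).index ≠ 1 := by
      rw [Ne, Subgroup.index_eq_one]
      exact fun h => hx (mem_center_of_centralizer_eq_top x h)
    have h3 : (Subgroup.centralizer ({x} : Set P)).index = p := by
      rcases (Nat.dvd_prime hp.out).mp h1 with h | h
      · exact absurd h h2
      · exact h
    refine ⟨?_, h3⟩
    have h4 := Subgroup.card_mul_index (Subgroup.centralizer ({x} : Set P))
    rw [hP, h3] at h4
    have h5 : Nat.card (Subgroup.centralizer ({x} : Set P)) * p = p ^ 3 * p := by rw [h4]; ring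
    exact Nat.eq_of_mul_eq_mul_right hppos h5
  obtain ⟨a, ha4, hacard⟩ := card_subgroup_eq_pow hp.out hP (Subgroup.center P)
  have hidx : Nat.card (Subgroup.center P) * (Subgroup.center P).index = p ^ 4 := by
    rw [Subgroup.card_mul_index, hP]
  -- a ≥ 1
  have ha1 : 1 ≤ a := by
    by_contra h
    have ha0 : a = 0 := by omega
    have h1 := Subgroup.card_dvd_of_le hPZ
    rw [hc, hacard, ha0, pow_zero, Nat.dvd_one] at h1
    omega
  -- a ≠ 4
  have ha4' : a ≠ 4 := by
    intro h
    apply hZtop
    apply Subgroup.eq_top_of_card_eq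
    rw [hacard, h, hP]
  -- a ≠ 3
  have ha3 : a ≠ 3 := by
    intro h
    apply hnc
    apply comm_of_center_index_dvd_prime hp.out
    rw [hacard, h] at hidx
    have h2 : p ^ 3 * (Subgroup.center P).index = p ^ 3 * p := by rw [hidx]; ring
    rw [Nat.eq_of_mul_eq_mul_left (by positivity) h2]
  -- a ≠ 1
  have ha1' : a ≠ 1 := by
    intro h
    rw [h, pow_one] at hacard
    obtain ⟨x, hx⟩ : ∃ x : P, x ∉ Subgroup.center P := by
      by_contra hall
      push Not at hall
      exact hZtop (Subgroup.eq_top_iff' _ |>.mpr hall)
    set M := Subgroup.centralizer ({x} : Set P) with hM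
    obtain ⟨hMcard, hMidx⟩ := hcent x hx
    have hMtop : M ≠ ⊤ := fun h => hx (mem_center_of_centralizer_eq_top x h)
    obtain ⟨y, hy⟩ : ∃ y : P, y ∉ M := by
      by_contra hall
      push Not at hall
      exact hMtop (Subgroup.eq_top_iff' _ |>.mpr hall)
    have hZM : Subgroup.center P ≤ M := Subgroup.center_le_centralizer _
    have hyZ : y ∉ Subgroup.center P := fun h => hy (hZM h)
    obtain ⟨hCycard, hCyidx⟩ := hcent y hyZ
    set D := M ⊓ Subgroup.centralizer ({y} : Set P) with hD
    -- M is commutative
    have hxM : x ∈ M := by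
      rw [hM, Subgroup.mem_centralizer_iff]
      intro z hz
      rw [Set.mem_singleton_iff] at hz
      rw [hz]
    have hMcomm : ∀ u v : M, u * v = v * u := by
      apply comm_of_card_cube (p := p) hMcard
      set W := Subgroup.center P ⊔ Subgroup.zpowers x with hW
      have hWM : W ≤ M := sup_le hZM (by rw [Subgroup.zpowers_le]; exact hxM)
      have hZW : Subgroup.center P < W := by
        refine lt_of_le_of_ne le_sup_left ?_
        intro h
        apply hx
        rw [h]
        exact le_sup_right (a := Subgroup.center P) (Subgroup.mem_zpowers x)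
      have hWcard : p ^ 2 ≤ Nat.card W := by
        obtain ⟨j, _, hj⟩ := card_subgroup_eq_pow hp.out hP W
        have h1 := card_lt_of_lt hZW
        rw [hacard, hj] at h1
        rw [hj]
        have h2 : 1 < j := by
          by_contra hj1
          have : j ≤ 1 := by omega
          have h3 : p ^ j ≤ p ^ 1 := Nat.pow_le_pow_right hppos this
          rw [pow_one] at h3
          omega
        exact Nat.pow_le_pow_right hppos h2
      have hWcent : W.subgroupOf M ≤ Subgroup.center M := by
        intro w hw
        rw [Subgroup.mem_subgroupOf] at hw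
        rw [Subgroup.mem_center_iff]
        intro m
        apply Subtype.ext
        simp only [Subgroup.coe_mul]
        -- (w : P) ∈ W commutes with (m : P) ∈ M
        have hcentW : W ≤ Subgroup.centralizer ({(m : P)} : Set P) := by
          apply sup_le (Subgroup.center_le_centralizer _)
          rw [Subgroup.zpowers_le, Subgroup.mem_centralizer_iff]
          intro z hz
          rw [Set.mem_singleton_iff] at hz
          rw [hz]
          have hm' : (m : P) ∈ Subgroup.centralizer ({x} : Set P) := m.2
          rw [Subgroup.mem_centralizer_iff] at hm'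
          exact (hm' x rfl).symm
        have := hcentW hw
        rw [Subgroup.mem_centralizer_iff] at this
        exact this _ rfl
      calc p ^ 2 ≤ Nat.card W := hWcard
        _ = Nat.card (W.subgroupOf M) :=
          (Nat.card_congr (Subgroup.subgroupOfEquivOfLe hWM).toEquiv).symm
        _ ≤ Nat.card (Subgroup.center M) := Subgroup.card_le_of_le hWcent
    -- D is central
    have hDZ : D ≤ Subgroup.center P := by
      intro d hd
      obtain ⟨hd1, hd2⟩ := Subgroup.mem_inf.mp hd
      apply mem_center_of_centralizer_eq_top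
      have hMle : M ≤ Subgroup.centralizer ({d} : Set P) := by
        intro m hm
        rw [Subgroup.mem_centralizer_iff]
        intro z hz
        rw [Set.mem_singleton_iff] at hz
        rw [hz]
        have := hMcomm ⟨d, hd1⟩ ⟨m, hm⟩
        exact congrArg Subtype.val this
      have hyd : y ∈ Subgroup.centralizer ({d} : Set P) := by
        rw [Subgroup.mem_centralizer_iff]
        intro z hz
        rw [Set.mem_singleton_iff] at hz
        rw [hz]
        rw [Subgroup.mem_centralizer_iff] at hd2
        exact (hd2 y rfl).symm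
      have hlt : M < Subgroup.centralizer ({d} : Set P) :=
        lt_of_le_of_ne hMle (fun h => hy (h ▸ hyd))
      obtain ⟨j, hj4, hj⟩ := card_subgroup_eq_pow hp.out hP (Subgroup.centralizer ({d} : Set P))
      have h1 := card_lt_of_lt hlt
      rw [hMcard, hj] at h1
      have h2 : 3 < j := (Nat.pow_lt_pow_iff_right hp1).mp h1
      apply Subgroup.eq_top_of_card_eq
      rw [hj, hP]
      congr 1
      omega
    -- but D is large
    have hDidx : D.index ≤ p * p := by
      have := Subgroup.index_inf_le (H := M) (K := Subgroup.centralizer ({y} : Set P))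
      rwa [hMidx, hCyidx] at this
    have hDcard := Subgroup.card_le_of_le hDZ
    rw [hacard] at hDcard
    have h1 := Subgroup.card_mul_index D
    rw [hP] at h1
    have h2 : p ^ 4 ≤ p * (p * p) := by
      calc p ^ 4 = Nat.card D * D.index := h1.symm
        _ ≤ p * (p * p) := Nat.mul_le_mul hDcard hDidx
    have h3 : p * (p * p) < p ^ 4 := by
      have : p ^ 4 = p * (p * (p * p)) := by ring
      rw [this]
      apply Nat.mul_lt_mul_of_pos_left _ hppos
      nlinarith
    omega
  have ha2 : a = 2 := by omega
  rw [hacard, ha2] at hidx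
  have h2 : p ^ 2 * (Subgroup.center P).index = p ^ 2 * p ^ 2 := by rw [hidx]; ring
  exact Nat.eq_of_mul_eq_mul_left (by positivity) h2

end order_p4

end Cfsg.Agent.Helper76
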