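import Mathlib
import Cfsg.Agent.Helper94.S43Defs

/-!
# helper76: CALL S43 (helper94), PIECE QALG — multiplication and commutators of the unipotent
block matrices `qmat`.
-/

set_option autoImplicit false

namespace Cfsg.Agent.Helper76.S43QALG

open Matrix Cfsg.Agent.Helper71.T4 Cfsg.Agent.Helper94.S43
open Cfsg.Agent.Helper71.SO (bl ruw Nuw)
open scoped Kronecker

variable {F : Type*} [Field F]

theorem qmat_mul (X₁ X₂ Z Y₁ Y₂ X₁' X₂' Z' Y₁' Y₂' : Matrix (Fin 3) (Fin 3) F) :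
    qmat X₁ X₂ Z Y₁ Y₂ * qmat X₁' X₂' Z' Y₁' Y₂'
      = qmat (X₁ + X₁') (X₂ + X₂') (Z + Z' + X₁ * Y₁' + X₂ * Y₂') (Y₁ + Y₁') (Y₂ + Y₂') := by
  unfold qmat
  simp only [Matrix.add_mul, Matrix.mul_add, Matrix.one_mul, Matrix.mul_one, EK_mul, EK_add]
  simp only [show ((1 : Fin 4) = 0) = False from by decide, show ((2 : Fin 4) = 0) = False from by decide,
    show ((3 : Fin 4) = 0) = False from by decide, show ((3 : Fin 4) = 1) = False from by decide,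
    show ((3 : Fin 4) = 2) = False from by decide, show ((2 : Fin 4) = 1) = False from by decide,
    show ((1 : Fin 4) = 2) = False from by decide, if_true, if_false, add_zero]
  abel

theorem qmat_comm (ρ ρ' : GL (Fin 4 × Fin 3) F)
    (X₁ X₂ Z Y₁ Y₂ X₁' X₂' Z' Y₁' Y₂' : Matrix (Fin 3) (Fin 3) F)
    (h : (ρ : Matrix (Fin 4 × Fin 3) (Fin 4 × Fin 3) F) = qmat X₁ X₂ Z Y₁ Y₂)
    (h' : (ρ' : Matrix (Fin 4 × Fin 3) (Fin 4 × Fin 3) F) = qmat X₁' X₂' Z' Y₁' Y₂') :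
    ((ρ * ρ' * ρ⁻¹ * ρ'⁻¹ : GL (Fin 4 × Fin 3) F) : Matrix (Fin 4 × Fin 3) (Fin 4 × Fin 3) F)
      = X4 (X₁ * Y₁' + X₂ * Y₂' - X₁' * Y₁ - X₂' * Y₂) := by
  have key : X4 (X₁ * Y₁' + X₂ * Y₂' - X₁' * Y₁ - X₂' * Y₂) *
      ((ρ' * ρ : GL (Fin 4 × Fin 3) F) : Matrix (Fin 4 × Fin 3) (Fin 4 × Fin 3) F)
        = ((ρ * ρ' : GL (Fin 4 × Fin 3) F) : Matrix (Fin 4 × Fin 3) (Fin 4 × Fin 3) F) := by
    rw [Units.val_mul, Units.val_mul, h, h', qmat_mul, qmat_mul, ← qmat_X4, qmat_mul]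
    congr 1
    · rw [zero_add, add_comm]
    · rw [zero_add, add_comm]
    · simp only [zero_mul, add_zero]
      abel
    · rw [zero_add, add_comm]
    · rw [zero_add, add_comm]
  have e : (ρ * ρ' * ρ⁻¹ * ρ'⁻¹ : GL (Fin 4 × Fin 3) F) = (ρ * ρ') * (ρ' * ρ)⁻¹ := by
    group
  rw [e, Units.val_mul, ← key, Matrix.mul_assoc, ← Units.val_mul, mul_inv_cancel, Units.val_one,
    Matrix.mul_one]

end Cfsg.Agent.Helper76.S43QALG
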