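import Mathlib
import Cfsg.Agent.Helper75.Eigen

/-!
# Integrality tools for characters (helper76)

* `multiset_sum_pow_prime_pow`: freshman's dream modulo `p` for a multiset of algebraic integers.
* `char_pow_prime_pow`: `χ(x) ^ (p ^ a) = χ(x ^ (p ^ a)) + p * w` with `w` an algebraic integer.
* `isIntegral_average_char`: for a subgroup (or any homomorphic image) `S` commuting with `u`,
  the average `|S|⁻¹ ∑_{s ∈ S} χ(u s)` is an algebraic integer (it is the trace of `u` on the
  `S`-fixed points).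
* `dvd_of_natCast_eq_mul_isIntegral`: if `(n : ℂ) = p * w` with `w` an algebraic integer, then
  `p ∣ n`.
-/

set_option autoImplicit false

namespace Cfsg.Agent.Helper76

/-- Freshman's dream modulo `p` for a multiset of algebraic integers. -/
theorem multiset_sum_pow_prime_pow (p : ℕ) (hp : p.Prime) (a : ℕ) (s : Multiset ℂ) :
    (∀ μ ∈ s, IsIntegral ℤ μ) →
    ∃ w : ℂ, IsIntegral ℤ w ∧ s.sum ^ (p ^ a) = (s.map (fun μ => μ ^ (p ^ a))).sum + (p : ℂ) * w := by
  induction s using Multiset.induction_on with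
  | empty =>
    intro _
    refine ⟨0, isIntegral_zero, ?_⟩
    rw [Multiset.sum_zero, Multiset.map_zero, Multiset.sum_zero, mul_zero, add_zero]
    exact zero_pow (pow_pos hp.pos a).ne'
  | cons μ s ih =>
    intro h
    have hμ : IsIntegral ℤ μ := h μ (Multiset.mem_cons_self μ s)
    have hs : ∀ ν ∈ s, IsIntegral ℤ ν := fun ν hν => h ν (Multiset.mem_cons_of_mem hν)
    have hsum : IsIntegral ℤ s.sum := IsIntegral.multiset_sum hs
    obtain ⟨w, hw, hw2⟩ := ih hs
    obtain ⟨r, hr⟩ := exists_add_pow_prime_pow_eq hp (⟨μ, hμ⟩ : integralClosure ℤ ℂ)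
      (⟨s.sum, hsum⟩ : integralClosure ℤ ℂ) a
    have hr' := congrArg (fun t : integralClosure ℤ ℂ => (t : ℂ)) hr
    have hpc : ((p : integralClosure ℤ ℂ) : ℂ) = (p : ℂ) :=
      map_natCast (integralClosure ℤ ℂ).val p
    simp only [Subalgebra.coe_add, Subalgebra.coe_pow, Subalgebra.coe_mul, hpc] at hr'
    refine ⟨w + μ * s.sum * (r : ℂ), ?_, ?_⟩
    · exact hw.add ((hμ.mul hsum).mul r.2)
    · rw [Multiset.sum_cons, Multiset.map_cons, Multiset.sum_cons, hr', hw2]
      ring

/-- A root of unity is an algebraic integer. -/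
theorem isIntegral_of_pow_eq_one' {μ : ℂ} {m : ℕ} (hm : m ≠ 0) (h : μ ^ m = 1) :
    IsIntegral ℤ μ := by
  apply IsIntegral.of_pow (Nat.pos_of_ne_zero hm)
  rw [h]
  exact isIntegral_one

/-- `χ(x) ^ (p ^ a) = χ(x ^ (p ^ a)) + p * w` with `w` an algebraic integer. -/
theorem char_pow_prime_pow {G : Type*} [Group G] [Finite G] {V : Type*} [AddCommGroup V]
    [Module ℂ V] [FiniteDimensional ℂ V] (ρ : Representation ℂ G V) (p : ℕ) (hp : p.Prime)
    (a : ℕ) (x : G) :
    ∃ w : ℂ, IsIntegral ℤ w ∧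
      ρ.character x ^ (p ^ a) = ρ.character (x ^ (p ^ a)) + (p : ℂ) * w := by
  have hm : Nat.card G ≠ 0 := Nat.card_pos.ne'
  have hf : (ρ x) ^ Nat.card G = 1 := by
    rw [← map_pow, pow_card_eq_one', map_one]
  obtain ⟨s, hs1, -, hs3⟩ := Cfsg.Agent.Helper75.exists_eigen_multiset (ρ x) (Nat.card G) hm hf
  obtain ⟨w, hw, hw2⟩ := multiset_sum_pow_prime_pow p hp a s
    (fun μ hμ => isIntegral_of_pow_eq_one' hm (hs1 μ hμ))
  refine ⟨w, hw, ?_⟩
  have h1 : ρ.character x = s.sum := by
    unfold Representation.character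
    have h := hs3 1
    rw [pow_one] at h
    rw [h]
    congr 1
    simp
  have h2 : ρ.character (x ^ (p ^ a)) = (s.map (fun μ => μ ^ (p ^ a))).sum := by
    unfold Representation.character
    rw [map_pow, hs3]
  rw [h1, h2, hw2]

/-- For a group `S` mapping into the centralizer of `u`, the average `|S|⁻¹ ∑_{s ∈ S} χ(u s)` is
an algebraic integer: it is the trace of `u` on the space of `S`-fixed points. -/
theorem isIntegral_average_char {G S : Type*} [Group G] [Group S] [Fintype S]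
    {V : Type*} [AddCommGroup V] [Module ℂ V] [FiniteDimensional ℂ V]
    (ρ : Representation ℂ G V) (j : S →* G) (u : G) (hu : ∀ s, j s * u = u * j s) (m : ℕ)
    (hm : m ≠ 0) (hum : u ^ m = 1) :
    IsIntegral ℤ ((Fintype.card S : ℂ)⁻¹ * ∑ s : S, ρ.character (u * j s)) := by
  classical
  set W : Submodule ℂ V :=
    Representation.invariants (MonoidHom.comp ρ j : Representation ℂ S V) with hW
  have hWmem : ∀ w, w ∈ W ↔ ∀ s, ρ (j s) w = w := fun w =>
    Representation.mem_invariants (MonoidHom.comp ρ j : Representation ℂ S V) w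
  set e : Module.End ℂ V := (Fintype.card S : ℂ)⁻¹ • ∑ s : S, ρ (j s) with he
  have hcard : (Fintype.card S : ℂ) ≠ 0 := by exact_mod_cast Fintype.card_ne_zero
  have he_mem : ∀ v, e v ∈ W := by
    intro v
    rw [hWmem]
    intro t
    rw [he]
    simp only [LinearMap.smul_apply, LinearMap.sum_apply, map_smul, map_sum]
    congr 1
    rw [← Equiv.sum_comp (Equiv.mulLeft t) (fun s => ρ (j s) v)]
    apply Finset.sum_congr rfl
    intro s _
    simp only [Equiv.coe_mulLeft, map_mul, Module.End.mul_apply]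
  have he_id : ∀ w ∈ W, e w = w := by
    intro w hw
    rw [hWmem] at hw
    rw [he]
    simp only [LinearMap.smul_apply, LinearMap.sum_apply, hw, Finset.sum_const, Finset.card_univ]
    rw [← Nat.cast_smul_eq_nsmul ℂ, smul_smul, inv_mul_cancel₀ hcard, one_smul]
  have hT_mem : ∀ w ∈ W, ρ u w ∈ W := by
    intro w hw
    rw [hWmem] at hw ⊢
    intro s
    rw [← Module.End.mul_apply, ← map_mul, hu s, map_mul, Module.End.mul_apply, hw s]
  have hf_mem : ∀ v, (ρ u * e) v ∈ W := fun v => hT_mem _ (he_mem v)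
  have htr1 : LinearMap.trace ℂ V (ρ u * e) =
      (Fintype.card S : ℂ)⁻¹ * ∑ s : S, ρ.character (u * j s) := by
    rw [he, mul_smul_comm, map_smul, smul_eq_mul, Finset.mul_sum, map_sum]
    congr 1
    apply Finset.sum_congr rfl
    intro s _
    unfold Representation.character
    rw [map_mul ρ u (j s)]
  rw [← htr1]
  have htr2 := LinearMap.trace_restrict_eq_of_forall_mem W (ρ u * e) hf_mem
  rw [← htr2]
  have hrestrict : (ρ u * e).restrict (fun x _ => hf_mem x) = (ρ u).restrict hT_mem := by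
    ext w
    simp only [LinearMap.restrict_apply, Module.End.mul_apply]
    rw [he_id w w.2]
  rw [hrestrict]
  have hpow : ((ρ u).restrict hT_mem) ^ m = 1 := by
    ext w
    rw [Module.End.pow_restrict, LinearMap.restrict_apply]
    simp only [Module.End.one_apply]
    rw [← map_pow, hum, map_one, Module.End.one_apply]
  obtain ⟨s, hs1, -, hs3⟩ :=
    Cfsg.Agent.Helper75.exists_eigen_multiset ((ρ u).restrict hT_mem) m hm hpow
  have h1 := hs3 1
  rw [pow_one] at h1
  rw [h1]
  apply IsIntegral.multiset_sum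
  intro x hx
  rw [Multiset.mem_map] at hx
  obtain ⟨μ, hμ, rfl⟩ := hx
  rw [pow_one]
  exact isIntegral_of_pow_eq_one' hm (hs1 μ hμ)

/-- If `(n : ℂ) = p * w` with `w` an algebraic integer and `p ≠ 0`, then `p ∣ n`. -/
theorem dvd_of_natCast_eq_mul_isIntegral (n p : ℕ) (hp : p ≠ 0) (w : ℂ) (hw : IsIntegral ℤ w)
    (h : (n : ℂ) = (p : ℂ) * w) : p ∣ n := by
  have hp0 : (p : ℂ) ≠ 0 := by exact_mod_cast hp
  have hp0' : (p : ℚ) ≠ 0 := by exact_mod_cast hp
  have hw' : w = algebraMap ℚ ℂ ((n : ℚ) / (p : ℚ)) := by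
    have h1 : w = (n : ℂ) / (p : ℂ) := by
      rw [h]
      field_simp
    rw [h1]
    simp
  rw [hw'] at hw
  have hint2 : IsIntegral ℤ ((n : ℚ) / (p : ℚ)) :=
    (isIntegral_algebraMap_iff (algebraMap ℚ ℂ).injective).1 hw
  obtain ⟨k, hk⟩ := IsIntegrallyClosed.isIntegral_iff.1 hint2
  have hk2 : (n : ℚ) = (k : ℚ) * (p : ℚ) := by
    have h2 : (algebraMap ℤ ℚ) k = (k : ℚ) := rfl
    rw [h2] at hk
    rw [hk]
    field_simp
  have hk3 : (n : ℤ) = k * (p : ℤ) := by exact_mod_cast hk2
  have h4 : ((p : ℕ) : ℤ) ∣ ((n : ℕ) : ℤ) := ⟨k, by rw [hk3]; ring⟩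
  exact Int.natCast_dvd_natCast.mp h4

end Cfsg.Agent.Helper76
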