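import Mathlib
import Cfsg.Prelude.Def_Characters

/-!
# Central elements and irreducible characters (helper76)

* `schur_scalar`: Schur's lemma (an endomorphism commuting with an irreducible complex
  representation is a scalar).
* `central_scalar`: a central element `z` multiplies the character of an irreducible
  representation by a scalar: `χ (g * z) = c * χ g`.
* `irr_one_ne_zero`: `χ 1 ≠ 0` for an irreducible character.
* `exists_central_scalar`: for a homomorphism `ι : Z →* G` with central image and an irreducible
  character `χ` of `G`, a function `c : Z → ℂ` with `χ (g * ι z) = c z * χ g`.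
* `scalar_mul`, `scalar_pow`, `scalar_norm`: such a `c` is multiplicative, with values of
  absolute value `1` when `Z` is finite.
* `sum_scalar_dichotomy`: orthogonality for two such multiplicative functions.
-/

set_option autoImplicit false

namespace Cfsg.Agent.Helper76

open scoped ComplexConjugate

/-- Schur's lemma: an endomorphism commuting with an irreducible complex representation is a
scalar. -/
theorem schur_scalar {G : Type*} [Group G] {V : Type*} [AddCommGroup V] [Module ℂ V]
    [FiniteDimensional ℂ V] (ρ : Representation ℂ G V) [ρ.IsIrreducible] (T : Module.End ℂ V)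
    (hT : ∀ g, T * ρ g = ρ g * T) : ∃ c : ℂ, T = c • (1 : Module.End ℂ V) := by
  let f : Representation.IntertwiningMap ρ ρ := ⟨T, hT⟩
  obtain ⟨c, hc⟩ :=
    (Representation.IsIrreducible.algebraMap_intertwiningMap_bijective_of_isAlgClosed (ρ := ρ)).2 f
  refine ⟨c, ?_⟩
  have h := congrArg Representation.IntertwiningMap.toLinearMap hc
  rw [Representation.IntertwiningMap.algebraMap_apply] at h
  rw [show f.toLinearMap = T from rfl] at h
  rw [← h]
  rfl

/-- A central element acts by a scalar in an irreducible representation, so translating by it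
multiplies the character by that scalar. -/
theorem central_scalar {G : Type*} [Group G] {V : Type*} [AddCommGroup V] [Module ℂ V]
    [FiniteDimensional ℂ V] (ρ : Representation ℂ G V) [ρ.IsIrreducible] (z : G)
    (hz : z ∈ Subgroup.center G) :
    ∃ c : ℂ, ∀ g, ρ.character (g * z) = c * ρ.character g := by
  obtain ⟨c, hc⟩ := schur_scalar ρ (ρ z) (fun g => by
    rw [← map_mul, ← map_mul, (Subgroup.mem_center_iff.mp hz g)])
  refine ⟨c, fun g => ?_⟩
  unfold Representation.character
  rw [map_mul, hc, mul_smul_comm, mul_one, map_smul, smul_eq_mul]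

/-- The space of an irreducible representation is nonzero, so the degree is nonzero. -/
theorem char_one_ne_zero {G : Type*} [Group G] {V : Type*} [AddCommGroup V] [Module ℂ V]
    [FiniteDimensional ℂ V] (ρ : Representation ℂ G V) [ρ.IsIrreducible] :
    ρ.character 1 ≠ 0 := by
  rw [Representation.char_one]
  intro h
  have h0 : Module.finrank ℂ V = 0 := by exact_mod_cast h
  have hsub : Subsingleton V := Module.finrank_zero_iff.mp h0
  have hne : (⊥ : Subrepresentation ρ) ≠ ⊤ := bot_ne_top
  apply hne
  apply Subrepresentation.toSubmodule_injective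
  exact Subsingleton.elim _ _

/-- `χ 1 ≠ 0` for an irreducible character. -/
theorem irr_one_ne_zero {G : Type*} [Group G] (χ : Cfsg.IrrCharacter G) :
    (χ : G → ℂ) 1 ≠ 0 := by
  obtain ⟨n, ρ, hρ, hχ⟩ := χ.2
  rw [← hχ]
  exact char_one_ne_zero ρ

/-- Irreducible characters are class functions. -/
theorem irr_conj {G : Type*} [Group G] (χ : Cfsg.IrrCharacter G) (g x : G) :
    (χ : G → ℂ) (x * g * x⁻¹) = (χ : G → ℂ) g := by
  obtain ⟨n, ρ, hρ, hχ⟩ := χ.2
  rw [← hχ]
  exact Representation.char_conj ρ g x

/-- For a homomorphism `ι : Z →* G` with central image and an irreducible character `χ` of `G`,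
there is a function `c : Z → ℂ` with `χ (g * ι z) = c z * χ g`. -/
theorem exists_central_scalar {G Z : Type*} [Group G] [Group Z] (ι : Z →* G)
    (hι : ∀ z, ι z ∈ Subgroup.center G) (χ : Cfsg.IrrCharacter G) :
    ∃ c : Z → ℂ, ∀ (z : Z) (g : G), (χ : G → ℂ) (g * ι z) = c z * (χ : G → ℂ) g := by
  obtain ⟨n, ρ, hρ, hχ⟩ := χ.2
  have h : ∀ z : Z, ∃ c : ℂ, ∀ g : G, (χ : G → ℂ) (g * ι z) = c * (χ : G → ℂ) g := by
    intro z
    obtain ⟨c, hc⟩ := central_scalar ρ (ι z) (hι z)
    exact ⟨c, fun g => by rw [← hχ]; exact hc g⟩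
  choose c hc using h
  exact ⟨c, hc⟩

/-- The scalar function of `exists_central_scalar` is multiplicative. -/
theorem scalar_mul {G Z : Type*} [Group G] [Group Z] (ι : Z →* G) (χ : G → ℂ) (h1 : χ 1 ≠ 0)
    (c : Z → ℂ) (hc : ∀ (z : Z) (g : G), χ (g * ι z) = c z * χ g) :
    c 1 = 1 ∧ ∀ z w : Z, c (z * w) = c z * c w := by
  constructor
  · have h := hc 1 1
    rw [map_one, mul_one] at h
    have h2 : (c 1 - 1) * χ 1 = 0 := by rw [sub_mul, one_mul, ← h, sub_self]
    rcases mul_eq_zero.mp h2 with h3 | h3
    · exact sub_eq_zero.mp h3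
    · exact absurd h3 h1
  · intro z w
    have h := hc (z * w) 1
    rw [map_mul, ← mul_assoc, hc w (1 * ι z), hc z 1] at h
    have h2 : (c (z * w) - c z * c w) * χ 1 = 0 := by
      rw [sub_mul, ← h]
      ring
    rcases mul_eq_zero.mp h2 with h3 | h3
    · exact sub_eq_zero.mp h3
    · exact absurd h3 h1

/-- A multiplicative function takes powers to powers. -/
theorem scalar_pow {Z : Type*} [Group Z] (c : Z → ℂ) (h1 : c 1 = 1)
    (hmul : ∀ z w : Z, c (z * w) = c z * c w) (z : Z) (n : ℕ) : c (z ^ n) = c z ^ n := by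
  induction n with
  | zero => rw [pow_zero, pow_zero, h1]
  | succ n ih => rw [pow_succ, pow_succ, hmul, ih]

/-- A multiplicative function on a finite group has values of absolute value `1`. -/
theorem scalar_norm {Z : Type*} [Group Z] [Finite Z] (c : Z → ℂ) (h1 : c 1 = 1)
    (hmul : ∀ z w : Z, c (z * w) = c z * c w) (z : Z) : c z * conj (c z) = 1 := by
  have h2 : c z ^ Nat.card Z = 1 := by
    rw [← scalar_pow c h1 hmul, pow_card_eq_one', h1]
  have h3 : ‖c z‖ = 1 := Complex.norm_eq_one_of_pow_eq_one h2 Nat.card_pos.ne'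
  rw [Complex.mul_conj', h3]
  norm_num

/-- Orthogonality for multiplicative functions: `∑ c conj(l) = 0` unless `c = l`. -/
theorem sum_scalar_dichotomy {Z : Type*} [Group Z] [Fintype Z] (c l : Z → ℂ)
    (hc : ∀ z w : Z, c (z * w) = c z * c w) (hl : ∀ z w : Z, l (z * w) = l z * l w)
    (hl1 : ∀ z : Z, l z * conj (l z) = 1) :
    (∑ z : Z, c z * conj (l z) = 0) ∨ (∀ z : Z, c z = l z) := by
  by_cases h : ∀ z : Z, c z = l z
  · exact Or.inr h
  · left
    push Not at h
    obtain ⟨w, hw⟩ := h
    have h1 : ∑ z : Z, c z * conj (l z) = (c w * conj (l w)) * ∑ z : Z, c z * conj (l z) := by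
      calc ∑ z : Z, c z * conj (l z) = ∑ z : Z, c (z * w) * conj (l (z * w)) :=
            (Equiv.sum_comp (Equiv.mulRight w) (fun z : Z => c z * conj (l z))).symm
        _ = ∑ z : Z, (c w * conj (l w)) * (c z * conj (l z)) := by
            apply Finset.sum_congr rfl
            intro z _
            rw [hc, hl, map_mul]
            ring
        _ = (c w * conj (l w)) * ∑ z : Z, c z * conj (l z) := by rw [← Finset.mul_sum]
    have h2 : (c w * conj (l w) - 1) * ∑ z : Z, c z * conj (l z) = 0 := by
      rw [sub_mul, one_mul, ← h1, sub_self]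
    rcases mul_eq_zero.mp h2 with h3 | h3
    · exfalso
      apply hw
      have h4 : c w * conj (l w) = 1 := sub_eq_zero.mp h3
      calc c w = c w * (l w * conj (l w)) := by rw [hl1, mul_one]
        _ = (c w * conj (l w)) * l w := by ring
        _ = l w := by rw [h4, one_mul]
    · exact h3

end Cfsg.Agent.Helper76
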