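import Mathlib
import Cfsg.Agent.Helper15.D1LDDefs
import Cfsg.Agent.Helper80.LatP6

set_option autoImplicit false
open Cfsg Matrix
open scoped ComplexConjugate

universe u

namespace Cfsg.Agent.Helper76

open Cfsg.Agent.Helper15

/-- a matrix representation affording an irreducible character -/
theorem d1_matrep {H : Type u} [Group H] (η : Cfsg.IrrCharacter H) :
    ∃ (n : ℕ) (ρ : H →* Matrix (Fin n) (Fin n) ℂ),
      (∀ h, (ρ h).trace = (η : H → ℂ) h) ∧ Cfsg.charDegree (η : H → ℂ) = n := by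
  obtain ⟨n, ρ, _, hρ⟩ := η.2
  refine ⟨n, (MonoidHomClass.toMonoidHom
    (LinearMap.toMatrixAlgEquiv' (R := ℂ) (n := Fin n))).comp ρ, ?_, ?_⟩
  · intro h
    rw [← hρ]
    show (LinearMap.toMatrix' (ρ h)).trace = LinearMap.trace ℂ _ (ρ h)
    rw [← Matrix.trace_toLin'_eq, Matrix.toLin'_toMatrix']
  · rw [← hρ]
    exact Helper80.charDegree_rep_character ρ

/-- PIECE LD4 -/
theorem d1_theta_coeff {H K : Type u} [Group H] [Group K] [Finite H] [Finite K] (φ : K →* H)
    (η : Cfsg.IrrCharacter H) (θ : Cfsg.IrrCharacter K) (g : H)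
    (h : ∑ᶠ k : K, (η : H → ℂ) (φ k * g) * conj ((θ : K → ℂ) k) ≠ 0) :
    ∑ᶠ k : K, (η : H → ℂ) (φ k) * conj ((θ : K → ℂ) k) ≠ 0 := by
  classical
  have : Fintype K := Fintype.ofFinite K
  intro h0
  apply h
  rw [finsum_eq_sum_of_fintype] at h0 ⊢
  obtain ⟨n, ρ, hρ, -⟩ := d1_matrep η
  have hidem := Helper80.lat_isoIdem_idem (ρ.comp φ) θ
  have hθinv : ∀ k : K, (θ : K → ℂ) k⁻¹ = conj ((θ : K → ℂ) k) := fun k =>
    Helper80.isCharacter_inv (Helper80.isCharacter_of_irr θ.2) k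
  have htr : (Helper75.isoIdem (ρ.comp φ) (θ : K → ℂ)).trace = 0 := by
    unfold Helper75.isoIdem
    rw [Matrix.trace_smul, Matrix.trace_sum]
    simp only [Matrix.trace_smul, MonoidHom.comp_apply, hρ, hθinv, smul_eq_mul]
    rw [show (∑ k : K, conj ((θ : K → ℂ) k) * (η : H → ℂ) (φ k))
        = ∑ k : K, (η : H → ℂ) (φ k) * conj ((θ : K → ℂ) k) from
          Finset.sum_congr rfl (fun k _ => mul_comm _ _), h0, mul_zero]
  have hzero := Helper80.latP6_idem_trace_zero _ hidem htr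
  unfold Helper75.isoIdem at hzero
  have hcoef : ((θ : K → ℂ) 1 / (Nat.card K : ℂ)) ≠ 0 :=
    div_ne_zero (Helper80.irr_one_ne_zero θ) (by exact_mod_cast Nat.card_pos.ne')
  have hsum : ∑ k : K, (θ : K → ℂ) k⁻¹ • (ρ.comp φ) k = 0 := by
    rcases smul_eq_zero.mp hzero with h1 | h1
    · exact absurd h1 hcoef
    · exact h1
  have h2 := congrArg (fun M => (M * ρ g).trace) hsum
  simp only [Finset.sum_mul, Matrix.smul_mul, Matrix.trace_sum, Matrix.trace_smul,
    MonoidHom.comp_apply, ← map_mul, hρ, hθinv, smul_eq_mul, Matrix.zero_mul,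
    Matrix.trace_zero] at h2
  rw [← h2]
  exact Finset.sum_congr rfl (fun k _ => mul_comm _ _)

end Cfsg.Agent.Helper76
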