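import Mathlib
import Cfsg.Agent.Helper15.D1LDDefs
import Cfsg.Agent.Helper39.LatP7
import Cfsg.Agent.Helper76.D1LD4

set_option autoImplicit false
open Cfsg Matrix
open scoped ComplexConjugate

universe u

namespace Cfsg.Agent.Helper76

open Cfsg.Agent.Helper15

/-- a polynomial in a matrix applied to an eigenvector -/
theorem d1_aeval_eigen {n : ℕ} (A : Matrix (Fin n) (Fin n) ℂ) (r : ℂ) (v : Fin n → ℂ)
    (hv : A *ᵥ v = r • v) (Q : Polynomial ℂ) :
    (Polynomial.aeval A Q) *ᵥ v = (Q.eval r) • v := by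
  have hpow : ∀ k : ℕ, (A ^ k) *ᵥ v = (r ^ k) • v := by
    intro k
    induction k with
    | zero => simp
    | succ k ih =>
      rw [pow_succ, ← Matrix.mulVec_mulVec, hv, Matrix.mulVec_smul, ih, smul_smul, pow_succ,
        mul_comm]
  induction Q using Polynomial.induction_on' with
  | add p q hp hq => rw [map_add, Matrix.add_mulVec, hp, hq, Polynomial.eval_add, add_smul]
  | monomial k c =>
    rw [Polynomial.aeval_monomial, Polynomial.eval_monomial, ← Algebra.smul_def,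
      Matrix.smul_mulVec, hpow, smul_smul]

theorem d1_coeff_E {H : Type u} [Group H] [Fintype H] (η : Cfsg.IrrCharacter H) (g : H) :
    (d1E η).coeff g = d1Val η g⁻¹ := by
  classical
  unfold d1E
  rw [MonoidAlgebra.coeff_sum, Finsupp.finsetSum_apply]
  simp only [MonoidAlgebra.coeff_single]
  rw [Finset.sum_eq_single g]
  · exact Finsupp.single_eq_same
  · intro b _ hb
    exact Finsupp.single_eq_of_ne hb.symm
  · intro h
    exact absurd (Finset.mem_univ _) h

theorem d1_key {H : Type u} [Group H] [Fintype H] (η : Cfsg.IrrCharacter H) {n : ℕ}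
    (ρ : H →* Matrix (Fin n) (Fin n) ℂ) (hρ : ∀ h, (ρ h).trace = (η : H → ℂ) h)
    (y : MonoidAlgebra Cfsg.AlgInt H) (g : H) :
    (((d1E η * y).coeff g : Cfsg.AlgInt) : ℂ)
      = (MonoidAlgebra.lift Cfsg.AlgInt (Matrix (Fin n) (Fin n) ℂ) H ρ y * ρ g⁻¹).trace := by
  classical
  induction y using MonoidAlgebra.induction_linear with
  | zero => simp
  | add y z hy hz =>
    rw [mul_add, MonoidAlgebra.coeff_add, Finsupp.add_apply, map_add, add_mul, Matrix.trace_add,
      ← hy, ← hz]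
    rfl
  | single u c =>
    rw [MonoidAlgebra.coeff_mul_single_apply, MonoidAlgebra.lift_single, d1_coeff_E,
      smul_mul_assoc, ← map_mul, Matrix.trace_smul, hρ, Subalgebra.smul_def, smul_eq_mul,
      _root_.mul_inv_rev, inv_inv]
    show (d1Val η (u * g⁻¹) : ℂ) * (c : ℂ) = (c : ℂ) * (η : H → ℂ) (u * g⁻¹)
    rw [d1Val_coe, mul_comm]

/-- PIECE LD3 -/
theorem d1_pi {H : Type u} [Group H] [Fintype H] (η : Cfsg.IrrCharacter H)
    (x : MonoidAlgebra Cfsg.AlgInt H) :
    ∃ P : Polynomial Cfsg.AlgInt, P.Monic ∧ P.natDegree = Cfsg.charDegree (η : H → ℂ) ∧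
      d1E η * Polynomial.aeval x P = 0 := by
  classical
  obtain ⟨n, ρ, hρ, hdeg⟩ := d1_matrep η
  obtain ⟨Ψ, hΨ⟩ : ∃ Ψ, Ψ = MonoidAlgebra.lift Cfsg.AlgInt (Matrix (Fin n) (Fin n) ℂ) H ρ :=
    ⟨_, rfl⟩
  have hkill : ∀ y : MonoidAlgebra Cfsg.AlgInt H, Ψ y = 0 → d1E η * y = 0 := by
    intro y hy
    apply MonoidAlgebra.coeff_injective
    ext g
    have h1 := d1_key η ρ hρ y g
    rw [← hΨ, hy, Matrix.zero_mul, Matrix.trace_zero] at h1
    rw [MonoidAlgebra.coeff_zero, Finsupp.zero_apply]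
    rw [h1]
    rfl
  have hint : IsIntegral Cfsg.AlgInt x := IsIntegral.of_finite Cfsg.AlgInt x
  have hintA : IsIntegral Cfsg.AlgInt (Ψ x) := hint.map Ψ
  obtain ⟨Q, hQm, hQ0⟩ := hintA
  have hroots : ∀ r, (Ψ x).charpoly.IsRoot r → r ∈ Cfsg.AlgInt := by
    intro r hr
    obtain ⟨v, hv0, hv⟩ := Helper39.lat_root_eigen _ r hr
    have h1 := d1_aeval_eigen (Ψ x) r v hv (Q.map (algebraMap Cfsg.AlgInt ℂ))
    rw [Polynomial.aeval_map_algebraMap] at h1
    have h2 : Polynomial.aeval (Ψ x) Q = 0 := hQ0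
    rw [h2, Matrix.zero_mulVec] at h1
    have h3 : (Q.map (algebraMap Cfsg.AlgInt ℂ)).eval r = 0 := by
      by_contra hne
      apply hv0
      exact (smul_eq_zero.mp h1.symm).resolve_left hne
    have h4 : IsIntegral Cfsg.AlgInt r := ⟨Q, hQm, by rw [← Polynomial.eval_map]; exact h3⟩
    exact isIntegral_trans r h4
  have hlift := Helper39.lat_charpoly_lifts (Ψ x) hroots
  obtain ⟨P, hPmap, hPdeg, hPmonic⟩ :=
    Polynomial.lifts_and_natDegree_eq_and_monic hlift (Matrix.charpoly_monic _)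
  refine ⟨P, hPmonic, ?_, ?_⟩
  · rw [hPdeg, Matrix.charpoly_natDegree_eq_dim, Fintype.card_fin, hdeg]
  · apply hkill
    rw [← Polynomial.aeval_algHom_apply, ← Polynomial.aeval_map_algebraMap ℂ, hPmap]
    exact Matrix.aeval_self_charpoly _

end Cfsg.Agent.Helper76
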