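import Cfsg.Agent.Helper77.BlockIdem
import Cfsg.Agent.Helper16.BlockCore
import Cfsg.Agent.Helper16.BlockInd
import Cfsg.Agent.Helper15.CharInner
import Cfsg.Agent.Helper81.BlockNormal
import Cfsg.Agent.Helper81.BlockDefect

/-!
# Covering of blocks of a subgroup, I (helper76)

`G` is a finite group and `N` a subgroup.

* `omega_eq_omega_res_of_constituent`: if `a` is a class function of `G` vanishing off `N`, `χ` an
  irreducible character of `G` and `θ` an irreducible constituent of `χ|_N`, then
  `Ω_χ(a) = Ω_θ(a|_N)`.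
* `exists_irr_over`: every irreducible character of `N` lies under an irreducible character of
  `G`.
* `mem_of_index_pow_of_pRegular`, `blockCoeff_eq_zero_of_not_mem`: if `N` is normal of `p`-power
  index, the `p`-regular elements lie in `N` and block idempotents of `G` vanish off `N`.
* `sameBlock_of_constituents_sameBlock`: if `N` is normal of `p`-power index, irreducible
  characters of `G` lying over characters of `N` in the same block lie in the same block.
-/

set_option autoImplicit false
set_option linter.style.haveILetI false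

namespace Cfsg.Agent.Helper76

open scoped ComplexConjugate

universe u

section cover

variable {G : Type u} [Group G] [Fintype G]

/-- Sum over a subgroup of a function vanishing off the subgroup. -/
theorem sum_subgroup_of_support (N : Subgroup G) [Fintype N] (F : G → ℂ)
    (hF : ∀ g : G, g ∉ N → F g = 0) : ∑ n : N, F n = ∑ g : G, F g := by
  apply Fintype.sum_of_injective (fun n : N => (n : G)) Subtype.val_injective
  · intro g hg
    apply hF
    intro hgN
    exact hg ⟨⟨g, hgN⟩, rfl⟩
  · intro n
    rfl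

/-- If `a` is a class function of `G` vanishing off the subgroup `N`, `χ` is an irreducible
character of `G` and `θ` is an irreducible constituent of `χ|_N`, then `Ω_χ(a) = Ω_θ(a|_N)`. -/
theorem omega_eq_omega_res_of_constituent (N : Subgroup G) [Fintype N] {a : G → ℂ}
    (ha : Cfsg.IsClassFunction G a) (hsupp : ∀ g : G, g ∉ N → a g = 0)
    (χ : Cfsg.IrrCharacter G) (θ : Cfsg.IrrCharacter N)
    (hθ : Cfsg.classInner (fun n : N => (χ : G → ℂ) n) (θ : N → ℂ) ≠ 0) :
    Helper81.omega (χ : G → ℂ) a = Helper81.omega (θ : N → ℂ) (fun n : N => a n) := by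
  classical
  have := Fintype.ofFinite (Cfsg.IrrCharacter N)
  have haN : Cfsg.IsClassFunction N (fun n : N => a n) := Helper16.isClassFunction_res ha N
  have hχN : Cfsg.IsClassFunction N (fun n : N => (χ : G → ℂ) n) :=
    Helper16.isClassFunction_res (Helper81.irr_isClassFunction χ) N
  have hexp := Helper15.classFun_eq_sum hχN
  -- the function `m ↦ ∑_n a(n) χ(n m)` on `N`, computed in two ways
  have h1 : (fun m : N => ∑ n : N, a n * (χ : G → ℂ) ((n : G) * (m : G)))
      = Helper81.omega (χ : G → ℂ) a • (fun m : N => (χ : G → ℂ) m) := by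
    funext m
    rw [Pi.smul_apply, smul_eq_mul, ← Helper77.sum_mul_irr_mul χ ha (m : G)]
    exact sum_subgroup_of_support N (fun g => a g * (χ : G → ℂ) (g * (m : G)))
      (fun g hg => by rw [hsupp g hg, zero_mul])
  have h2 : (fun m : N => ∑ n : N, a n * (χ : G → ℂ) ((n : G) * (m : G)))
      = ∑ ψ : Cfsg.IrrCharacter N,
          (Cfsg.classInner (fun n : N => (χ : G → ℂ) n) (ψ : N → ℂ) *
            Helper81.omega (ψ : N → ℂ) (fun n : N => a n)) • (ψ : N → ℂ) := by
    funext m
    have h3 : ∀ n : N, (χ : G → ℂ) ((n : G) * (m : G))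
        = ∑ ψ : Cfsg.IrrCharacter N,
            Cfsg.classInner (fun n : N => (χ : G → ℂ) n) (ψ : N → ℂ) * (ψ : N → ℂ) (n * m) := by
      intro n
      have := congrFun hexp (n * m)
      simp only [Finset.sum_apply, Pi.smul_apply, smul_eq_mul] at this
      rw [← this]
      rfl
    simp only [h3, Finset.mul_sum, Finset.sum_apply, Pi.smul_apply, smul_eq_mul]
    rw [Finset.sum_comm]
    refine Finset.sum_congr rfl fun ψ _ => ?_
    rw [mul_assoc, ← Helper77.sum_mul_irr_mul ψ haN m, Finset.mul_sum]
    refine Finset.sum_congr rfl fun n _ => ?_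
    ring
  have h4 := congrArg (fun F : N → ℂ => Cfsg.classInner F (θ : N → ℂ)) (h1.symm.trans h2)
  simp only [] at h4
  rw [Helper15.classInner_smul_left, Helper15.classInner_sum_left,
    Finset.sum_eq_single θ] at h4
  · rw [Helper15.classInner_smul_left, Helper15.irr_inner_self θ.2, mul_one] at h4
    have h5 : (Helper81.omega (χ : G → ℂ) a - Helper81.omega (θ : N → ℂ) (fun n : N => a n)) *
        Cfsg.classInner (fun n : N => (χ : G → ℂ) n) (θ : N → ℂ) = 0 := by
      linear_combination h4
    rcases mul_eq_zero.mp h5 with h | h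
    · exact sub_eq_zero.mp h
    · exact absurd h hθ
  · intro ψ _ hne
    rw [Helper15.classInner_smul_left, Helper15.irr_inner, if_neg hne, mul_zero]
  · intro h
    exact absurd (Finset.mem_univ θ) h

/-- Every irreducible character of a subgroup lies under some irreducible character of the
group. -/
theorem exists_irr_over (N : Subgroup G) [Fintype N] (θ : Cfsg.IrrCharacter N) :
    ∃ χ : Cfsg.IrrCharacter G,
      Cfsg.classInner (fun n : N => (χ : G → ℂ) n) (θ : N → ℂ) ≠ 0 := by
  classical
  have := Fintype.ofFinite (Cfsg.IrrCharacter G)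
  by_contra hcon
  push Not at hcon
  have h1 : Cfsg.classInner (∑ χ : Cfsg.IrrCharacter G,
      (χ : G → ℂ) 1 • (fun n : N => (χ : G → ℂ) n)) (θ : N → ℂ) = 0 := by
    rw [Helper15.classInner_sum_left]
    refine Finset.sum_eq_zero fun χ _ => ?_
    rw [Helper15.classInner_smul_left, hcon χ, mul_zero]
  have h2 : (∑ χ : Cfsg.IrrCharacter G, (χ : G → ℂ) 1 • (fun n : N => (χ : G → ℂ) n))
      = fun n : N => if (n : G) = 1 then (Nat.card G : ℂ) else 0 := by
    funext n
    rw [← Helper81.sum_irr_one_mul (n : G)]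
    simp only [Finset.sum_apply, Pi.smul_apply, smul_eq_mul]
  rw [h2] at h1
  unfold Cfsg.classInner at h1
  beta_reduce at h1
  rw [Finset.sum_eq_single (1 : N)] at h1
  · rw [if_pos (Subgroup.coe_one N)] at h1
    have hG0 : (Nat.card G : ℂ) ≠ 0 := by exact_mod_cast Nat.card_pos.ne'
    have hN0 : (Nat.card N : ℂ)⁻¹ ≠ 0 := inv_ne_zero (by exact_mod_cast Nat.card_pos.ne')
    have h3 : conj ((θ : N → ℂ) 1) ≠ 0 := by
      rw [Ne, map_eq_zero]
      exact Helper81.irr_one_ne_zero θ
    exact mul_ne_zero hN0 (mul_ne_zero hG0 h3) h1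
  · intro n _ hn
    have : (n : G) ≠ 1 := fun h => hn (Subtype.ext h)
    rw [if_neg this, zero_mul]
  · intro h
    exact absurd (Finset.mem_univ _) h

variable {p : ℕ} [Fact p.Prime] {M : Ideal Cfsg.AlgInt}

omit [Fintype G] in
/-- If `N` is normal of `p`-power index, every `p`-regular element lies in `N`. -/
theorem mem_of_index_pow_of_pRegular [Finite G] (N : Subgroup G) [N.Normal]
    (hidx : ∃ k : ℕ, N.index = p ^ k) {g : G} (hg : ¬ p ∣ orderOf g) : g ∈ N := by
  obtain ⟨k, hk⟩ := hidx
  have h1 : (g : G ⧸ N) ^ p ^ k = 1 := by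
    rw [← hk, Subgroup.index_eq_card]
    exact pow_card_eq_one'
  have h2 : orderOf (g : G ⧸ N) ∣ p ^ k := orderOf_dvd_of_pow_eq_one h1
  have h3 : orderOf (g : G ⧸ N) ∣ orderOf g := orderOf_map_dvd (QuotientGroup.mk' N) g
  have hcop : Nat.Coprime (p ^ k) (orderOf g) :=
    Nat.Coprime.pow_left k ((Nat.Prime.coprime_iff_not_dvd Fact.out).mpr hg)
  have h4 : orderOf (g : G ⧸ N) = 1 := Nat.eq_one_of_dvd_coprimes hcop h2 h3
  exact (QuotientGroup.eq_one_iff g).mp (orderOf_eq_one_iff.mp h4)

/-- If `N` is normal of `p`-power index, the idempotent of a `p`-block of `G` vanishes off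
`N`. -/
theorem blockCoeff_eq_zero_of_not_mem (hM : Cfsg.IsPModular p M) (N : Subgroup G) [N.Normal]
    (hidx : ∃ k : ℕ, N.index = p ^ k) {B : Set (Cfsg.IrrCharacter G)} (hB : Cfsg.IsPBlock M B)
    {g : G} (hg : g ∉ N) : Cfsg.blockCoeff B g = 0 := by
  apply Helper77.blockCoeff_eq_zero_of_dvd_orderOf hM hB
  by_contra h
  exact hg (mem_of_index_pow_of_pRegular N hidx h)

/-- If `N` is normal of `p`-power index, irreducible characters of `G` lying over irreducible
characters of `N` in the same `p`-block lie in the same `p`-block. -/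
theorem sameBlock_of_constituents_sameBlock (hM : Cfsg.IsPModular p M) (N : Subgroup G)
    [N.Normal] [Fintype N] (hidx : ∃ k : ℕ, N.index = p ^ k) (χ χ' : Cfsg.IrrCharacter G)
    (θ θ' : Cfsg.IrrCharacter N) (hθθ' : Cfsg.SameBlock M (θ : N → ℂ) (θ' : N → ℂ))
    (hχ : Cfsg.classInner (fun n : N => (χ : G → ℂ) n) (θ : N → ℂ) ≠ 0)
    (hχ' : Cfsg.classInner (fun n : N => (χ' : G → ℂ) n) (θ' : N → ℂ) ≠ 0) :
    Cfsg.SameBlock M (χ : G → ℂ) (χ' : G → ℂ) := by
  classical
  have hMm := hM.2.1
  have hB : Cfsg.IsPBlock M (Cfsg.blockOf M (χ : G → ℂ)) := ⟨χ, rfl⟩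
  have hcl := Helper77.blockCoeff_isClassFunction (Cfsg.blockOf M (χ : G → ℂ))
  have hsupp : ∀ g : G, g ∉ N → Cfsg.blockCoeff (Cfsg.blockOf M (χ : G → ℂ)) g = 0 :=
    fun g hg => blockCoeff_eq_zero_of_not_mem hM N hidx hB hg
  have h1 := omega_eq_omega_res_of_constituent N hcl hsupp χ θ hχ
  have h2 := omega_eq_omega_res_of_constituent N hcl hsupp χ' θ' hχ'
  have h3 := Helper16.omega_sub_memLocalIdeal hMm θ θ' hθθ'
    (Helper16.isClassFunction_res hcl N)
    (fun n => Helper77.blockCoeff_memLocalRing hMm hB (n : G))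
  rw [← h1, ← h2, Helper77.omega_blockCoeff_of_mem (Helper16.sameBlock_refl hMm _)] at h3
  by_contra hcon
  rw [Helper77.omega_blockCoeff_of_not_mem (B := Cfsg.blockOf M (χ : G → ℂ)) hcon,
    sub_zero] at h3
  exact Helper77.not_memLocalIdeal_one hMm h3

end cover

end Cfsg.Agent.Helper76
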