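import Cfsg.Agent.Helper76.Cover

/-!
# Covering of blocks of a normal subgroup, II: the orbit idempotent (helper76)

`G` is a finite group, `N` a normal subgroup, `M` a maximal ideal of the algebraic integers.

* `centralChar_comp_mulEquiv`, `sameBlock_comp_mulEquiv`: blocks are permuted by automorphisms.
* `blockCoeff_memLocalRing_of_closed`: the idempotent of a union of blocks has local
  coefficients.
* `blockCoeff_comp_mulEquiv`: the idempotent of a set of irreducible characters stable under an
  automorphism is invariant under that automorphism.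
* `blockOrbit N b`: the irreducible characters of `N` which are `G`-conjugate to a member of `b`.
* `orbitCoeff N b`: the idempotent of `blockOrbit N b` extended by zero to `G`; it is a class
  function of `G` with local values (`orbitCoeff_isClassFunction`, `orbitCoeff_memLocalRing`,
  `omega_orbitCoeff_res`).
* `mem_blockOrbit_of_sameBlock`: **covering** — if `χ` lies over `θ ∈ b`, `χ'` is in the block of
  `χ` and `ψ` lies under `χ'`, then `ψ` is `G`-conjugate to a member of `b`.
* `omega_classInd_res`: `Ω_θ` of the restriction of a class sum of `G` is the induced central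
  character.
* `centralChar_sub_inducedCentralChar_memLocalIdeal`, `exists_constituent_of_forall_memLocalIdeal`:
  the two directions of Passman's criterion.
-/

set_option autoImplicit false
set_option linter.style.haveILetI false

namespace Cfsg.Agent.Helper76

open scoped ComplexConjugate

universe u

section aut

variable {H : Type u} [Group H]

/-- Central characters and automorphisms. -/
theorem centralChar_comp_mulEquiv (α : H ≃* H) (χ : H → ℂ) (g : H) :
    Cfsg.centralChar (fun n => χ (α n)) g = Cfsg.centralChar χ (α g) := by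
  have h1 : Subgroup.centralizer ({g} : Set H)
      = (Subgroup.centralizer ({α g} : Set H)).comap (α : H →* H) := by
    ext x
    simp only [Subgroup.mem_comap, Subgroup.mem_centralizer_iff, Set.mem_singleton_iff, forall_eq,
      MonoidHom.coe_coe]
    constructor
    · intro h
      rw [← map_mul, ← map_mul, h]
    · intro h
      apply α.injective
      rw [map_mul, map_mul, h]
  have h2 : (Subgroup.centralizer ({g} : Set H)).index
      = (Subgroup.centralizer ({α g} : Set H)).index := by
    rw [h1]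
    exact Subgroup.index_comap_of_surjective _ α.surjective
  unfold Cfsg.centralChar
  simp only []
  rw [h2, map_one]

/-- Automorphisms preserve `SameBlock`. -/
theorem sameBlock_comp_mulEquiv {M : Ideal Cfsg.AlgInt} (α : H ≃* H) {χ ψ : H → ℂ}
    (h : Cfsg.SameBlock M χ ψ) : Cfsg.SameBlock M (fun n => χ (α n)) (fun n => ψ (α n)) := by
  intro g
  rw [centralChar_comp_mulEquiv, centralChar_comp_mulEquiv]
  exact h (α g)

variable [Fintype H]

/-- The idempotent of a union of blocks has local coefficients. -/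
theorem blockCoeff_memLocalRing_of_closed {M : Ideal Cfsg.AlgInt} (hM : M.IsMaximal)
    {U : Set (Cfsg.IrrCharacter H)}
    (hU : ∀ χ ∈ U, ∀ ψ : Cfsg.IrrCharacter H, Cfsg.SameBlock M (χ : H → ℂ) (ψ : H → ℂ) → ψ ∈ U)
    (g : H) : Cfsg.MemLocalRing M (Cfsg.blockCoeff U g) := by
  classical
  have := Fintype.ofFinite (Cfsg.IrrCharacter H)
  let S : Finset (Set (Cfsg.IrrCharacter H)) :=
    (Finset.univ.filter (fun χ : Cfsg.IrrCharacter H => χ ∈ U)).image
      (fun χ : Cfsg.IrrCharacter H => Cfsg.blockOf M (χ : H → ℂ))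
  have hS : ∀ b' ∈ S, Cfsg.IsPBlock M b' ∧ b' ⊆ U := by
    intro b' hb'
    obtain ⟨χ, hχ, rfl⟩ := Finset.mem_image.mp hb'
    exact ⟨⟨χ, rfl⟩, fun ψ hψ => hU χ (Finset.mem_filter.mp hχ).2 ψ hψ⟩
  have key : Cfsg.blockCoeff U = fun g => ∑ b' ∈ S, Cfsg.blockCoeff b' g := by
    apply Helper77.eq_of_omega_eq (Helper77.blockCoeff_isClassFunction U)
    · intro g h
      exact Finset.sum_congr rfl fun b' _ => Helper77.blockCoeff_isClassFunction b' g h
    · intro ψ
      have h1 : Helper81.omega (ψ : H → ℂ) (fun g => ∑ b' ∈ S, Cfsg.blockCoeff b' g)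
          = ∑ b' ∈ S, Helper81.omega (ψ : H → ℂ) (Cfsg.blockCoeff b') := by
        unfold Helper81.omega
        rw [← Finset.sum_div]
        congr 1
        simp only [Finset.sum_mul]
        rw [Finset.sum_comm]
      rw [h1]
      by_cases hψ : ψ ∈ U
      · rw [Helper77.omega_blockCoeff_of_mem hψ,
          Finset.sum_eq_single (Cfsg.blockOf M (ψ : H → ℂ))]
        · rw [Helper77.omega_blockCoeff_of_mem (Helper16.sameBlock_refl hM _)]
        · intro b' hb' hne
          apply Helper77.omega_blockCoeff_of_not_mem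
          intro hψb'
          obtain ⟨χ, hχ, rfl⟩ := Finset.mem_image.mp hb'
          exact hne (Helper16.blockOf_eq_of_mem hM hψb').symm
        · intro h
          exfalso
          apply h
          exact Finset.mem_image.mpr ⟨ψ, Finset.mem_filter.mpr ⟨Finset.mem_univ _, hψ⟩, rfl⟩
      · rw [Helper77.omega_blockCoeff_of_not_mem hψ]
        symm
        apply Finset.sum_eq_zero
        intro b' hb'
        apply Helper77.omega_blockCoeff_of_not_mem
        intro hψb'
        exact hψ ((hS b' hb').2 hψb')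
  rw [key]
  exact Helper77.memLocalRing_sum hM _ _ fun b' hb' =>
    Helper77.blockCoeff_memLocalRing hM (hS b' hb').1 g

/-- The idempotent of a set of irreducible characters stable under the automorphism `α` is
invariant under `α`. -/
theorem blockCoeff_comp_mulEquiv (α : H ≃* H) {U : Set (Cfsg.IrrCharacter H)}
    (hU : ∀ χ : Cfsg.IrrCharacter H, Helper81.irrTwist α χ ∈ U ↔ χ ∈ U) (n : H) :
    Cfsg.blockCoeff U (α n) = Cfsg.blockCoeff U n := by
  classical
  have := Fintype.ofFinite (Cfsg.IrrCharacter H)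
  rw [Helper77.blockCoeff_eq_sum, Helper77.blockCoeff_eq_sum]
  congr 1
  rw [← Equiv.sum_comp (Helper81.irrTwist α) (fun φ : Cfsg.IrrCharacter H =>
    if φ ∈ U then (φ : H → ℂ) 1 * (φ : H → ℂ) n⁻¹ else 0)]
  refine Finset.sum_congr rfl fun χ _ => ?_
  by_cases hχ : χ ∈ U
  · rw [if_pos hχ, if_pos ((hU χ).mpr hχ), Helper81.irrTwist_apply, Helper81.irrTwist_apply,
      map_one, map_inv]
  · rw [if_neg hχ, if_neg (fun h => hχ ((hU χ).mp h))]

end aut

section orbit

variable {G : Type u} [Group G] [Fintype G] {M : Ideal Cfsg.AlgInt}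

/-- The irreducible characters of the normal subgroup `N` which are `G`-conjugate to a member of
`b`. -/
def blockOrbit (N : Subgroup G) [N.Normal] (b : Set (Cfsg.IrrCharacter N)) :
    Set (Cfsg.IrrCharacter N) :=
  {φ | ∃ g : G, ∃ θ' ∈ b, φ = Helper81.irrTwist (MulAut.conjNormal g) θ'}

omit [Fintype G] in
theorem subset_blockOrbit (N : Subgroup G) [N.Normal] (b : Set (Cfsg.IrrCharacter N)) :
    b ⊆ blockOrbit N b := by
  intro θ hθ
  refine ⟨1, θ, hθ, ?_⟩
  apply Subtype.ext
  funext n
  rw [Helper81.irrTwist_apply, map_one]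
  rfl

omit [Fintype G] in
theorem irrTwist_conjNormal_mul (N : Subgroup G) [N.Normal] (g x : G)
    (θ : Cfsg.IrrCharacter N) :
    Helper81.irrTwist (MulAut.conjNormal x) (Helper81.irrTwist (MulAut.conjNormal g) θ)
      = Helper81.irrTwist (MulAut.conjNormal (g * x)) θ := by
  apply Subtype.ext
  funext n
  rw [Helper81.irrTwist_apply, Helper81.irrTwist_apply, Helper81.irrTwist_apply, map_mul]
  rfl

omit [Fintype G] in
theorem irrTwist_conjNormal_inv (N : Subgroup G) [N.Normal] (g : G) (θ : Cfsg.IrrCharacter N) :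
    Helper81.irrTwist (MulAut.conjNormal g) (Helper81.irrTwist (MulAut.conjNormal g⁻¹) θ) = θ := by
  rw [irrTwist_conjNormal_mul, inv_mul_cancel]
  apply Subtype.ext
  funext n
  rw [Helper81.irrTwist_apply, map_one]
  rfl

omit [Fintype G] in
theorem irrTwist_mem_blockOrbit_iff (N : Subgroup G) [N.Normal] (b : Set (Cfsg.IrrCharacter N))
    (x : G) (φ : Cfsg.IrrCharacter N) :
    Helper81.irrTwist (MulAut.conjNormal x) φ ∈ blockOrbit N b ↔ φ ∈ blockOrbit N b := by
  have key : ∀ (y : G) (φ' : Cfsg.IrrCharacter N), φ' ∈ blockOrbit N b →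
      Helper81.irrTwist (MulAut.conjNormal y) φ' ∈ blockOrbit N b := by
    rintro y φ' ⟨g, θ', hθ', rfl⟩
    exact ⟨g * y, θ', hθ', irrTwist_conjNormal_mul N g y θ'⟩
  constructor
  · intro h
    have h1 := key x⁻¹ _ h
    rw [irrTwist_conjNormal_mul, mul_inv_cancel] at h1
    have h2 : Helper81.irrTwist (MulAut.conjNormal (1 : G)) φ = φ := by
      apply Subtype.ext
      funext n
      rw [Helper81.irrTwist_apply, map_one]
      rfl
    rwa [h2] at h1
  · exact key x φ

omit [Fintype G] in
/-- The orbit of a block is a union of blocks. -/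
theorem blockOrbit_closed (hM : M.IsMaximal) (N : Subgroup G) [N.Normal]
    {b : Set (Cfsg.IrrCharacter N)} (hb : Cfsg.IsPBlock M b) :
    ∀ φ ∈ blockOrbit N b, ∀ φ' : Cfsg.IrrCharacter N,
      Cfsg.SameBlock M (φ : N → ℂ) (φ' : N → ℂ) → φ' ∈ blockOrbit N b := by
  rintro φ ⟨g, θ', hθ', rfl⟩ φ' h
  obtain ⟨θ₀, rfl⟩ := hb
  refine ⟨g, Helper81.irrTwist (MulAut.conjNormal g⁻¹) φ', ?_,
    (irrTwist_conjNormal_inv N g φ').symm⟩
  have h1 := sameBlock_comp_mulEquiv (MulAut.conjNormal g⁻¹ : N ≃* N) h
  have h2 : (fun n : N => (Helper81.irrTwist (MulAut.conjNormal g) θ' : N → ℂ)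
      ((MulAut.conjNormal g⁻¹ : N ≃* N) n)) = (θ' : N → ℂ) := by
    have h3 := irrTwist_conjNormal_mul N g g⁻¹ θ'
    rw [mul_inv_cancel] at h3
    have h4 := congrArg (fun φ : Cfsg.IrrCharacter N => (φ : N → ℂ)) h3
    beta_reduce at h4
    rw [show (Helper81.irrTwist (MulAut.conjNormal (1 : G)) θ' : N → ℂ) = (θ' : N → ℂ) from by
      funext n
      rw [Helper81.irrTwist_apply, map_one]
      rfl] at h4
    rw [← h4]
    rfl
  rw [h2] at h1
  exact Helper16.sameBlock_trans hM hθ' h1

/-- The idempotent of the orbit of the block `b` of `N`, extended by zero to `G`. -/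
noncomputable def orbitCoeff (N : Subgroup G) [N.Normal] (b : Set (Cfsg.IrrCharacter N)) :
    G → ℂ := by
  classical
  exact fun g => if h : g ∈ N then Cfsg.blockCoeff (blockOrbit N b) ⟨g, h⟩ else 0

omit [Fintype G] in
theorem orbitCoeff_coe (N : Subgroup G) [N.Normal] (b : Set (Cfsg.IrrCharacter N)) (n : N) :
    orbitCoeff N b (n : G) = Cfsg.blockCoeff (blockOrbit N b) n := by
  unfold orbitCoeff
  rw [dif_pos n.2]

omit [Fintype G] in
theorem orbitCoeff_of_not_mem (N : Subgroup G) [N.Normal] (b : Set (Cfsg.IrrCharacter N))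
    {g : G} (hg : g ∉ N) : orbitCoeff N b g = 0 := by
  unfold orbitCoeff
  rw [dif_neg hg]

theorem orbitCoeff_isClassFunction (N : Subgroup G) [hN : N.Normal]
    (b : Set (Cfsg.IrrCharacter N)) : Cfsg.IsClassFunction G (orbitCoeff N b) := by
  classical
  letI : Fintype N := Fintype.ofFinite N
  intro g x
  by_cases hg : g ∈ N
  · have h1 : x * g * x⁻¹ = ((MulAut.conjNormal x (⟨g, hg⟩ : N) : N) : G) := by
      rw [MulAut.conjNormal_apply]
    have h2 : orbitCoeff N b g = Cfsg.blockCoeff (blockOrbit N b) ⟨g, hg⟩ :=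
      orbitCoeff_coe N b ⟨g, hg⟩
    rw [h1, orbitCoeff_coe, h2]
    exact blockCoeff_comp_mulEquiv (MulAut.conjNormal x : N ≃* N)
      (fun χ => irrTwist_mem_blockOrbit_iff N b x χ) _
  · have hg' : x * g * x⁻¹ ∉ N := by
      intro h
      apply hg
      have := hN.conj_mem _ h x⁻¹
      simpa [mul_assoc] using this
    rw [orbitCoeff_of_not_mem N b hg, orbitCoeff_of_not_mem N b hg']

theorem orbitCoeff_memLocalRing (hM : M.IsMaximal) (N : Subgroup G) [N.Normal]
    {b : Set (Cfsg.IrrCharacter N)} (hb : Cfsg.IsPBlock M b) (g : G) :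
    Cfsg.MemLocalRing M (orbitCoeff N b g) := by
  classical
  letI : Fintype N := Fintype.ofFinite N
  by_cases hg : g ∈ N
  · have h2 : orbitCoeff N b g = Cfsg.blockCoeff (blockOrbit N b) ⟨g, hg⟩ :=
      orbitCoeff_coe N b ⟨g, hg⟩
    rw [h2]
    exact blockCoeff_memLocalRing_of_closed hM (blockOrbit_closed hM N hb) _
  · rw [orbitCoeff_of_not_mem N b hg]
    exact Helper77.memLocalRing_zero hM

omit [Fintype G] in
theorem omega_orbitCoeff_res (N : Subgroup G) [N.Normal] [Fintype N]
    (b : Set (Cfsg.IrrCharacter N)) (φ : Cfsg.IrrCharacter N) :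
    Helper81.omega (φ : N → ℂ) (fun n : N => orbitCoeff N b (n : G))
      = by classical exact if φ ∈ blockOrbit N b then 1 else 0 := by
  have h1 : (fun n : N => orbitCoeff N b (n : G)) = Cfsg.blockCoeff (blockOrbit N b) :=
    funext fun n => orbitCoeff_coe N b n
  rw [h1]
  exact Helper77.omega_blockCoeff _ φ

/-- **Covering.** If `χ` lies over `θ ∈ b`, `χ'` lies in the block of `χ`, and `ψ` lies under
`χ'`, then `ψ` is `G`-conjugate to a member of the block `b` of the normal subgroup `N`. -/
theorem mem_blockOrbit_of_sameBlock (hM : M.IsMaximal) (N : Subgroup G) [N.Normal] [Fintype N]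
    {b : Set (Cfsg.IrrCharacter N)} (hb : Cfsg.IsPBlock M b) (χ χ' : Cfsg.IrrCharacter G)
    (hχχ' : Cfsg.SameBlock M (χ : G → ℂ) (χ' : G → ℂ)) (θ : Cfsg.IrrCharacter N) (hθ : θ ∈ b)
    (hcon : Cfsg.classInner (fun n : N => (χ : G → ℂ) n) (θ : N → ℂ) ≠ 0)
    (ψ : Cfsg.IrrCharacter N)
    (hψ : Cfsg.classInner (fun n : N => (χ' : G → ℂ) n) (ψ : N → ℂ) ≠ 0) :
    ψ ∈ blockOrbit N b := by
  classical
  have hcl := orbitCoeff_isClassFunction N b
  have hsupp : ∀ g : G, g ∉ N → orbitCoeff N b g = 0 := fun g hg => orbitCoeff_of_not_mem N b hg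
  have h1 := omega_eq_omega_res_of_constituent N hcl hsupp χ θ hcon
  have h2 := omega_eq_omega_res_of_constituent N hcl hsupp χ' ψ hψ
  rw [omega_orbitCoeff_res] at h1 h2
  have h3 := Helper16.omega_sub_memLocalIdeal hM χ χ' hχχ' hcl (orbitCoeff_memLocalRing hM N hb)
  rw [h1, h2, if_pos (subset_blockOrbit N b hθ)] at h3
  by_contra hcon'
  rw [if_neg hcon', sub_zero] at h3
  exact Helper77.not_memLocalIdeal_one hM h3

/-- `Ω_θ` of the restriction to `N` of a class sum of `G` is the induced central character. -/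
theorem omega_classInd_res (N : Subgroup G) [Fintype N] (θ : N → ℂ) (g : G) :
    Helper81.omega θ (fun n : N => Helper81.classInd g (n : G))
      = Cfsg.inducedCentralChar N θ g := by
  classical
  rw [Cfsg.inducedCentralChar, finsum_mem_def, finsum_eq_sum_of_fintype, Helper81.omega,
    Finset.sum_div]
  refine Finset.sum_congr rfl fun n _ => ?_
  rw [Set.indicator_apply]
  unfold Helper81.classInd
  by_cases h : IsConj g (n : G)
  · rw [if_pos h, if_pos (by exact h), one_mul]
  · rw [if_neg h, if_neg (by exact h), zero_mul, zero_div]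

variable {p : ℕ}

/-- **Passman's criterion**, first half: if the block `B` of `G` covers the block `b` of the
normal subgroup `N`, the central characters of `B` on the classes inside `N` are congruent to
the induced central characters of `b`. -/
theorem centralChar_sub_inducedCentralChar_memLocalIdeal (hM : M.IsMaximal) (N : Subgroup G)
    [hN : N.Normal] [Fintype N] (χ₀ χ : Cfsg.IrrCharacter G)
    (hχ : Cfsg.SameBlock M (χ₀ : G → ℂ) (χ : G → ℂ)) (θ₀ θ : Cfsg.IrrCharacter N)
    (hθ : Cfsg.SameBlock M (θ₀ : N → ℂ) (θ : N → ℂ))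
    (hcon : Cfsg.classInner (fun n : N => (χ₀ : G → ℂ) n) (θ₀ : N → ℂ) ≠ 0) (n : N) :
    Cfsg.MemLocalIdeal M (Cfsg.centralChar (χ : G → ℂ) (n : G)
      - Cfsg.inducedCentralChar N (θ : N → ℂ) (n : G)) := by
  classical
  have hcl := Helper81.classInd_isClassFunction (n : G)
  have hloc : ∀ g : G, Cfsg.MemLocalRing M (Helper81.classInd (n : G) g) := by
    intro g
    unfold Helper81.classInd
    split_ifs
    · exact Helper77.memLocalRing_one hM
    · exact Helper77.memLocalRing_zero hM
  have hsupp : ∀ g : G, g ∉ N → Helper81.classInd (n : G) g = 0 := by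
    intro g hg
    unfold Helper81.classInd
    rw [if_neg]
    intro hc
    obtain ⟨c, hc⟩ := isConj_iff.mp hc
    apply hg
    rw [← hc]
    exact hN.conj_mem _ n.2 c
  have h1 := omega_eq_omega_res_of_constituent N hcl hsupp χ₀ θ₀ hcon
  have h2 := Helper16.omega_sub_memLocalIdeal hM χ χ₀ (Helper16.sameBlock_symm hχ) hcl hloc
  have h3 := Helper16.omega_sub_memLocalIdeal hM θ₀ θ hθ (Helper16.isClassFunction_res hcl N)
    (fun m => hloc (m : G))
  rw [Helper81.omega_classInd, h1] at h2
  rw [omega_classInd_res (θ := (θ : N → ℂ))] at h3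
  have h4 := Helper77.memLocalIdeal_add hM h2 h3
  rwa [sub_add_sub_cancel] at h4

/-- **Passman's criterion**, second half. -/
theorem exists_constituent_of_forall_memLocalIdeal (hM : M.IsMaximal) (N : Subgroup G)
    [hN : N.Normal] [Fintype N] (χ : Cfsg.IrrCharacter G) {b : Set (Cfsg.IrrCharacter N)}
    (hb : Cfsg.IsPBlock M b) (θ : Cfsg.IrrCharacter N) (hθ : θ ∈ b)
    (h : ∀ n : N, Cfsg.MemLocalIdeal M (Cfsg.centralChar (χ : G → ℂ) (n : G)
      - Cfsg.inducedCentralChar N (θ : N → ℂ) (n : G))) :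
    ∃ θ' ∈ b, Cfsg.classInner (fun n : N => (χ : G → ℂ) n) (θ' : N → ℂ) ≠ 0 := by
  classical
  have := Fintype.ofFinite (ConjClasses G)
  have hχcl := Helper81.irr_isClassFunction χ
  -- a constituent `ψ` of `χ|_N`
  have hne : (fun n : N => (χ : G → ℂ) n) ≠ 0 := by
    intro h0
    have h1 := congrFun h0 1
    exact Helper81.irr_one_ne_zero χ (by simpa using h1)
  obtain ⟨ψ, hψ⟩ := Helper15.exists_constituent (Helper16.isClassFunction_res hχcl N) hne
  have hb' : Cfsg.IsPBlock M (Cfsg.blockOf M (ψ : N → ℂ)) := ⟨ψ, rfl⟩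
  have hψb' : ψ ∈ Cfsg.blockOf M (ψ : N → ℂ) := Helper16.sameBlock_refl hM _
  -- the induced central characters of `ψ` and `θ` are congruent
  have hcong : ∀ n : N, Cfsg.MemLocalIdeal M (Cfsg.inducedCentralChar N (ψ : N → ℂ) (n : G)
      - Cfsg.inducedCentralChar N (θ : N → ℂ) (n : G)) := by
    intro n
    have h1 := centralChar_sub_inducedCentralChar_memLocalIdeal hM N χ χ
      (Helper16.sameBlock_refl hM _) ψ ψ (Helper16.sameBlock_refl hM _) hψ n
    have h2 := Helper77.memLocalIdeal_sub hM (h n) h1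
    rwa [sub_sub_sub_cancel_left] at h2
  -- hence `θ` lies in the orbit of the block of `ψ`
  have hcl := orbitCoeff_isClassFunction N (Cfsg.blockOf M (ψ : N → ℂ))
  have h1 := Helper16.omega_res_eq_sum N (ψ : N → ℂ) hcl
  have h2 := Helper16.omega_res_eq_sum N (θ : N → ℂ) hcl
  rw [omega_orbitCoeff_res, if_pos (subset_blockOrbit N _ hψb')] at h1
  rw [omega_orbitCoeff_res] at h2
  have hθorb : θ ∈ blockOrbit N (Cfsg.blockOf M (ψ : N → ℂ)) := by
    by_contra hcon
    rw [if_neg hcon] at h2
    apply Helper77.not_memLocalIdeal_one hM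
    have h3 : (1 : ℂ) = ∑ c : ConjClasses G,
        orbitCoeff N (Cfsg.blockOf M (ψ : N → ℂ)) (Quotient.out c) *
          (Cfsg.inducedCentralChar N (ψ : N → ℂ) (Quotient.out c)
            - Cfsg.inducedCentralChar N (θ : N → ℂ) (Quotient.out c)) := by
      simp only [mul_sub, Finset.sum_sub_distrib]
      rw [← h1, ← h2, sub_zero]
    rw [h3]
    refine Helper77.memLocalIdeal_sum hM _ _ fun c _ => ?_
    by_cases hc : Quotient.out c ∈ N
    · exact Helper77.memLocalIdeal_mul hM (orbitCoeff_memLocalRing hM N hb' _)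
        (hcong ⟨Quotient.out c, hc⟩)
    · rw [orbitCoeff_of_not_mem N _ hc, zero_mul]
      exact Helper77.memLocalIdeal_zero hM
  obtain ⟨g, ψ', hψ', hθeq⟩ := hθorb
  -- `ψ^g` lies under `χ` and in `b`
  refine ⟨Helper81.irrTwist (MulAut.conjNormal g) ψ, ?_, ?_⟩
  · have h3 := sameBlock_comp_mulEquiv (MulAut.conjNormal g : N ≃* N) hψ'
    obtain ⟨θ₀, rfl⟩ := hb
    have h4 : Cfsg.SameBlock M (θ : N → ℂ)
        (Helper81.irrTwist (MulAut.conjNormal g) ψ : N → ℂ) := by
      rw [hθeq]
      exact Helper16.sameBlock_symm h3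
    exact Helper16.sameBlock_trans hM hθ h4
  · have h3 := Helper81.classInner_conjNormal N hχcl g (ψ : N → ℂ)
    rw [← h3] at hψ
    exact hψ

end orbit

end Cfsg.Agent.Helper76
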