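import Mathlib
import Cfsg.Agent.S1403
import Cfsg.Agent.S1417
import Cfsg.Agent.Helper22.BG10b
import Cfsg.Agent.Helper47.Syl
import Cfsg.Agent.Helper54.BG14T4

/-!
# CALL BG36 (helper2, row S1436), piece P2 (helper76)
-/

set_option autoImplicit false

namespace Cfsg.Agent.Helper76

open Cfsg Subgroup

universe u

variable {G : Type u} [Group G] [Finite G]

/-- PIECE P2: if `g A g⁻¹ ≤ N` then `p ∈ τ₂(N)` and S1417 clause 5 for `(N, p, g A g⁻¹)` with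
`M* := g M g⁻¹ ≠ N` gives `N_σ ∩ g M g⁻¹ = 1`, but `g z g⁻¹` lies in it. -/
theorem bg36_not_le_conj (hG : IsMinSimpleOddOrder G) {M N : Subgroup G} (hM : IsCoatom M)
    (hN : IsCoatom N) {p q : ℕ} (hp : p.Prime) (hpσN : p ∉ sigma N) (hq : q ∈ sigma N)
    (hqσ : q ∉ sigma M) {A : Subgroup G} (hAM : A ≤ M) (hAel : IsElementaryAbelian p A)
    (hAc : Nat.card A = p ^ 2) {z g : G} (hzM : z ∈ M) (hz1 : z ≠ 1)
    (hgσ : g * z * g⁻¹ ∈ sigmaCore N) :
    ¬ A.map (MulAut.conj g).toMonoidHom ≤ N := by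
  intro hAN
  have hU : Cfsg.Agent.Helper22.BGUniq G :=
    fun K hK h1 h2 => Cfsg.Agent.S1403.result hG K hK h1 h2
  have hpF : Fact p.Prime := ⟨hp⟩
  -- the conjugate of `A` is elementary abelian of order `p ^ 2`
  have hA'c : Nat.card (A.map (MulAut.conj g).toMonoidHom) = p ^ 2 := by
    rw [Cfsg.Agent.Helper54.bg14t_card_map_conj, hAc]
  have hcommA : ∀ x ∈ A.map (MulAut.conj g).toMonoidHom,
      ∀ y ∈ A.map (MulAut.conj g).toMonoidHom, x * y = y * x := by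
    rintro _ ⟨a, ha, rfl⟩ _ ⟨b, hb, rfl⟩
    rw [← map_mul, ← map_mul]
    exact congrArg _ (congrArg Subtype.val (hAel.1.is_comm.comm ⟨a, ha⟩ ⟨b, hb⟩))
  have hexpA : ∀ x ∈ A.map (MulAut.conj g).toMonoidHom, x ^ p = 1 := by
    rintro _ ⟨a, ha, rfl⟩
    rw [← map_pow, hAel.2 a ha, map_one]
  have hA'el : IsElementaryAbelian p (A.map (MulAut.conj g).toMonoidHom) :=
    ⟨⟨⟨fun x y => Subtype.ext (hcommA x.1 x.2 y.1 y.2)⟩⟩, hexpA⟩
  -- `p ∈ τ₂(N)`
  have hr2 : PRankLE p 2 ↥N := Cfsg.Agent.Helper22.bg10_pRank_of_not_alpha N p hp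
    (fun h => hpσN (Cfsg.Agent.Helper22.bg10_alpha_sub_sigma hG hU hN h))
  have hr1 : ¬ PRankLE p 1 ↥N := by
    intro h
    have h1 := h ((A.map (MulAut.conj g).toMonoidHom).subgroupOf N)
      ⟨⟨fun x y => Subtype.ext (Subtype.ext
        (hcommA x.1.1 (Subgroup.mem_subgroupOf.mp x.2) y.1.1 (Subgroup.mem_subgroupOf.mp y.2)))⟩⟩
      (fun a ha => Subtype.ext (by
        rw [Subgroup.coe_pow]
        exact hexpA a.1 (Subgroup.mem_subgroupOf.mp ha)))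
    have h2 : Nat.card ((A.map (MulAut.conj g).toMonoidHom).subgroupOf N) = p ^ 2 := by
      rw [Nat.card_congr (Subgroup.subgroupOfEquivOfLe hAN).toEquiv, hA'c]
    rw [h2, pow_one] at h1
    have h3 : p < p ^ 2 := by
      have := hp.one_lt
      nlinarith
    omega
  have hpτ : p ∈ tau2 N := ⟨hp, hpσN, hr2, hr1⟩
  obtain ⟨-, -, -, -, hstar, -⟩ :=
    Cfsg.Agent.S1417.result hG N hN p hpτ _ ⟨hAN, hA'el, hA'c⟩
  have hMg : IsCoatom (M.map (MulAut.conj g).toMonoidHom) :=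
    Cfsg.Agent.Helper47.isCoatom_map_conj hM g
  have hne : M.map (MulAut.conj g).toMonoidHom ≠ N := by
    intro h
    apply hqσ
    rw [← Cfsg.Agent.Helper54.bg14t_sigma_conj M g, h]
    exact hq
  have hbot := hstar _ hMg hne (Subgroup.map_mono hAM)
  have hmem : g * z * g⁻¹ ∈ sigmaCore N ⊓ M.map (MulAut.conj g).toMonoidHom :=
    ⟨hgσ, ⟨z, hzM, rfl⟩⟩
  rw [hbot, Subgroup.mem_bot] at hmem
  apply hz1
  have h4 : z = g⁻¹ * (g * z * g⁻¹) * g := by group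
  rw [h4, hmem]
  group

end Cfsg.Agent.Helper76
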