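import Mathlib
import Cfsg.Prelude.Def_OddOrderLocal
import Cfsg.Agent.Helper23.Trans

/-!
# CALL S1538 (BG38), piece NF (helper76): `κ(M) ≠ ∅`, `M_F = M_σ` ⟹ `M` is not of Frobenius type
-/

set_option autoImplicit false

namespace Cfsg.Agent.Helper76

open Cfsg Subgroup

universe u

variable {G : Type u} [Group G] [Finite G]

/-- NF. A maximal subgroup with `κ(M) ≠ ∅` and `M_F = M_σ` is not of Frobenius type. -/
theorem bg38_not_typeF (hG : IsMinSimpleOddOrder G) {M : Subgroup G} (hM : IsCoatom M) {r : ℕ}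
    (hr : r ∈ kappa M) (hF : fittingHallOf M = sigmaCore M)
    (hexp : ∀ {A B : Subgroup ↥M}, Monoid.exponent ↥A = Monoid.exponent ↥B → ∀ {r : ℕ}, r.Prime →
      r ∣ Nat.card B → ∃ u ∈ A, orderOf u = r)
    (hcyc : ∀ {r : ℕ}, r.Prime → ∀ {P : Subgroup ↥M}, IsPGroup r P → IsCyclic ↥P →
      ∀ {u x : ↥M}, u ∈ P → orderOf u = r → x ∈ P → x ≠ 1 → u ∈ zpowers x) :
    ¬ IsOfTypeF ↥M := by
  rintro ⟨-, -, -, -, Uc, -, hcompl, -, U₀, hU₀, hexpU, hfpf⟩
  have hrp : r.Prime := hr.1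
  have hrM : r ∣ Nat.card ↥M := hr.2.1
  have hrσ : r ∉ sigma M := hr.2.2.1
  have hcard : Nat.card ↥(fittingHall ↥M) * Nat.card ↥Uc = Nat.card ↥M := hcompl.card_mul_card
  have hcF : Nat.card ↥(fittingHall ↥M) = Nat.card ↥(sigmaCore M) := by
    rw [← hF]
    exact (Subgroup.card_map_of_injective M.subtype_injective).symm
  have hrF : ¬ r ∣ Nat.card ↥(fittingHall ↥M) := by
    rw [hcF]
    intro h
    exact hrσ (Cfsg.Agent.Helper23.mem_of_dvd_card_piCoreOf (sigma M) M hrp h)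
  have hrU : r ∣ Nat.card ↥Uc := by
    rw [← hcard] at hrM
    exact (hrp.dvd_mul.mp hrM).resolve_left hrF
  obtain ⟨u, huU₀, hur⟩ := hexp hexpU hrp hrU
  have hu1 : u ≠ 1 := by
    intro h
    rw [h, orderOf_one] at hur
    exact hrp.one_lt.ne hur
  have hpg : IsPGroup r ↥(zpowers u) :=
    IsPGroup.of_card (n := 1) (by rw [Nat.card_zpowers, hur, pow_one])
  obtain ⟨P, hP⟩ := hpg.exists_le_sylow
  obtain ⟨hPc, x, hxP, hx1, y, hyσ, hy1, hxy⟩ := hr.2.2.2 P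
  have huP : u ∈ (P : Subgroup ↥M) := hP (mem_zpowers u)
  have huzx : u ∈ zpowers x := hcyc hrp P.isPGroup' hPc huP hur hxP hx1
  obtain ⟨k, hk⟩ := Subgroup.mem_zpowers_iff.mp huzx
  have hcomm : ((u : ↥M) : G) * y = y * ((u : ↥M) : G) := by
    have h1 : Commute ((x : ↥M) : G) y := hxy
    have h2 : ((u : ↥M) : G) = ((x : ↥M) : G) ^ k := by
      rw [← hk]
      rfl
    rw [h2]
    exact (h1.zpow_left k).eq
  have hyM : y ∈ M := Cfsg.Agent.Helper23.piCoreOf_le (sigma M) M hyσ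
  have hyF : (⟨y, hyM⟩ : ↥M) ∈ fittingHall ↥M := by
    have h1 : y ∈ fittingHallOf M := by rw [hF]; exact hyσ
    obtain ⟨z, hz, hzy⟩ := h1
    have h2 : z = ⟨y, hyM⟩ := Subtype.ext hzy
    rw [← h2]
    exact hz
  have h3 := hfpf u huU₀ hu1 ⟨y, hyM⟩ hyF (Subtype.ext hcomm)
  exact hy1 (congrArg Subtype.val h3)

end Cfsg.Agent.Helper76
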