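import Mathlib
import Cfsg.Prelude.Def_OddOrderLocal
import Cfsg.Agent.Helper23.Trans

/-!
# CALL S1356, piece FACT (helper76): `M = K M'`
-/

set_option autoImplicit false

namespace Cfsg.Agent.Helper76

open Cfsg Subgroup
open scoped commutatorElement

universe u

variable {G : Type u} [Group G] [Finite G]

/-- FACT. `M = K M'` from the standard factorisation and `M' = U M_σ`. -/
theorem bg56_fact {M K U : Subgroup G} (hKU : IsSigmaDecomposition M K U)
    (hder : ⁅M, M⁆ = U ⊔ sigmaCore M) : ∀ m ∈ M, ∃ k ∈ K, ∃ n ∈ ⁅M, M⁆, m = k * n := by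
  have hKM : K ≤ M := hKU.hall.1
  have hKN : K ≤ normalizer (sigmaCore M : Set G) :=
    hKM.trans (Cfsg.Agent.Helper23.le_normalizer_piCoreOf (sigma M) M)
  have hle : ⁅M, M⁆ ≤ M := by
    rw [Subgroup.commutator_le]
    intro a ha b hb
    exact M.mul_mem (M.mul_mem (M.mul_mem ha hb) (M.inv_mem ha)) (M.inv_mem hb)
  intro m hm
  obtain ⟨u, hu, b, hb, rfl⟩ := hKU.compl.2.2.2 m hm
  have hb' : b ∈ (↑(K ⊔ sigmaCore M) : Set G) := hb
  rw [Subgroup.coe_mul_of_left_le_normalizer_right K (sigmaCore M) hKN, Set.mem_mul] at hb'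
  obtain ⟨k, hk, s, hs, rfl⟩ := hb'
  have huD : u ∈ ⁅M, M⁆ := by
    rw [hder]
    exact Subgroup.mem_sup_left hu
  have hsD : s ∈ ⁅M, M⁆ := by
    rw [hder]
    exact Subgroup.mem_sup_right hs
  have hconj : k⁻¹ * u * k ∈ ⁅M, M⁆ := by
    have h1 : k⁻¹ * u * k = u * ⁅u⁻¹, k⁻¹⁆ := by
      rw [commutatorElement_def]
      group
    rw [h1]
    exact Subgroup.mul_mem _ huD
      (Subgroup.commutator_mem_commutator (M.inv_mem (hle huD)) (M.inv_mem (hKM hk)))
  refine ⟨k, hk, k⁻¹ * u * k * s, Subgroup.mul_mem _ hconj hsD, ?_⟩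
  group

end Cfsg.Agent.Helper76
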