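import Mathlib
import Cfsg.Prelude.Def_Blocks
import Cfsg.Agent.Helper80.CharEigen
import Cfsg.Agent.Helper79.Quotient

/-!
# Blichfeldt-type lemma, part A (helper76)

If `f` is an endomorphism of prime order `p` on a complex space of dimension `< p - 1` whose
powers `f ^ r` (`0 < r < p`) all have the same trace, then `f = 1`.  Consequently a character
of degree `< p - 1` that does not have every `p`-element in its kernel is moved by some Galois
twist `g ↦ χ (g ^ t)` with `t ≡ 1` modulo the `p'`-part of `|G|`.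
-/

set_option autoImplicit false

namespace Cfsg.Agent.Helper76

open Module

theorem blich_geom (p : ℕ) (ω : ℂ) (hω : ω ^ p = 1) :
    ∑ r ∈ Finset.range p, ω ^ r = if ω = 1 then (p : ℂ) else 0 := by
  split_ifs with h
  · subst h; simp
  · have := geom_sum_mul ω p
    rw [hω, sub_self] at this
    rcases mul_eq_zero.mp this with h1 | h1
    · exact h1
    · exact absurd (sub_eq_zero.mp h1) h

theorem blich_end_eq_one {V : Type*} [AddCommGroup V] [Module ℂ V] [FiniteDimensional ℂ V]
    (f : Module.End ℂ V) (p : ℕ) (hp : p.Prime) (hdim : finrank ℂ V + 1 < p) (hf : f ^ p = 1)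
    (htr : ∀ r, 0 < r → r < p → LinearMap.trace ℂ V (f ^ r) = LinearMap.trace ℂ V f) :
    f = 1 := by
  classical
  obtain ⟨ι, hι, b, μ, h1, h2⟩ := Helper80.exists_eigenbasis_of_pow_eq_one f p hp.pos hf
  have hcard : Fintype.card ι = finrank ℂ V := (Module.finrank_eq_card_basis b).symm
  have hpow : ∀ r : ℕ, ∀ i, (f ^ r) (b i) = (μ i ^ r) • b i := by
    intro r i
    induction r with
    | zero => simp
    | succ k ih =>
      rw [pow_succ, Module.End.mul_apply, h1, map_smul, ih, smul_smul, pow_succ, mul_comm]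
  have htrr : ∀ r : ℕ, LinearMap.trace ℂ V (f ^ r) = ∑ i, μ i ^ r := fun r =>
    Helper80.trace_eq_sum_of_eigenbasis b (f ^ r) _ (hpow r)
  have key : ∀ ω : ℂ, ω ^ p = 1 →
      (p : ℂ) * ((Finset.univ.filter (fun i => μ i = ω)).card : ℂ) =
        (Fintype.card ι : ℂ) + LinearMap.trace ℂ V f * ((if ω = 1 then (p : ℂ) else 0) - 1) := by
    intro ω hω
    have hω0 : ω ≠ 0 := by
      intro h; rw [h, zero_pow hp.ne_zero] at hω; exact zero_ne_one hω
    have hωi : (ω⁻¹) ^ p = 1 := by rw [inv_pow, hω, inv_one]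
    have e1 : ∑ r ∈ Finset.range p, (ω⁻¹) ^ r * LinearMap.trace ℂ V (f ^ r) =
        (p : ℂ) * ((Finset.univ.filter (fun i => μ i = ω)).card : ℂ) := by
      simp_rw [htrr, Finset.mul_sum]
      rw [Finset.sum_comm]
      have hin : ∀ i, ∑ r ∈ Finset.range p, (ω⁻¹) ^ r * μ i ^ r =
          if μ i = ω then (p : ℂ) else 0 := by
        intro i
        have h3 : (ω⁻¹ * μ i) ^ p = 1 := by rw [mul_pow, hωi, h2, one_mul]
        have h4 := blich_geom p _ h3
        simp_rw [mul_pow] at h4
        rw [h4]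
        have h5 : (ω⁻¹ * μ i = 1) ↔ μ i = ω := by
          constructor
          · intro h
            have := congrArg (fun z => ω * z) h
            simp only [mul_one] at this
            rw [← mul_assoc, mul_inv_cancel₀ hω0, one_mul] at this
            exact this
          · intro h; rw [h, inv_mul_cancel₀ hω0]
        simp only [h5]
      simp_rw [hin]
      rw [Finset.sum_ite, Finset.sum_const_zero, add_zero, Finset.sum_const, nsmul_eq_mul,
        mul_comm]
    have e2 : ∑ r ∈ Finset.range p, (ω⁻¹) ^ r * LinearMap.trace ℂ V (f ^ r) =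
        (Fintype.card ι : ℂ) +
          LinearMap.trace ℂ V f * ((if ω = 1 then (p : ℂ) else 0) - 1) := by
      have hg := blich_geom p _ hωi
      have hiff : (ω⁻¹ = 1) ↔ ω = 1 := inv_eq_one
      simp only [hiff] at hg
      rw [← hg]
      obtain ⟨m, hm⟩ : ∃ m, p = m + 1 := ⟨p - 1, by have := hp.pos; omega⟩
      rw [hm, Finset.sum_range_succ', Finset.sum_range_succ']
      have h6 : ∑ k ∈ Finset.range m, (ω⁻¹) ^ (k + 1) * LinearMap.trace ℂ V (f ^ (k + 1)) =
          (∑ k ∈ Finset.range m, (ω⁻¹) ^ (k + 1)) * LinearMap.trace ℂ V f := by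
        rw [Finset.sum_mul]
        apply Finset.sum_congr rfl
        intro k hk
        rw [htr (k + 1) (by omega) (by have := Finset.mem_range.mp hk; omega)]
      rw [h6]
      have h0 : LinearMap.trace ℂ V (f ^ 0) = (Fintype.card ι : ℂ) := by
        rw [htrr]; simp
      rw [h0]
      simp only [pow_zero, one_mul]
      ring
    rw [← e1, e2]
  set ζ : ℂ := Complex.exp (2 * Real.pi * Complex.I / p) with hζdef
  have hζ : IsPrimitiveRoot ζ p := Complex.isPrimitiveRoot_exp p hp.ne_zero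
  have hζ1 : ζ ≠ 1 := hζ.ne_one hp.one_lt
  have k1 := key 1 (one_pow p)
  have k2 := key ζ hζ.pow_eq_one
  rw [if_pos rfl] at k1
  rw [if_neg hζ1] at k2
  set n1 := (Finset.univ.filter (fun i => μ i = 1)).card with hn1
  set n2 := (Finset.univ.filter (fun i => μ i = ζ)).card with hn2
  have hp0 : (p : ℂ) ≠ 0 := by exact_mod_cast hp.ne_zero
  have h7 : (n1 : ℂ) + ((p : ℂ) - 1) * (n2 : ℂ) = (Fintype.card ι : ℂ) := by
    have : (p : ℂ) * ((n1 : ℂ) + ((p : ℂ) - 1) * (n2 : ℂ)) = (p : ℂ) * (Fintype.card ι : ℂ) := by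
      linear_combination k1 + ((p : ℂ) - 1) * k2
    exact mul_left_cancel₀ hp0 this
  have h8 : n1 + (p - 1) * n2 = Fintype.card ι := by
    have hp1 : 1 ≤ p := hp.pos
    have : ((n1 + (p - 1) * n2 : ℕ) : ℂ) = ((Fintype.card ι : ℕ) : ℂ) := by
      push_cast [Nat.cast_sub hp1]
      exact h7
    exact_mod_cast this
  have hn2z : n2 = 0 := by
    by_contra hne
    have hpos : 1 ≤ n2 := Nat.one_le_iff_ne_zero.mpr hne
    have : (p - 1) * 1 ≤ (p - 1) * n2 := Nat.mul_le_mul_left _ hpos
    omega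
  have hn1e : n1 = Fintype.card ι := by rw [hn2z] at h8; simpa using h8
  have hall : ∀ i, μ i = 1 := by
    intro i
    have : Finset.univ.filter (fun i => μ i = 1) = Finset.univ := by
      apply Finset.eq_univ_of_card
      exact hn1e
    have hi : i ∈ Finset.univ.filter (fun i => μ i = 1) := by rw [this]; exact Finset.mem_univ i
    exact (Finset.mem_filter.mp hi).2
  apply b.ext
  intro i
  rw [h1, hall, one_smul, Module.End.one_apply]

theorem blich_rep_eq_one {G : Type*} [Group G] {V : Type*} [AddCommGroup V] [Module ℂ V]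
    [FiniteDimensional ℂ V] (ρ : Representation ℂ G V) (p : ℕ) (hp : p.Prime)
    (hdim : finrank ℂ V + 1 < p)
    (H : ∀ g : G, (∃ j, g ^ (p ^ j) = 1) → ∀ r, 0 < r → r < p →
      ρ.character (g ^ r) = ρ.character g) :
    ∀ j (x : G), x ^ (p ^ j) = 1 → ρ x = 1 := by
  intro j
  induction j with
  | zero => intro x hx; simp at hx; rw [hx, map_one]
  | succ j ih =>
    intro x hx
    have h1 : ρ (x ^ p) = 1 := ih (x ^ p) (by rw [← pow_mul, ← pow_succ']; exact hx)
    apply blich_end_eq_one (ρ x) p hp hdim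
    · rw [← map_pow]; exact h1
    · intro r hr0 hrp
      have := H x ⟨j + 1, hx⟩ r hr0 hrp
      simp only [Representation.character] at this
      rw [← map_pow]; exact this

theorem blich_exists_twist {G : Type*} [Group G] [Finite G] (p : ℕ) (hp : p.Prime) (ψ : G → ℂ)
    (hψ : Cfsg.IsCharacter G ψ) (hdeg : Cfsg.charDegree ψ + 1 < p) (x : G)
    (hx : ∃ j, x ^ (p ^ j) = 1) (hne : ψ x ≠ ψ 1) :
    ∃ t : ℕ, Nat.Coprime t (Nat.card G) ∧
      t ≡ 1 [MOD Nat.card G / p ^ ((Nat.card G).factorization p)] ∧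
      (fun g => ψ (g ^ t)) ≠ ψ := by
  by_contra hcon
  push Not at hcon
  obtain ⟨n, ρ, rfl⟩ := hψ
  have hN0 : Nat.card G ≠ 0 := Nat.card_pos.ne'
  have hdn : Cfsg.charDegree ρ.character = n := by
    unfold Cfsg.charDegree
    rw [Representation.char_one]
    simp
  have hdim : finrank ℂ (Fin n → ℂ) + 1 < p := by
    rw [hdn] at hdeg
    simpa using hdeg
  set a := (Nat.card G).factorization p with ha
  have hcop : Nat.Coprime (p ^ a) (Nat.card G / p ^ a) :=
    (Nat.coprime_ordCompl hp hN0).pow_left a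
  have hmul : p ^ a * (Nat.card G / p ^ a) = Nat.card G := Nat.ordProj_mul_ordCompl_eq_self _ p
  have H : ∀ g : G, (∃ j, g ^ (p ^ j) = 1) → ∀ r, 0 < r → r < p →
      ρ.character (g ^ r) = ρ.character g := by
    intro g ⟨j, hg⟩ r hr0 hrp
    obtain ⟨t, ht1, ht2⟩ := Nat.chineseRemainder hcop r 1
    have hrc : Nat.Coprime r p :=
      Nat.Coprime.symm ((Nat.Prime.coprime_iff_not_dvd hp).mpr (Nat.not_dvd_of_pos_of_lt hr0 hrp))
    have htc : Nat.Coprime t (Nat.card G) := by
      rw [← hmul]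
      apply Nat.Coprime.mul_right
      · have := ht1.gcd_eq
        unfold Nat.Coprime
        rw [this]
        exact hrc.pow_right a
      · have := ht2.gcd_eq
        unfold Nat.Coprime
        rw [this]
        exact Nat.gcd_one_left _
    have h1 := hcon t htc ht2
    have hord : orderOf g ∣ p ^ a := by
      have h2 : orderOf g ∣ p ^ j := orderOf_dvd_of_pow_eq_one hg
      obtain ⟨i, hi, hi2⟩ := (Nat.dvd_prime_pow hp).mp h2
      rw [hi2]
      apply pow_dvd_pow
      have h3 : p ^ i ∣ Nat.card G := by rw [← hi2]; exact orderOf_dvd_natCard g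
      exact (hp.pow_dvd_iff_le_factorization hN0).mp h3
    have hgt : g ^ t = g ^ r := by
      rw [pow_eq_pow_iff_modEq]
      exact ht1.of_dvd hord
    have h9 := congrFun h1 g
    rw [← hgt]
    exact h9
  obtain ⟨j, hj⟩ := hx
  have := blich_rep_eq_one ρ p hp hdim H j x hj
  apply hne
  simp only [Representation.character, this, map_one]

theorem blich_pow_ordProj {G : Type*} [Group G] [Finite G] (p : ℕ) (hp : p.Prime) (g : G)
    (hg : ∃ j, g ^ (p ^ j) = 1) : g ^ (p ^ ((Nat.card G).factorization p)) = 1 := by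
  obtain ⟨j, hg⟩ := hg
  have hN0 : Nat.card G ≠ 0 := Nat.card_pos.ne'
  have h2 : orderOf g ∣ p ^ j := orderOf_dvd_of_pow_eq_one hg
  obtain ⟨i, hi, hi2⟩ := (Nat.dvd_prime_pow hp).mp h2
  apply orderOf_dvd_iff_pow_eq_one.mp
  rw [hi2]
  apply pow_dvd_pow
  have h3 : p ^ i ∣ Nat.card G := by rw [← hi2]; exact orderOf_dvd_natCard g
  exact (hp.pow_dvd_iff_le_factorization hN0).mp h3

theorem blich_decomp {G : Type*} [Group G] [Finite G] (p : ℕ) (hp : p.Prime) (g : G) :
    ∃ e f : ℕ, g = g ^ e * g ^ f ∧ (g ^ e) ^ (p ^ ((Nat.card G).factorization p)) = 1 ∧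
      (g ^ f) ^ (Nat.card G / p ^ ((Nat.card G).factorization p)) = 1 := by
  have hN0 : Nat.card G ≠ 0 := Nat.card_pos.ne'
  set a := (Nat.card G).factorization p with ha
  have hcop : Nat.Coprime (p ^ a) (Nat.card G / p ^ a) :=
    (Nat.coprime_ordCompl hp hN0).pow_left a
  have hmul : p ^ a * (Nat.card G / p ^ a) = Nat.card G := Nat.ordProj_mul_ordCompl_eq_self _ p
  obtain ⟨e, he1, he2⟩ := Nat.chineseRemainder hcop 1 0
  obtain ⟨f, hf1, hf2⟩ := Nat.chineseRemainder hcop 0 1
  refine ⟨e, f, ?_, ?_, ?_⟩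
  · have h1 : e + f ≡ 1 [MOD p ^ a * (Nat.card G / p ^ a)] := by
      apply (Nat.modEq_and_modEq_iff_modEq_mul hcop).mp
      exact ⟨by simpa using he1.add hf1, by simpa using he2.add hf2⟩
    rw [hmul] at h1
    rw [← pow_add]
    conv_lhs => rw [← pow_one g]
    rw [pow_eq_pow_iff_modEq]
    exact (h1.of_dvd (orderOf_dvd_natCard g)).symm
  · obtain ⟨m, hm⟩ := (Nat.modEq_zero_iff_dvd).mp he2
    have h2 : e * p ^ a = Nat.card G * m := by
      rw [hm]; conv_rhs => rw [← hmul]
      ring
    rw [← pow_mul, h2, pow_mul, pow_card_eq_one', one_pow]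
  · obtain ⟨m, hm⟩ := (Nat.modEq_zero_iff_dvd).mp hf1
    have h2 : f * (Nat.card G / p ^ a) = Nat.card G * m := by
      rw [hm]; conv_rhs => rw [← hmul]
      ring
    rw [← pow_mul, h2, pow_mul, pow_card_eq_one', one_pow]

end Cfsg.Agent.Helper76
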