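import Mathlib
import Cfsg.Prelude.Def_Blocks
import Cfsg.Agent.Helper76.BlichA
import Cfsg.Agent.Helper75.Galois
import Cfsg.Agent.Helper75.InnerLin
import Cfsg.Agent.Helper15.DetChar
import Cfsg.Agent.Helper15.CharScalar
import Cfsg.Agent.Helper15.BergerB1
import Cfsg.Agent.Helper79.Linear
import Cfsg.Agent.Helper81.CharBasic
import Cfsg.Agent.Helper80.CharIrr

/-!
# Blichfeldt-type lemma, part B (helper76)

Let `χ` be a faithful character of `G` of degree `n`, and `p ≠ q` primes larger than `n + 1`.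
If commuting `p`- and `q`-elements always have one of them central, then every `p`-element
commutes with every `q`-element.
-/

set_option autoImplicit false

namespace Cfsg.Agent.Helper76

open Module
open scoped ComplexConjugate

theorem blich_orth {G : Type*} [Group G] [Fintype G] (χ ψ : Cfsg.IrrCharacter G) :
    ∑ g : G, (χ : G → ℂ) g * conj ((ψ : G → ℂ) g) =
      if χ = ψ then (Nat.card G : ℂ) else 0 := by
  have h1 := Helper81.irr_orthonormal χ ψ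
  have hN : (Nat.card G : ℂ) ≠ 0 := by exact_mod_cast Nat.card_pos.ne'
  have h2 : ∑ g : G, (χ : G → ℂ) g * conj ((ψ : G → ℂ) g) =
      ∑ g : G, (χ : G → ℂ) g * (ψ : G → ℂ) g⁻¹ :=
    Finset.sum_congr rfl (fun g _ => by
      rw [Helper80.isCharacter_inv (Helper80.isCharacter_of_irr ψ.2)])
  rw [h2, (inv_mul_eq_iff_eq_mul₀ hN).mp h1]
  split_ifs <;> simp

theorem blich_twist_central {G : Type*} [Group G] [Finite G] {e : ℕ}
    (ρ : Representation ℂ G (Fin e → ℂ)) [ρ.IsIrreducible] (M k : ℕ) (hM : 0 < M)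
    (hk : e * k ≡ 1 [MOD M]) (z : G) (hz : z ∈ Subgroup.center G) (hzM : z ^ M = 1) (g : G) :
    ((((Helper15.detHom ρ)⁻¹ ^ k) (z * g) : ℂˣ) : ℂ) * ρ.character (z * g) =
      ((((Helper15.detHom ρ)⁻¹ ^ k) g : ℂˣ) : ℂ) * ρ.character g := by
  obtain ⟨c, hc⟩ := Helper15.rep_central_scalar ρ hz
  have hpos : 0 < finrank ℂ (Fin e → ℂ) := Helper80.rep_finrank_pos ρ
  have he : finrank ℂ (Fin e → ℂ) = e := by simp
  have hcM : c ^ M = 1 := by
    have h1 : (ρ z) ^ M = 1 := by rw [← map_pow, hzM, map_one]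
    rw [hc, smul_pow, one_pow] at h1
    have h2 := congrArg (LinearMap.trace ℂ (Fin e → ℂ)) h1
    rw [map_smul, LinearMap.trace_one, smul_eq_mul] at h2
    have h3 : ((finrank ℂ (Fin e → ℂ) : ℕ) : ℂ) ≠ 0 := by exact_mod_cast hpos.ne'
    have h4 : (c ^ M - 1) * ((finrank ℂ (Fin e → ℂ) : ℕ) : ℂ) = 0 := by
      rw [sub_mul, h2, one_mul, sub_self]
    rcases mul_eq_zero.mp h4 with h5 | h5
    · exact sub_eq_zero.mp h5
    · exact absurd h5 h3
  have hc0 : c ≠ 0 := by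
    intro h; rw [h, zero_pow hM.ne'] at hcM; exact zero_ne_one hcM
  have hdet : LinearMap.det (ρ z) = c ^ e := by
    rw [hc, LinearMap.det_smul, he, map_one, mul_one]
  have hcek : c ^ (e * k) = c := by
    rw [pow_eq_pow_mod (e * k) hcM, hk, ← pow_eq_pow_mod 1 hcM, pow_one]
  have hμz : ((((Helper15.detHom ρ)⁻¹ ^ k) z : ℂˣ) : ℂ) = c⁻¹ := by
    rw [MonoidHom.pow_apply, MonoidHom.inv_apply, Units.val_pow_eq_pow_val, Units.val_inv_eq_inv_val,
      Helper15.detHom_coe, hdet, inv_pow, ← pow_mul, hcek]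
  rw [map_mul, Units.val_mul, hμz, Helper15.char_mul_of_rep_scalar ρ hc]
  field_simp

theorem blich_exists_constituent {G : Type*} [Group G] [Finite G] {χ : G → ℂ}
    (hχ : Cfsg.IsCharacter G χ) (c : G) (hc : χ c ≠ χ 1) :
    ∃ ψ : Cfsg.IrrCharacter G, (ψ : G → ℂ) c ≠ (ψ : G → ℂ) 1 ∧
      Cfsg.charDegree (ψ : G → ℂ) ≤ Cfsg.charDegree χ := by
  classical
  let _ : Fintype G := Fintype.ofFinite G
  let _ : Fintype (Cfsg.IrrCharacter G) := Fintype.ofFinite _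
  by_contra hcon
  push Not at hcon
  apply hc
  have hsum := Helper75.character_eq_sum_irr hχ
  have h1 : ∀ g, χ g = ∑ ψ : Cfsg.IrrCharacter G, Cfsg.classInner χ (ψ : G → ℂ) * (ψ : G → ℂ) g := by
    intro g
    conv_lhs => rw [hsum]
    simp [Finset.sum_apply]
  rw [h1 c, h1 1]
  apply Finset.sum_congr rfl
  intro ψ _
  by_cases h0 : Cfsg.classInner χ (ψ : G → ℂ) = 0
  · rw [h0, zero_mul, zero_mul]
  · have hle := Helper15.charDegree_le_of_constituent χ hχ ψ ψ.2 h0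
    by_contra hne
    have hne' : (ψ : G → ℂ) c ≠ (ψ : G → ℂ) 1 := by
      intro h; apply hne; rw [h]
    have := hcon ψ hne'
    omega

theorem blich_core_aux {G : Type*} [Group G] [Finite G] (ψ : G → ℂ) (p : ℕ) (_hp : p.Prime)
    (hcen : ∀ z ∈ Subgroup.center G, (∃ j, z ^ (p ^ j) = 1) → ∀ g, ψ (z * g) = ψ g)
    (t : ℕ) (ht : t ≡ 1 [MOD Nat.card G / p ^ ((Nat.card G).factorization p)])
    (g u h : G) (hg : g = u * h) (huh : Commute u h)
    (hu : u ^ (p ^ ((Nat.card G).factorization p)) = 1)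
    (hh : h ^ (Nat.card G / p ^ ((Nat.card G).factorization p)) = 1)
    (huc : u ∈ Subgroup.center G) : ψ (g ^ t) = ψ g := by
  have h1 : h ^ t = h := by
    conv_rhs => rw [← pow_one h]
    rw [pow_eq_pow_iff_modEq]
    exact ht.of_dvd (orderOf_dvd_of_pow_eq_one hh)
  rw [hg, huh.mul_pow, h1, hcen (u ^ t) (Subgroup.pow_mem _ huc t) ⟨_, by
    rw [← pow_mul, mul_comm, pow_mul, hu, one_pow]⟩, hcen u huc ⟨_, hu⟩]

theorem blich_core {G : Type*} [Group G] [Finite G] (ψ : Cfsg.IrrCharacter G) (p q : ℕ)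
    (hp : p.Prime) (hq : q.Prime)
    (hdp : Cfsg.charDegree (ψ : G → ℂ) + 1 < p) (hdq : Cfsg.charDegree (ψ : G → ℂ) + 1 < q)
    (hcen : ∀ z ∈ Subgroup.center G, ((∃ j, z ^ (p ^ j) = 1) ∨ (∃ j, z ^ (q ^ j) = 1)) →
      ∀ g, (ψ : G → ℂ) (z * g) = (ψ : G → ℂ) g)
    (BC : ∀ u v : G, (∃ j, u ^ (p ^ j) = 1) → (∃ j, v ^ (q ^ j) = 1) → u * v = v * u →
      u ∈ Subgroup.center G ∨ v ∈ Subgroup.center G)
    (x y : G) (hx : ∃ j, x ^ (p ^ j) = 1) (hy : ∃ j, y ^ (q ^ j) = 1)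
    (hxne : (ψ : G → ℂ) x ≠ (ψ : G → ℂ) 1) (hyne : (ψ : G → ℂ) y ≠ (ψ : G → ℂ) 1) : False := by
  classical
  let _ : Fintype G := Fintype.ofFinite G
  have hψc : Cfsg.IsCharacter G (ψ : G → ℂ) := Helper80.isCharacter_of_irr ψ.2
  obtain ⟨tp, htp1, htp2, htp3⟩ := blich_exists_twist p hp (ψ : G → ℂ) hψc hdp x hx hxne
  obtain ⟨tq, htq1, htq2, htq3⟩ := blich_exists_twist q hq (ψ : G → ℂ) hψc hdq y hy hyne
  let ζ₁ : Cfsg.IrrCharacter G :=
    ⟨fun g => (ψ : G → ℂ) (g ^ tp), Helper75.isIrrCharacter_pow tp htp1 ψ.2⟩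
  let ζ₂ : Cfsg.IrrCharacter G :=
    ⟨fun g => (ψ : G → ℂ) (g ^ tq), Helper75.isIrrCharacter_pow tq htq1 ψ.2⟩
  have h1 : ζ₁ ≠ ψ := fun h => htp3 (congrArg Subtype.val h)
  have h2 : ζ₂ ≠ ψ := fun h => htq3 (congrArg Subtype.val h)
  have hN : (Nat.card G : ℂ) ≠ 0 := by exact_mod_cast Nat.card_pos.ne'
  have hsum : ∑ g : G, ((ζ₁ : G → ℂ) g - (ψ : G → ℂ) g) *
      conj ((ζ₂ : G → ℂ) g - (ψ : G → ℂ) g) ≠ 0 := by
    have e : ∑ g : G, ((ζ₁ : G → ℂ) g - (ψ : G → ℂ) g) *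
        conj ((ζ₂ : G → ℂ) g - (ψ : G → ℂ) g) =
        (∑ g, (ζ₁ : G → ℂ) g * conj ((ζ₂ : G → ℂ) g)) -
          (∑ g, (ζ₁ : G → ℂ) g * conj ((ψ : G → ℂ) g)) -
          (∑ g, (ψ : G → ℂ) g * conj ((ζ₂ : G → ℂ) g)) +
          ∑ g, (ψ : G → ℂ) g * conj ((ψ : G → ℂ) g) := by
      simp only [← Finset.sum_sub_distrib, ← Finset.sum_add_distrib]
      apply Finset.sum_congr rfl
      intro g _
      rw [map_sub]
      ring
    rw [e, blich_orth, blich_orth, blich_orth, blich_orth, if_neg h1, if_neg (Ne.symm h2),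
      if_pos rfl]
    split_ifs
    · intro h
      have : (2 : ℂ) * (Nat.card G : ℂ) = 0 := by linear_combination h
      simp [hN] at this
    · simpa using hN
  obtain ⟨g, -, hg⟩ := Finset.exists_ne_zero_of_sum_ne_zero hsum
  have hg1 : (ψ : G → ℂ) (g ^ tp) ≠ (ψ : G → ℂ) g := by
    intro h
    apply hg
    show ((ψ : G → ℂ) (g ^ tp) - (ψ : G → ℂ) g) * _ = 0
    rw [h, sub_self, zero_mul]
  have hg2 : (ψ : G → ℂ) (g ^ tq) ≠ (ψ : G → ℂ) g := by
    intro h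
    apply hg
    show _ * conj ((ψ : G → ℂ) (g ^ tq) - (ψ : G → ℂ) g) = 0
    rw [h, sub_self, map_zero, mul_zero]
  obtain ⟨e1, f1, hd1, hu1, hh1⟩ := blich_decomp p hp g
  obtain ⟨e2, f2, hd2, hu2, hh2⟩ := blich_decomp q hq g
  rcases BC (g ^ e1) (g ^ e2) ⟨_, hu1⟩ ⟨_, hu2⟩ (Commute.pow_pow_self g e1 e2) with hc | hc
  · exact hg1 (blich_core_aux (ψ : G → ℂ) p hp (fun z hz hzp => hcen z hz (Or.inl hzp)) tp htp2 g
      (g ^ e1) (g ^ f1) hd1 (Commute.pow_pow_self g e1 f1) hu1 hh1 hc)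
  · exact hg2 (blich_core_aux (ψ : G → ℂ) q hq (fun z hz hzq => hcen z hz (Or.inr hzq)) tq htq2 g
      (g ^ e2) (g ^ f2) hd2 (Commute.pow_pow_self g e2 f2) hu2 hh2 hc)

theorem blich_comm_ker {G : Type*} [Group G] {M : Type*} [Monoid M] (f : G →* M) (x y : G)
    (h : f x = 1 ∨ f y = 1) : f (x * y * x⁻¹ * y⁻¹) = 1 := by
  have hinv : ∀ z : G, f z = 1 → f z⁻¹ = 1 := by
    intro z hz
    have := map_mul f z⁻¹ z
    rw [inv_mul_cancel, map_one, hz, mul_one] at this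
    exact this.symm
  rcases h with h | h
  · rw [map_mul, map_mul, map_mul, h, hinv x h, one_mul, mul_one, ← map_mul, mul_inv_cancel,
      map_one]
  · rw [map_mul, map_mul, map_mul, h, hinv y h, mul_one, mul_one, ← map_mul, mul_inv_cancel,
      map_one]

/-- **Key lemma.** Let `χ` be a faithful character of degree `n` and `p`, `q` primes `> n + 1`.
If among commuting `p`- and `q`-elements one is always central, then all `p`-elements commute
with all `q`-elements. -/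
theorem blich_commute {G : Type*} [Group G] [Finite G] (χ : G → ℂ) (hχ : Cfsg.IsCharacter G χ)
    (hfaith : ∀ g, χ g = χ 1 → g = 1) (p q : ℕ) (hp : p.Prime) (hq : q.Prime)
    (hdp : Cfsg.charDegree χ + 1 < p) (hdq : Cfsg.charDegree χ + 1 < q)
    (BC : ∀ u v : G, (∃ j, u ^ (p ^ j) = 1) → (∃ j, v ^ (q ^ j) = 1) → u * v = v * u →
      u ∈ Subgroup.center G ∨ v ∈ Subgroup.center G)
    (x y : G) (hx : ∃ j, x ^ (p ^ j) = 1) (hy : ∃ j, y ^ (q ^ j) = 1) : x * y = y * x := by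
  by_contra hxy
  have hc1 : x * y * x⁻¹ * y⁻¹ ≠ 1 := by
    intro h
    apply hxy
    have := congrArg (fun z => z * y * x) h
    simpa [mul_assoc] using this
  have hχc : χ (x * y * x⁻¹ * y⁻¹) ≠ χ 1 := fun h => hc1 (hfaith _ h)
  obtain ⟨ψ, hψc, hψd⟩ := blich_exists_constituent hχ _ hχc
  obtain ⟨e, ρ, hirr, hρ⟩ := ψ.2
  have hdeg : Cfsg.charDegree (ψ : G → ℂ) = e := by
    rw [← hρ]; exact Helper80.charDegree_rep_character ρ
  have he0 : 0 < e := by have := Helper80.irr_degree_pos ψ; omega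
  set a := (Nat.card G).factorization p with ha
  set b := (Nat.card G).factorization q with hb
  have hep : Nat.Coprime e p :=
    Nat.Coprime.symm ((Nat.Prime.coprime_iff_not_dvd hp).mpr
      (Nat.not_dvd_of_pos_of_lt he0 (by omega)))
  have heq : Nat.Coprime e q :=
    Nat.Coprime.symm ((Nat.Prime.coprime_iff_not_dvd hq).mpr
      (Nat.not_dvd_of_pos_of_lt he0 (by omega)))
  have hcop : Nat.Coprime e (p ^ a * q ^ b) :=
    Nat.Coprime.mul_right (hep.pow_right a) (heq.pow_right b)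
  have hM : 0 < p ^ a * q ^ b := Nat.mul_pos (pow_pos hp.pos a) (pow_pos hq.pos b)
  obtain ⟨k, -, hk⟩ := Nat.exists_mul_mod_eq_of_coprime 1 hcop hM.ne'
  have hk' : e * k ≡ 1 [MOD p ^ a * q ^ b] := hk
  let μ : G →* ℂˣ := (Helper15.detHom ρ)⁻¹ ^ k
  let ψ' : Cfsg.IrrCharacter G := Helper79.irrTwist μ ψ
  have hψ'app : ∀ g, (ψ' : G → ℂ) g = (μ g : ℂ) * ρ.character g := fun g => by
    rw [Helper79.irrTwist_apply, hρ]
  have hdeg' : Cfsg.charDegree (ψ' : G → ℂ) = Cfsg.charDegree (ψ : G → ℂ) :=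
    Helper79.charDegree_irrTwist μ ψ
  have hcen : ∀ z ∈ Subgroup.center G, ((∃ j, z ^ (p ^ j) = 1) ∨ (∃ j, z ^ (q ^ j) = 1)) →
      ∀ g, (ψ' : G → ℂ) (z * g) = (ψ' : G → ℂ) g := by
    intro z hz hzpq g
    have hzM : z ^ (p ^ a * q ^ b) = 1 := by
      rcases hzpq with h | h
      · rw [pow_mul, blich_pow_ordProj p hp z h, one_pow]
      · rw [mul_comm, pow_mul, blich_pow_ordProj q hq z h, one_pow]
    rw [hψ'app, hψ'app]
    haveI := hirr
    exact blich_twist_central ρ _ k hM hk' z hz hzM g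
  have hμc : μ (x * y * x⁻¹ * y⁻¹) = 1 := by
    rw [map_mul, map_mul, map_mul, map_inv, map_inv, mul_comm (μ x) (μ y)]
    simp
  have hψ'c : (ψ' : G → ℂ) (x * y * x⁻¹ * y⁻¹) ≠ (ψ' : G → ℂ) 1 := by
    rw [Helper79.irrTwist_apply, Helper79.irrTwist_apply, hμc, map_one]
    simpa using hψc
  obtain ⟨e', ρ', hirr', hρ'⟩ := ψ'.2
  have key : ∀ g h : G, ((ψ' : G → ℂ) g = (ψ' : G → ℂ) 1 ∨ (ψ' : G → ℂ) h = (ψ' : G → ℂ) 1) →
      (ψ' : G → ℂ) (g * h * g⁻¹ * h⁻¹) = (ψ' : G → ℂ) 1 := by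
    intro g h hgh
    have h1 : ρ' (g * h * g⁻¹ * h⁻¹) = 1 := by
      apply blich_comm_ker
      rcases hgh with h2 | h2
      · left; exact Helper79.rep_eq_one_of_char_eq ρ' g (by rw [hρ']; exact h2)
      · right; exact Helper79.rep_eq_one_of_char_eq ρ' h (by rw [hρ']; exact h2)
    rw [← hρ']
    simp only [Representation.character, h1, map_one]
  have hx' : (ψ' : G → ℂ) x ≠ (ψ' : G → ℂ) 1 := fun h => hψ'c (key x y (Or.inl h))
  have hy' : (ψ' : G → ℂ) y ≠ (ψ' : G → ℂ) 1 := fun h => hψ'c (key x y (Or.inr h))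
  exact blich_core ψ' p q hp hq (by omega) (by omega) hcen BC x y hx hy hx' hy'

end Cfsg.Agent.Helper76
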