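import Mathlib
import Cfsg.Prelude.Def_Blocks
import Cfsg.Agent.Helper76.BlichB
import Cfsg.Agent.Helper32.PPrime

/-!
# Blichfeldt-type theorem, part C (helper76)

A finite group with a faithful complex character of degree `n` has an abelian Hall
`π`-subgroup, where `π` is the set of primes larger than `n + 1`.
-/

set_option autoImplicit false

namespace Cfsg.Agent.Helper76

universe u

theorem blich_isPGroup_zpowers {G : Type*} [Group G] (p : ℕ) (x : G)
    (hx : ∃ j, x ^ (p ^ j) = 1) : IsPGroup p (Subgroup.zpowers x) := by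
  rintro ⟨g, hg⟩
  obtain ⟨i, rfl⟩ := Subgroup.mem_zpowers_iff.mp hg
  obtain ⟨j, hj⟩ := hx
  refine ⟨j, Subtype.ext ?_⟩
  show (x ^ i) ^ (p ^ j) = 1
  rw [← zpow_natCast, ← zpow_mul, mul_comm, zpow_mul, zpow_natCast, hj, one_zpow]

theorem blich_pelt_of_mem {G : Type*} [Group G] {p : ℕ} {H : Subgroup G} (hH : IsPGroup p H)
    {a : G} (ha : a ∈ H) : ∃ j, a ^ (p ^ j) = 1 := by
  obtain ⟨k, hk⟩ := hH ⟨a, ha⟩
  exact ⟨k, by simpa using congrArg Subtype.val hk⟩

theorem blich_relIndex_map_subtype {G : Type*} [Group G] (A : Subgroup G) (S : Subgroup A) :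
    (S.map A.subtype).relIndex A = S.index := by
  unfold Subgroup.relIndex Subgroup.subgroupOf
  rw [Subgroup.comap_map_eq_self_of_injective A.subtype_injective]

theorem blich_sylow_in {G : Type*} [Group G] [Finite G] (r : ℕ) [Fact r.Prime] (A : Subgroup G) :
    ∃ T : Subgroup G, T ≤ A ∧ IsPGroup r T ∧ ¬ r ∣ T.relIndex A := by
  let S : Sylow r A := default
  refine ⟨(S : Subgroup A).map A.subtype, Subgroup.map_subtype_le _, S.isPGroup'.map _, ?_⟩
  rw [blich_relIndex_map_subtype]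
  exact S.not_dvd_index

theorem blich_sylow_le {G : Type*} [Group G] [Finite G] (r : ℕ) [Fact r.Prime] (A : Subgroup G)
    (h : ¬ r ∣ A.index) : ∃ P : Sylow r G, (P : Subgroup G) ≤ A := by
  obtain ⟨T, hTA, hT, hTrel⟩ := blich_sylow_in r A
  have hidx : ¬ r ∣ T.index := by
    rw [← Subgroup.relIndex_mul_index hTA]
    intro h1
    rcases (Nat.Prime.dvd_mul Fact.out).mp h1 with h2 | h2
    · exact hTrel h2
    · exact h h2
  refine ⟨hT.toSylow hidx, ?_⟩
  rw [IsPGroup.toSylow_coe]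
  exact hTA

theorem blich_centralizer_ne_top {G : Type*} [Group G] {x : G} (hx : x ∉ Subgroup.center G) :
    Subgroup.centralizer {x} ≠ ⊤ := by
  intro h
  apply hx
  rw [Subgroup.mem_center_iff]
  intro g
  have hg : g ∈ Subgroup.centralizer {x} := by rw [h]; exact Subgroup.mem_top g
  rw [Subgroup.mem_centralizer_iff] at hg
  exact (hg x rfl).symm

theorem blich_S {G : Type*} [Group G] [Finite G] (p : ℕ) [Fact p.Prime]
    (H2 : ∀ P : Sylow p G, ∀ a ∈ P, ∀ b ∈ P, a * b = b * a) (x : G)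
    (hx : ∃ j, x ^ (p ^ j) = 1) : ¬ p ∣ (Subgroup.centralizer {x}).index := by
  obtain ⟨P, hP⟩ := (blich_isPGroup_zpowers p x hx).exists_le_sylow
  have hxP : x ∈ P := hP (Subgroup.mem_zpowers x)
  have hle : (P : Subgroup G) ≤ Subgroup.centralizer {x} := by
    intro b hb
    rw [Subgroup.mem_centralizer_iff]
    intro h hh
    rw [Set.mem_singleton_iff.mp hh]
    exact H2 P x hxP b hb
  intro hdvd
  exact P.not_dvd_index (dvd_trans hdvd (Subgroup.index_dvd_of_le hle))

theorem blich_C1 {G : Type*} [Group G] [Finite G] (p q : ℕ) [Fact p.Prime] [Fact q.Prime]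
    (P : Sylow p G) (Q : Sylow q G) (hPQ : ∀ a ∈ P, ∀ b ∈ Q, a * b = b * a) (x : G)
    (hx : ∃ j, x ^ (p ^ j) = 1) : ¬ q ∣ (Subgroup.centralizer {x}).index := by
  obtain ⟨P₁, hP₁⟩ := (blich_isPGroup_zpowers p x hx).exists_le_sylow
  have hxP : x ∈ P₁ := hP₁ (Subgroup.mem_zpowers x)
  obtain ⟨g, hg⟩ := MulAction.exists_smul_eq G P P₁
  have hxg : x ∈ ((g • P : Sylow p G) : Subgroup G) := by rw [hg]; exact hxP
  rw [Sylow.coe_subgroup_smul, Subgroup.mem_smul_pointwise_iff_exists] at hxg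
  obtain ⟨a, ha, hax⟩ := hxg
  have hle : ((g • Q : Sylow q G) : Subgroup G) ≤ Subgroup.centralizer {x} := by
    intro b hb
    rw [Sylow.coe_subgroup_smul, Subgroup.mem_smul_pointwise_iff_exists] at hb
    obtain ⟨b', hb', hbb⟩ := hb
    rw [Subgroup.mem_centralizer_iff]
    intro h hh
    rw [Set.mem_singleton_iff.mp hh, ← hax, ← hbb]
    simp only [MulAut.smul_def, MulAut.conj_apply]
    have := hPQ a ha b' hb'
    calc g * a * g⁻¹ * (g * b' * g⁻¹) = g * (a * b') * g⁻¹ := by group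
      _ = g * (b' * a) * g⁻¹ := by rw [this]
      _ = g * b' * g⁻¹ * (g * a * g⁻¹) := by group
  intro hdvd
  exact (g • Q : Sylow q G).not_dvd_index (dvd_trans hdvd (Subgroup.index_dvd_of_le hle))

theorem blich_C2 {G : Type*} [Group G] [Finite G] (n : ℕ)
    (H1 : ∀ K : Subgroup G, K ≠ ⊤ → ∃ A : Subgroup G, A ≤ K ∧
      (∀ x ∈ A, ∀ y ∈ A, x * y = y * x) ∧
      (∀ q, q.Prime → n + 1 < q → ¬ q ∣ A.relIndex K))
    (p q : ℕ) [Fact p.Prime] [Fact q.Prime] (hp : n + 1 < p) (hq : n + 1 < q)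
    (H2p : ∀ P : Sylow p G, ∀ a ∈ P, ∀ b ∈ P, a * b = b * a)
    (H2q : ∀ P : Sylow q G, ∀ a ∈ P, ∀ b ∈ P, a * b = b * a)
    (u v : G) (hu : ∃ j, u ^ (p ^ j) = 1) (hv : ∃ j, v ^ (q ^ j) = 1) (huv : u * v = v * u)
    (huc : u ∉ Subgroup.center G) (hvc : v ∉ Subgroup.center G) :
    ∃ (P : Sylow p G) (Q : Sylow q G), ∀ a ∈ P, ∀ b ∈ Q, a * b = b * a := by
  have hpp : p.Prime := Fact.out
  have hqp : q.Prime := Fact.out
  obtain ⟨Av, hAvK, hAvab, hAvrel⟩ := H1 (Subgroup.centralizer {v}) (blich_centralizer_ne_top hvc)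
  have hq_Kv : ¬ q ∣ (Subgroup.centralizer {v}).index := blich_S q H2q v hv
  obtain ⟨T, hTA, hT, hTrel⟩ := blich_sylow_in p Av
  have hTK : ¬ p ∣ T.relIndex (Subgroup.centralizer {v}) := by
    rw [← Subgroup.relIndex_mul_relIndex T Av _ hTA hAvK]
    intro h
    rcases (Nat.Prime.dvd_mul hpp).mp h with h | h
    · exact hTrel h
    · exact hAvrel p hpp hp h
  have hR : IsPGroup p (Subgroup.zpowers u) := blich_isPGroup_zpowers p u hu
  have hRK : Subgroup.zpowers u ≤ Subgroup.centralizer {v} := by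
    rw [Subgroup.zpowers_le, Subgroup.mem_centralizer_iff]
    intro h hh
    rw [Set.mem_singleton_iff.mp hh]
    exact huv.symm
  obtain ⟨c, hcK, hc⟩ := Helper32.exists_conj_mem_of_relIndex T _ hT hTK _ hR hRK
  have hzT : c⁻¹ * u * c ∈ T := hc u (Subgroup.mem_zpowers u)
  have hzA : c⁻¹ * u * c ∈ Av := hTA hzT
  have hzp : ∃ j, (c⁻¹ * u * c) ^ (p ^ j) = 1 := blich_pelt_of_mem hT hzT
  have hzc : c⁻¹ * u * c ∉ Subgroup.center G := by
    intro h
    apply huc
    have h1 := Subgroup.mem_center_iff.mp h c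
    have h2 : u = c * (c⁻¹ * u * c) * c⁻¹ := by group
    rw [h2, h1]
    simpa using h
  have hAvKz : Av ≤ Subgroup.centralizer {c⁻¹ * u * c} := by
    intro a ha
    rw [Subgroup.mem_centralizer_iff]
    intro h hh
    rw [Set.mem_singleton_iff.mp hh]
    exact hAvab _ hzA a ha
  have hq_Av : ¬ q ∣ Av.index := by
    rw [← Subgroup.relIndex_mul_index hAvK]
    intro h
    rcases (Nat.Prime.dvd_mul hqp).mp h with h | h
    · exact hAvrel q hqp hq h
    · exact hq_Kv h
  have hq_Kz : ¬ q ∣ (Subgroup.centralizer {c⁻¹ * u * c}).index :=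
    fun h => hq_Av (dvd_trans h (Subgroup.index_dvd_of_le hAvKz))
  have hp_Kz : ¬ p ∣ (Subgroup.centralizer {c⁻¹ * u * c}).index := blich_S p H2p _ hzp
  obtain ⟨Az, hAzK, hAzab, hAzrel⟩ :=
    H1 (Subgroup.centralizer {c⁻¹ * u * c}) (blich_centralizer_ne_top hzc)
  have hp_Az : ¬ p ∣ Az.index := by
    rw [← Subgroup.relIndex_mul_index hAzK]
    intro h
    rcases (Nat.Prime.dvd_mul hpp).mp h with h | h
    · exact hAzrel p hpp hp h
    · exact hp_Kz h
  have hq_Az : ¬ q ∣ Az.index := by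
    rw [← Subgroup.relIndex_mul_index hAzK]
    intro h
    rcases (Nat.Prime.dvd_mul hqp).mp h with h | h
    · exact hAzrel q hqp hq h
    · exact hq_Kz h
  obtain ⟨P, hP⟩ := blich_sylow_le p Az hp_Az
  obtain ⟨Q, hQ⟩ := blich_sylow_le q Az hq_Az
  exact ⟨P, Q, fun a ha b hb => hAzab a (hP ha) b (hQ hb)⟩

theorem blich_abstract {G : Type*} [Group G] [Finite G] (n : ℕ)
    (H1 : ∀ K : Subgroup G, K ≠ ⊤ → ∃ A : Subgroup G, A ≤ K ∧
      (∀ x ∈ A, ∀ y ∈ A, x * y = y * x) ∧ (∀ q, q.Prime → q ∣ Nat.card A → n + 1 < q) ∧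
      (∀ q, q.Prime → n + 1 < q → ¬ q ∣ A.relIndex K))
    (H2 : ∀ p, p.Prime → n + 1 < p → ∀ P : Sylow p G, ∀ a ∈ P, ∀ b ∈ P, a * b = b * a)
    (H3 : ∀ p q, p.Prime → q.Prime → n + 1 < p → n + 1 < q →
      (∀ u v : G, (∃ j, u ^ (p ^ j) = 1) → (∃ j, v ^ (q ^ j) = 1) → u * v = v * u →
        u ∈ Subgroup.center G ∨ v ∈ Subgroup.center G) →
      ∀ x y : G, (∃ j, x ^ (p ^ j) = 1) → (∃ j, y ^ (q ^ j) = 1) → x * y = y * x) :
    ∃ A : Subgroup G, (∀ x ∈ A, ∀ y ∈ A, x * y = y * x) ∧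
      (∀ q, q.Prime → q ∣ Nat.card A → n + 1 < q) ∧
      ∀ q, q.Prime → q ∣ A.index → q ≤ n + 1 := by
  by_cases hcentral : ∀ p, p.Prime → n + 1 < p → ∀ x : G, (∃ j, x ^ (p ^ j) = 1) →
      x ∈ Subgroup.center G
  · -- all π-elements are central
    let A : Subgroup G :=
      { carrier := {g | g ∈ Subgroup.center G ∧ ∀ q, q.Prime → q ∣ orderOf g → n + 1 < q}
        mul_mem' := by
          rintro a b ⟨ha, ha'⟩ ⟨hb, hb'⟩
          refine ⟨Subgroup.mul_mem _ ha hb, fun q hq hdvd => ?_⟩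
          have hcomm : Commute a b := (Subgroup.mem_center_iff.mp ha b).symm
          have h1 := dvd_trans hdvd hcomm.orderOf_mul_dvd_lcm
          have h2 := dvd_trans h1 (Nat.lcm_dvd_mul _ _)
          rcases (Nat.Prime.dvd_mul hq).mp h2 with h | h
          · exact ha' q hq h
          · exact hb' q hq h
        one_mem' := by
          refine ⟨Subgroup.one_mem _, fun q hq hdvd => ?_⟩
          rw [orderOf_one] at hdvd
          exact absurd hdvd hq.not_dvd_one
        inv_mem' := by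
          rintro a ⟨ha, ha'⟩
          refine ⟨Subgroup.inv_mem _ ha, fun q hq hdvd => ?_⟩
          rw [orderOf_inv] at hdvd
          exact ha' q hq hdvd }
    refine ⟨A, ?_, ?_, ?_⟩
    · intro x hx y hy
      exact (Subgroup.mem_center_iff.mp hx.1 y).symm
    · intro q hq hdvd
      have := Fact.mk hq
      obtain ⟨a, ha⟩ := exists_prime_orderOf_dvd_card' q hdvd
      exact a.2.2 q hq (by rw [Subgroup.orderOf_coe, ha])
    · intro q hq hdvd
      by_contra hlt
      push Not at hlt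
      have := Fact.mk hq
      let Q : Sylow q G := default
      have hle : (Q : Subgroup G) ≤ A := by
        intro g hg
        obtain ⟨k, hk⟩ := blich_pelt_of_mem Q.isPGroup' hg
        refine ⟨hcentral q hq hlt g ⟨k, hk⟩, fun r hr hrg => ?_⟩
        have h1 : r ∣ q ^ k := dvd_trans hrg (orderOf_dvd_of_pow_eq_one hk)
        have h2 : r = q := (Nat.prime_dvd_prime_iff_eq hr hq).mp (hr.dvd_of_dvd_pow h1)
        rw [h2]; exact hlt
      exact Q.not_dvd_index (dvd_trans hdvd (Subgroup.index_dvd_of_le hle))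
  · push Not at hcentral
    obtain ⟨p, hp, hpn, x, hx, hxc⟩ := hcentral
    have := Fact.mk hp
    have H1' : ∀ K : Subgroup G, K ≠ ⊤ → ∃ A : Subgroup G, A ≤ K ∧
        (∀ x ∈ A, ∀ y ∈ A, x * y = y * x) ∧
        (∀ q, q.Prime → n + 1 < q → ¬ q ∣ A.relIndex K) := by
      intro K hK
      obtain ⟨A, h1, h2, -, h4⟩ := H1 K hK
      exact ⟨A, h1, h2, h4⟩
    have good : ∀ q, q.Prime → n + 1 < q → ¬ q ∣ (Subgroup.centralizer {x}).index := by
      intro q hq hqn
      have := Fact.mk hq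
      have hgood : ∃ (P : Sylow p G) (Q : Sylow q G), ∀ a ∈ P, ∀ b ∈ Q, a * b = b * a := by
        by_contra hng
        have BC : ∀ u v : G, (∃ j, u ^ (p ^ j) = 1) → (∃ j, v ^ (q ^ j) = 1) → u * v = v * u →
            u ∈ Subgroup.center G ∨ v ∈ Subgroup.center G := by
          intro u v hu hv huv
          by_contra hcon
          push Not at hcon
          exact hng (blich_C2 n H1' p q hpn hqn (H2 p hp hpn) (H2 q hq hqn) u v hu hv huv
            hcon.1 hcon.2)
        have hall := H3 p q hp hq hpn hqn BC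
        apply hng
        refine ⟨default, default, fun a ha b hb => hall a b ?_ ?_⟩
        · exact blich_pelt_of_mem (Sylow.isPGroup' _) ha
        · exact blich_pelt_of_mem (Sylow.isPGroup' _) hb
      obtain ⟨P, Q, hPQ⟩ := hgood
      exact blich_C1 p q P Q hPQ x hx
    obtain ⟨A, hAK, hab, hcard, hrel⟩ := H1 _ (blich_centralizer_ne_top hxc)
    refine ⟨A, hab, hcard, ?_⟩
    intro q hq hdvd
    by_contra hlt
    push Not at hlt
    rw [← Subgroup.relIndex_mul_index hAK] at hdvd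
    rcases (Nat.Prime.dvd_mul hq).mp hdvd with h | h
    · exact hrel q hq hlt h
    · exact good q hq hlt h

/-- A `p`-group with a faithful character of degree `< p` is abelian. -/
theorem blich_pgroup_abelian {P : Type*} [Group P] [Finite P] (p : ℕ) (hp : p.Prime)
    (hP : IsPGroup p P) (χ : P → ℂ) (hχ : Cfsg.IsCharacter P χ)
    (hfaith : ∀ g, χ g = χ 1 → g = 1) (hdeg : Cfsg.charDegree χ < p) :
    ∀ a b : P, a * b = b * a := by
  intro a b
  by_contra hab
  have hc1 : a * b * a⁻¹ * b⁻¹ ≠ 1 := by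
    intro h
    apply hab
    have := congrArg (fun z => z * b * a) h
    simpa [mul_assoc] using this
  have hχc : χ (a * b * a⁻¹ * b⁻¹) ≠ χ 1 := fun h => hc1 (hfaith _ h)
  obtain ⟨ψ, hψc, hψd⟩ := blich_exists_constituent hχ _ hχc
  have h1 : Cfsg.charDegree (ψ : P → ℂ) ∣ Nat.card P :=
    Helper79.isIrrCharacter_charDegree_dvd_card ψ.2
  have hfact : Fact p.Prime := ⟨hp⟩
  obtain ⟨k, hk⟩ := IsPGroup.iff_card.mp hP
  rw [hk] at h1
  obtain ⟨i, -, hi⟩ := (Nat.dvd_prime_pow hp).mp h1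
  have hi0 : i = 0 := by
    by_contra hne
    have : p ^ 1 ≤ p ^ i := Nat.pow_le_pow_right hp.pos (Nat.one_le_iff_ne_zero.mpr hne)
    rw [pow_one, ← hi] at this
    omega
  rw [hi0, pow_zero] at hi
  apply hψc
  apply Helper79.irr_commutator_le_ker_of_linear ψ hi
  rw [commutator_def, ← commutatorElement_def]
  exact Subgroup.commutator_mem_commutator (Subgroup.mem_top a) (Subgroup.mem_top b)

theorem blich_hall_aux (n : ℕ) : ∀ (m : ℕ) (G : Type u) [Group G] [Finite G], Nat.card G = m →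
    ∀ χ : G → ℂ, Cfsg.IsCharacter G χ → (∀ g, χ g = χ 1 → g = 1) → Cfsg.charDegree χ = n →
    ∃ A : Subgroup G, (∀ x ∈ A, ∀ y ∈ A, x * y = y * x) ∧
      (∀ q, q.Prime → q ∣ Nat.card A → n + 1 < q) ∧
      ∀ q, q.Prime → q ∣ A.index → q ≤ n + 1 := by
  intro m
  induction m using Nat.strong_induction_on with
  | _ m ih =>
    intro G _ _ hm χ hχ hfaith hn
    apply blich_abstract n
    · intro K hK
      have hlt : Nat.card K < m := by
        rw [← hm]
        exact lt_of_le_of_ne (Subgroup.card_le_card_group K)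
          (fun h => hK (Subgroup.eq_top_of_card_eq K h))
      obtain ⟨A', h1, h2, h3⟩ := ih (Nat.card K) hlt K rfl (fun x : K => χ x)
        (Helper79.isCharacter_restrict hχ K)
        (fun g hg => Subtype.ext (hfaith g (by simpa using hg)))
        (by rw [← hn]; simp [Cfsg.charDegree])
      refine ⟨A'.map K.subtype, Subgroup.map_subtype_le A', ?_, ?_, ?_⟩
      · rintro _ ⟨x, hx, rfl⟩ _ ⟨y, hy, rfl⟩
        have := h1 x hx y hy
        exact congrArg Subtype.val this
      · intro q hq hdvd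
        rw [Subgroup.card_map_of_injective K.subtype_injective] at hdvd
        exact h2 q hq hdvd
      · intro q hq hqn hdvd
        rw [blich_relIndex_map_subtype] at hdvd
        have := h3 q hq hdvd
        omega
    · intro p hp hpn P a ha b hb
      have := blich_pgroup_abelian (P := (P : Subgroup G)) p hp P.isPGroup' (fun x => χ x)
        (Helper79.isCharacter_restrict hχ P)
        (fun g hg => Subtype.ext (hfaith g (by simpa using hg)))
        (by
          have h0 : Cfsg.charDegree (fun x : (P : Subgroup G) => χ x) = Cfsg.charDegree χ := by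
            simp [Cfsg.charDegree]
          rw [h0, hn]; omega) ⟨a, ha⟩ ⟨b, hb⟩
      exact congrArg Subtype.val this
    · intro p q hp hq hpn hqn BC x y hx hy
      exact blich_commute χ hχ hfaith p q hp hq (by omega) (by omega) BC x y hx hy

/-- **Blichfeldt.** A finite group with a faithful complex character of degree `n` has an
abelian Hall `π`-subgroup for `π` the set of primes `> n + 1`. -/
theorem blich_hall {G : Type u} [Group G] [Finite G] (χ : G → ℂ) (hχ : Cfsg.IsCharacter G χ)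
    (hfaith : ∀ g, χ g = χ 1 → g = 1) (n : ℕ) (hn : Cfsg.charDegree χ = n) :
    ∃ A : Subgroup G, (∀ x ∈ A, ∀ y ∈ A, x * y = y * x) ∧
      (∀ q, q.Prime → q ∣ Nat.card A → n + 1 < q) ∧
      ∀ q, q.Prime → q ∣ A.index → q ≤ n + 1 :=
  blich_hall_aux n (Nat.card G) G rfl χ hχ hfaith hn

end Cfsg.Agent.Helper76
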