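import Cfsg.Agent.Helper76.Cover
import Cfsg.Agent.Helper75.ThirdMain

/-!
# Central products and the sum of the `p`-regular elements (helper76)

`G = U₁ U₂` with `[U₁, U₂] = 1` and `U₁ ∩ U₂` a `p`-group.

* `exists_mul_of_sup_eq_top`, `normal_of_commute_sup`: `G = U₁ U₂`, and `U₁` is normal.
* `exists_pRegular_mul`, `pRegular_mul_unique`: a `p`-regular element of `G` is uniquely a
  product of `p`-regular elements of `U₁` and `U₂`.
* `pregIndSub p U`: the indicator function on `G` of the `p`-regular elements of `U`.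
* `omega_pregInd_eq_mul_sub`: `Ω_χ(S_G) = Ω_χ(S_{U₁}) Ω_χ(S_{U₂})`.
* `omega_pregInd_central_prod`: `Ω_χ(S_G) = Ω_{ψ₁}(S_{U₁}) Ω_{ψ₂}(S_{U₂})` for constituents
  `ψᵢ` of `χ` on `Uᵢ`.
-/

set_option autoImplicit false
set_option linter.style.haveILetI false

namespace Cfsg.Agent.Helper76

universe u

section centralProd

variable {G : Type u} [Group G]

/-- The indicator function (on `G`) of the `p`-regular elements of the subgroup `U`. -/
noncomputable def pregIndSub (p : ℕ) (U : Subgroup G) : G → ℂ :=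
  fun g => @ite ℂ (g ∈ U ∧ ¬ p ∣ orderOf g) (Classical.propDecidable _) 1 0

theorem pregIndSub_isClassFunction (p : ℕ) (U : Subgroup G) [hU : U.Normal] :
    Cfsg.IsClassFunction G (pregIndSub p U) := by
  intro g h
  unfold pregIndSub
  rw [Helper75.orderOf_conj']
  have h1 : h * g * h⁻¹ ∈ U ↔ g ∈ U := by
    constructor
    · intro hx
      have h2 := hU.conj_mem _ hx h⁻¹
      have h3 : h⁻¹ * (h * g * h⁻¹) * h⁻¹⁻¹ = g := by group
      rwa [h3] at h2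
    · intro hx
      exact hU.conj_mem _ hx h
  rw [h1]

theorem pregIndSub_res (p : ℕ) (U : Subgroup G) :
    (fun u : U => pregIndSub p U (u : G)) = Helper75.pregInd p U := by
  funext u
  unfold pregIndSub Helper75.pregInd
  rw [Subgroup.orderOf_coe]
  simp only [u.2, true_and]

theorem pregIndSub_of_not_mem (p : ℕ) (U : Subgroup G) {g : G} (hg : g ∉ U) :
    pregIndSub p U g = 0 := by
  unfold pregIndSub
  exact if_neg fun h => hg h.1

variable {U₁ U₂ : Subgroup G}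

theorem exists_mul_of_sup_eq_top (hcomm : ∀ u ∈ U₁, ∀ v ∈ U₂, u * v = v * u)
    (hgen : U₁ ⊔ U₂ = ⊤) (g : G) : ∃ a ∈ U₁, ∃ b ∈ U₂, g = a * b := by
  have hr := MonoidHom.noncommCoprod_range U₁.subtype U₂.subtype
    (fun m n => hcomm m m.2 n n.2)
  rw [Subgroup.range_subtype, Subgroup.range_subtype, hgen] at hr
  have hg : g ∈ (MonoidHom.noncommCoprod U₁.subtype U₂.subtype
      (fun m n => hcomm m m.2 n n.2)).range := by
    rw [hr]
    trivial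
  obtain ⟨⟨a, b⟩, hab⟩ := hg
  exact ⟨a, a.2, b, b.2, by rw [← hab]; rfl⟩

theorem normal_of_commute_sup (hcomm : ∀ u ∈ U₁, ∀ v ∈ U₂, u * v = v * u)
    (hgen : U₁ ⊔ U₂ = ⊤) : U₁.Normal := by
  constructor
  intro n hn g
  obtain ⟨a, ha, b, hb, rfl⟩ := exists_mul_of_sup_eq_top hcomm hgen g
  have h1 := hcomm n hn b hb
  have h2 : a * b * n * (a * b)⁻¹ = a * n * a⁻¹ := by
    calc a * b * n * (a * b)⁻¹ = a * (b * n) * b⁻¹ * a⁻¹ := by group
      _ = a * (n * b) * b⁻¹ * a⁻¹ := by rw [h1]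
      _ = a * n * a⁻¹ := by group
  rw [h2]
  exact U₁.mul_mem (U₁.mul_mem ha hn) (U₁.inv_mem ha)

theorem normal_of_commute_sup' (hcomm : ∀ u ∈ U₁, ∀ v ∈ U₂, u * v = v * u)
    (hgen : U₁ ⊔ U₂ = ⊤) : U₂.Normal :=
  normal_of_commute_sup (fun u hu v hv => (hcomm v hv u hu).symm) (by rw [sup_comm]; exact hgen)

theorem exists_pRegular_mul [Finite G] {p : ℕ} [hp : Fact p.Prime]
    (hcomm : ∀ u ∈ U₁, ∀ v ∈ U₂, u * v = v * u) (hgen : U₁ ⊔ U₂ = ⊤) {g : G}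
    (hg : ¬ p ∣ orderOf g) :
    ∃ a ∈ U₁, ∃ b ∈ U₂, ¬ p ∣ orderOf a ∧ ¬ p ∣ orderOf b ∧ g = a * b := by
  obtain ⟨a, ha, b, hb, rfl⟩ := exists_mul_of_sup_eq_top hcomm hgen g
  have hn0 : Nat.card G ≠ 0 := Nat.card_pos.ne'
  have hqc : p ^ (Nat.card G).factorization p * (Nat.card G / p ^ (Nat.card G).factorization p)
      = Nat.card G := Nat.ordProj_mul_ordCompl_eq_self (Nat.card G) p
  have hc : ¬ p ∣ Nat.card G / p ^ (Nat.card G).factorization p :=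
    Nat.not_dvd_ordCompl hp.out hn0
  have hcop : Nat.Coprime (p ^ (Nat.card G).factorization p) (orderOf (a * b)) :=
    Nat.Coprime.pow_left _ ((Nat.Prime.coprime_iff_not_dvd hp.out).mpr hg)
  obtain ⟨k, hk0, hk1⟩ := Nat.chineseRemainder hcop 0 1
  have hqk : p ^ (Nat.card G).factorization p ∣ k := (Nat.modEq_zero_iff_dvd).mp hk0
  have hgk : (a * b) ^ k = a * b := by
    have h1 := (pow_eq_pow_iff_modEq (x := a * b) (n := k) (m := 1)).mpr hk1
    rwa [pow_one] at h1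
  have hab : Commute a b := hcomm a ha b hb
  have key : ∀ x : G, ¬ p ∣ orderOf (x ^ k) := by
    intro x hx
    apply hc
    refine hx.trans (orderOf_dvd_of_pow_eq_one ?_)
    obtain ⟨t, ht⟩ := hqk
    rw [← pow_mul, ht, mul_comm _ t, mul_assoc, hqc, mul_comm, pow_mul, pow_card_eq_one',
      one_pow]
  refine ⟨a ^ k, U₁.pow_mem ha k, b ^ k, U₂.pow_mem hb k, key a, key b, ?_⟩
  rw [← hab.mul_pow, hgk]

theorem pRegular_mul_unique {p : ℕ} [hp : Fact p.Prime]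
    (hcomm : ∀ u ∈ U₁, ∀ v ∈ U₂, u * v = v * u) (hZ : IsPGroup p ↥(U₁ ⊓ U₂))
    {a a' b b' : G} (ha : a ∈ U₁) (ha' : a' ∈ U₁) (hb : b ∈ U₂) (hb' : b' ∈ U₂)
    (hpa : ¬ p ∣ orderOf a) (hpa' : ¬ p ∣ orderOf a') (h : a * b = a' * b') :
    a = a' ∧ b = b' := by
  have hz : a'⁻¹ * a = b' * b⁻¹ := by
    rw [inv_mul_eq_iff_eq_mul, ← mul_assoc, ← h, mul_assoc, mul_inv_cancel, mul_one]
  have hz1 : a'⁻¹ * a ∈ U₁ := U₁.mul_mem (U₁.inv_mem ha') ha
  have hz2 : a'⁻¹ * a ∈ U₂ := by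
    rw [hz]
    exact U₂.mul_mem hb' (U₂.inv_mem hb)
  obtain ⟨k, hk⟩ := hZ ⟨a'⁻¹ * a, hz1, hz2⟩
  have hk' : (a'⁻¹ * a) ^ p ^ k = 1 := by
    have := congrArg Subtype.val hk
    simpa using this
  have hc1 : Commute a' (a'⁻¹ * a) := hcomm a' ha' _ hz2
  have hc2 : Commute a'⁻¹ a := by
    have h3 : Commute a' (a' * (a'⁻¹ * a)) := (Commute.refl a').mul_right hc1
    rw [mul_inv_cancel_left] at h3
    exact h3.inv_left
  have hd : orderOf (a'⁻¹ * a) ∣ Nat.lcm (orderOf a'⁻¹) (orderOf a) := hc2.orderOf_mul_dvd_lcm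
  have hnp : ¬ p ∣ orderOf (a'⁻¹ * a) := by
    intro hdvd
    have h4 := hdvd.trans hd
    rw [orderOf_inv] at h4
    rcases (Nat.Prime.dvd_mul hp.out).mp (h4.trans (Nat.lcm_dvd_mul _ _)) with h5 | h5
    exacts [hpa' h5, hpa h5]
  have hord : orderOf (a'⁻¹ * a) ∣ p ^ k := orderOf_dvd_of_pow_eq_one hk'
  have h1 : orderOf (a'⁻¹ * a) = 1 := by
    obtain ⟨j, hj, hj'⟩ := (Nat.dvd_prime_pow hp.out).mp hord
    rcases j with _ | j
    · simpa using hj'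
    · exfalso
      apply hnp
      rw [hj']
      exact dvd_pow_self p (Nat.succ_ne_zero j)
  have h2 : a'⁻¹ * a = 1 := orderOf_eq_one_iff.mp h1
  have h3 : a = a' := by
    rw [inv_mul_eq_one] at h2
    exact h2.symm
  refine ⟨h3, ?_⟩
  rw [h3] at h
  exact mul_left_cancel h

variable [Fintype G]

/-- In a central product `G = U₁ U₂` with `U₁ ∩ U₂` a `p`-group,
`Ω_χ(S_G) = Ω_χ(S_{U₁}) Ω_χ(S_{U₂})`. -/
theorem omega_pregInd_eq_mul_sub {p : ℕ} [Fact p.Prime]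
    (hcomm : ∀ u ∈ U₁, ∀ v ∈ U₂, u * v = v * u) (hgen : U₁ ⊔ U₂ = ⊤)
    (hZ : IsPGroup p ↥(U₁ ⊓ U₂)) (χ : Cfsg.IrrCharacter G) :
    Helper81.omega (χ : G → ℂ) (Helper75.pregInd p G)
      = Helper81.omega (χ : G → ℂ) (pregIndSub p U₁) *
        Helper81.omega (χ : G → ℂ) (pregIndSub p U₂) := by
  classical
  haveI : U₁.Normal := normal_of_commute_sup hcomm hgen
  have hcl₁ := pregIndSub_isClassFunction p U₁
  have hbij : ∑ g : G, Helper75.pregInd p G g * (χ : G → ℂ) g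
      = ∑ v : G, pregIndSub p U₂ v * ∑ u : G, pregIndSub p U₁ u * (χ : G → ℂ) (u * v) := by
    have hL : ∑ g : G, Helper75.pregInd p G g * (χ : G → ℂ) g
        = ∑ g ∈ Finset.univ.filter (fun g : G => ¬ p ∣ orderOf g), (χ : G → ℂ) g := by
      rw [Finset.sum_filter]
      refine Finset.sum_congr rfl fun g _ => ?_
      unfold Helper75.pregInd
      split_ifs <;> simp
    have hR : ∑ v : G, pregIndSub p U₂ v * ∑ u : G, pregIndSub p U₁ u * (χ : G → ℂ) (u * v)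
        = ∑ x ∈ Finset.univ.filter (fun x : G × G =>
            (x.1 ∈ U₁ ∧ ¬ p ∣ orderOf x.1) ∧ (x.2 ∈ U₂ ∧ ¬ p ∣ orderOf x.2)),
            (χ : G → ℂ) (x.1 * x.2) := by
      rw [Finset.sum_filter, Fintype.sum_prod_type_right]
      refine Finset.sum_congr rfl fun v _ => ?_
      rw [Finset.mul_sum]
      refine Finset.sum_congr rfl fun u _ => ?_
      unfold pregIndSub
      by_cases h1 : u ∈ U₁ ∧ ¬ p ∣ orderOf u <;> by_cases h2 : v ∈ U₂ ∧ ¬ p ∣ orderOf v <;>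
        simp [h1, h2]
    rw [hL, hR]
    symm
    refine Finset.sum_bij (fun x _ => x.1 * x.2) ?_ ?_ ?_ ?_
    · intro x hx
      rw [Finset.mem_filter] at hx ⊢
      obtain ⟨-, ⟨hx1, hx1'⟩, hx2, hx2'⟩ := hx
      refine ⟨Finset.mem_univ _, fun hdvd => ?_⟩
      have hc : Commute x.1 x.2 := hcomm _ hx1 _ hx2
      rcases (Nat.Prime.dvd_mul (Fact.out)).mp
        ((hdvd.trans hc.orderOf_mul_dvd_lcm).trans (Nat.lcm_dvd_mul _ _)) with h | h
      exacts [hx1' h, hx2' h]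
    · intro x hx y hy hxy
      rw [Finset.mem_filter] at hx hy
      obtain ⟨h1, h2⟩ := pRegular_mul_unique hcomm hZ hx.2.1.1 hy.2.1.1 hx.2.2.1 hy.2.2.1
        hx.2.1.2 hy.2.1.2 hxy
      exact Prod.ext h1 h2
    · intro g hg
      rw [Finset.mem_filter] at hg
      obtain ⟨a, ha, b, hb, hpa, hpb, rfl⟩ := exists_pRegular_mul hcomm hgen hg.2
      exact ⟨(a, b), by rw [Finset.mem_filter]; exact ⟨Finset.mem_univ _, ⟨ha, hpa⟩, hb, hpb⟩,
        rfl⟩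
    · intro x hx
      rfl
  have h2 : ∀ v : G, ∑ u : G, pregIndSub p U₁ u * (χ : G → ℂ) (u * v)
      = Helper81.omega (χ : G → ℂ) (pregIndSub p U₁) * (χ : G → ℂ) v :=
    fun v => Helper77.sum_mul_irr_mul χ hcl₁ v
  have h3 : Helper81.omega (χ : G → ℂ) (Helper75.pregInd p G)
      = (∑ g : G, Helper75.pregInd p G g * (χ : G → ℂ) g) / (χ : G → ℂ) 1 := rfl
  have h4 : Helper81.omega (χ : G → ℂ) (pregIndSub p U₂)
      = (∑ g : G, pregIndSub p U₂ g * (χ : G → ℂ) g) / (χ : G → ℂ) 1 := rfl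
  rw [h3, hbij, h4, ← mul_div_assoc, Finset.mul_sum]
  congr 1
  refine Finset.sum_congr rfl fun v _ => ?_
  rw [h2]
  ring

/-- In a central product `G = U₁ U₂` with `U₁ ∩ U₂` a `p`-group, if `χ` lies over `ψ₁` and
`ψ₂` then `Ω_χ(S_G) = Ω_{ψ₁}(S_{U₁}) Ω_{ψ₂}(S_{U₂})`. -/
theorem omega_pregInd_central_prod {p : ℕ} [Fact p.Prime] [Fintype U₁] [Fintype U₂]
    (hcomm : ∀ u ∈ U₁, ∀ v ∈ U₂, u * v = v * u) (hgen : U₁ ⊔ U₂ = ⊤)
    (hZ : IsPGroup p ↥(U₁ ⊓ U₂)) (χ : Cfsg.IrrCharacter G)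
    (ψ₁ : Cfsg.IrrCharacter U₁) (ψ₂ : Cfsg.IrrCharacter U₂)
    (h₁ : Cfsg.classInner (fun u : U₁ => (χ : G → ℂ) u) (ψ₁ : U₁ → ℂ) ≠ 0)
    (h₂ : Cfsg.classInner (fun u : U₂ => (χ : G → ℂ) u) (ψ₂ : U₂ → ℂ) ≠ 0) :
    Helper81.omega (χ : G → ℂ) (Helper75.pregInd p G)
      = Helper81.omega (ψ₁ : U₁ → ℂ) (Helper75.pregInd p U₁) *
        Helper81.omega (ψ₂ : U₂ → ℂ) (Helper75.pregInd p U₂) := by
  haveI : U₁.Normal := normal_of_commute_sup hcomm hgen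
  haveI : U₂.Normal := normal_of_commute_sup' hcomm hgen
  rw [omega_pregInd_eq_mul_sub hcomm hgen hZ χ,
    omega_eq_omega_res_of_constituent U₁ (pregIndSub_isClassFunction p U₁)
      (fun g hg => pregIndSub_of_not_mem p U₁ hg) χ ψ₁ h₁,
    omega_eq_omega_res_of_constituent U₂ (pregIndSub_isClassFunction p U₂)
      (fun g hg => pregIndSub_of_not_mem p U₂ hg) χ ψ₂ h₂,
    pregIndSub_res, pregIndSub_res]

end centralProd

end Cfsg.Agent.Helper76
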