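import Mathlib
import Cfsg.Agent.Helper3.FHDefs

set_option autoImplicit false
set_option linter.unusedVariables false

namespace Cfsg.Agent.Helper76

open Cfsg.Agent.Helper3.FH Real

theorem fh16_rat (x : ℝ) (s t ρ ρ' : ℚ) (hs : 2 ≤ s) (ht : 2 ≤ t) (hρ : 0 < ρ) (hρ' : 0 < ρ')
    (h1 : (ρ : ℝ) * (s + t + 2 * x) * (s * t + 1 - 2 * x) = s * t - x ^ 2)
    (h2 : (ρ' : ℝ) * (s + t - 2 * x) * (s * t + 1 + 2 * x) = s * t - x ^ 2) :
    ∃ r : ℚ, (r : ℝ) = x := by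
  by_contra hno
  have hirr : ∀ r : ℚ, (r : ℝ) ≠ x := fun r hr => hno ⟨r, hr⟩
  have hE0pos : 0 < (s - 1) * (t - 1) := by apply mul_pos <;> linarith
  have hPm4 : 4 * (s * t) < (s + t) * (s * t + 1) := by
    nlinarith [mul_nonneg (sub_nonneg.mpr hs) (sub_nonneg.mpr ht)]
  have q1 : ((4 * ρ - 1 : ℚ) : ℝ) * x ^ 2 + ((-2 * ρ * ((s - 1) * (t - 1)) : ℚ) : ℝ) * x
      + ((s * t - ρ * ((s + t) * (s * t + 1)) : ℚ) : ℝ) = 0 := by
    push_cast; linear_combination (-1 : ℝ) * h1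
  have q2 : ((4 * ρ' - 1 : ℚ) : ℝ) * x ^ 2 + ((2 * ρ' * ((s - 1) * (t - 1)) : ℚ) : ℝ) * x
      + ((s * t - ρ' * ((s + t) * (s * t + 1)) : ℚ) : ℝ) = 0 := by
    push_cast; linear_combination (-1 : ℝ) * h2
  obtain ⟨A, hA⟩ : ∃ A : ℚ, A = 4 * ρ - 1 := ⟨_, rfl⟩
  obtain ⟨B, hB⟩ : ∃ B : ℚ, B = -2 * ρ * ((s - 1) * (t - 1)) := ⟨_, rfl⟩
  obtain ⟨Cc, hCc⟩ : ∃ Cc : ℚ, Cc = s * t - ρ * ((s + t) * (s * t + 1)) := ⟨_, rfl⟩
  obtain ⟨A', hA'⟩ : ∃ A' : ℚ, A' = 4 * ρ' - 1 := ⟨_, rfl⟩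
  obtain ⟨B', hB'⟩ : ∃ B' : ℚ, B' = 2 * ρ' * ((s - 1) * (t - 1)) := ⟨_, rfl⟩
  obtain ⟨C', hC'⟩ : ∃ C' : ℚ, C' = s * t - ρ' * ((s + t) * (s * t + 1)) := ⟨_, rfl⟩
  rw [← hA, ← hB, ← hCc] at q1
  rw [← hA', ← hB', ← hC'] at q2
  have lin : ((A' * B - A * B' : ℚ) : ℝ) * x + ((A' * Cc - A * C' : ℚ) : ℝ) = 0 := by
    push_cast; linear_combination (A' : ℝ) * q1 - (A : ℝ) * q2
  have hD1 : A' * B - A * B' = 0 := by
    by_contra hne
    have hne' : ((A' * B - A * B' : ℚ) : ℝ) ≠ 0 := by exact_mod_cast hne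
    apply hirr (-(A' * Cc - A * C') / (A' * B - A * B'))
    rw [Rat.cast_div, Rat.cast_neg, div_eq_iff hne']
    linear_combination (-1 : ℝ) * lin
  have hD0 : A' * Cc - A * C' = 0 := by
    have : ((A' * Cc - A * C' : ℚ) : ℝ) = 0 := by
      rw [hD1] at lin; simpa using lin
    exact_mod_cast this
  have hρeq : ρ' = ρ := by
    have : (ρ' - ρ) * (4 * (s * t) - (s + t) * (s * t + 1)) = 0 := by
      rw [hA, hCc, hA', hC'] at hD0; linear_combination hD0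
    rcases mul_eq_zero.mp this with h | h
    · linarith
    · linarith
  have hρ4 : 4 * ρ - 1 = 0 := by
    have : ρ * ((s - 1) * (t - 1)) * (4 * ρ - 1) = 0 := by
      rw [hA, hB, hA', hB', hρeq] at hD1; linear_combination (-1 / 4 : ℚ) * hD1
    rcases mul_eq_zero.mp this with h | h
    · rcases mul_eq_zero.mp h with h | h <;> linarith
    · exact h
  have hA0 : A = 0 := by rw [hA]; exact hρ4
  have hB0 : B ≠ 0 := by
    rw [hB]
    have := mul_pos hρ hE0pos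
    linarith
  have hB0' : (B : ℝ) ≠ 0 := by exact_mod_cast hB0
  apply hirr (-Cc / B)
  rw [Rat.cast_div, Rat.cast_neg, div_eq_iff hB0']
  rw [hA0] at q1
  push_cast at q1
  linear_combination (-1 : ℝ) * q1

theorem fh_arith_even (n : ℕ) (hn : 1 ≤ n) (s t v : ℕ) (hs : 2 ≤ s) (ht : 2 ≤ t) (hv : 0 < v)
    (h : ∀ k : ℕ, 0 < k → k < n → ∃ μ : ℕ, 0 < μ ∧
      (μ : ℝ) * (2 * n) * (s + t + 2 * (√(s * t) * cos (k * π / n)))
          * (s * t + 1 - 2 * (√(s * t) * cos (k * π / n)))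
        = 8 * v * (s * t - (√(s * t) * cos (k * π / n)) ^ 2)) :
    n ∈ ({1, 2, 3, 4} : Set ℕ) := by
  have hn0 : (0 : ℝ) < n := by exact_mod_cast hn
  have hv0 : (0 : ℝ) < v := by exact_mod_cast hv
  have hrat : ∀ k : ℕ, 0 < k → k < n → ∃ r : ℚ, (r : ℝ) = √(s * t) * cos (k * π / n) := by
    intro k hk hkn
    obtain ⟨μ, hμ, e1⟩ := h k hk hkn
    obtain ⟨μ', hμ', e2⟩ := h (n - k) (by omega) (by omega)
    have hcos : cos (((n - k : ℕ) : ℝ) * π / n) = -cos (k * π / n) := by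
      rw [Nat.cast_sub hkn.le]
      have : ((n : ℝ) - k) * π / n = π - k * π / n := by field_simp
      rw [this, cos_pi_sub]
    rw [hcos] at e2
    obtain ⟨x, hx⟩ : ∃ x : ℝ, x = √(s * t) * cos (k * π / n) := ⟨_, rfl⟩
    rw [← hx] at e1
    rw [mul_neg, ← hx] at e2
    rw [← hx]
    have hμ0 : (0 : ℚ) < μ := by exact_mod_cast hμ
    have hμ0' : (0 : ℚ) < μ' := by exact_mod_cast hμ'
    have hnq : (0 : ℚ) < n := by exact_mod_cast hn
    have hvq : (0 : ℚ) < v := by exact_mod_cast hv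
    refine fh16_rat x s t (μ * (2 * n) / (8 * v)) (μ' * (2 * n) / (8 * v))
      (by exact_mod_cast hs) (by exact_mod_cast ht) (by positivity) (by positivity) ?_ ?_
    · push_cast
      rw [div_mul_eq_mul_div, div_mul_eq_mul_div, div_eq_iff (by positivity)]
      linear_combination e1
    · push_cast
      rw [div_mul_eq_mul_div, div_mul_eq_mul_div, div_eq_iff (by positivity)]
      linear_combination e2
  by_contra hnot
  have hn5 : 5 ≤ n := by
    simp only [Set.mem_insert_iff, Set.mem_singleton_iff] at hnot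
    omega
  have hs0 : (0 : ℝ) < s := by exact_mod_cast (by omega : 0 < s)
  have ht0 : (0 : ℝ) < t := by exact_mod_cast (by omega : 0 < t)
  have hst : (0 : ℝ) < (s : ℝ) * t := by positivity
  obtain ⟨r, hr⟩ := hrat 1 (by norm_num) (by omega)
  rw [Nat.cast_one, one_mul] at hr
  have hcos2 : cos (2 * π / n) = ((2 * r ^ 2 / (s * t) - 1 : ℚ) : ℝ) := by
    have e : (2 : ℝ) * π / n = 2 * (π / n) := by ring
    rw [e, cos_two_mul]
    push_cast
    rw [hr, mul_pow, Real.sq_sqrt hst.le]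
    field_simp
  have hθ : ∃ q : ℚ, (2 * π / n : ℝ) = q * π := ⟨2 / n, by push_cast; ring⟩
  have hn5' : (5 : ℝ) ≤ n := by exact_mod_cast hn5
  have hπ := pi_pos
  have hbnd : (2 * π / n : ℝ) ∈ Set.Icc 0 π := by
    constructor
    · positivity
    · rw [div_le_iff₀ hn0]
      nlinarith [mul_le_mul_of_nonneg_left hn5' hπ.le]
  have hniv := niven_angle_eq hθ ⟨_, hcos2⟩ hbnd
  have h6 : n = 6 := by
    simp only [Set.mem_insert_iff, Set.mem_singleton_iff] at hniv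
    have hmul := mul_le_mul_of_nonneg_left hn5' hπ.le
    rcases hniv with h0 | h0 | h0 | h0 | h0
    · exfalso
      have : 0 < 2 * π / (n : ℝ) := by positivity
      linarith
    · rw [div_eq_iff hn0.ne'] at h0
      have h1 : π * ((n : ℝ) - 6) = 0 := by linear_combination (-3 : ℝ) * h0
      have h2 : (n : ℝ) - 6 = 0 := (mul_eq_zero.mp h1).resolve_left hπ.ne'
      have h3 : (n : ℝ) = 6 := by linarith
      exact_mod_cast h3
    · exfalso
      rw [div_eq_iff hn0.ne'] at h0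
      nlinarith
    · exfalso
      rw [div_eq_iff hn0.ne'] at h0
      nlinarith
    · exfalso
      rw [div_eq_iff hn0.ne'] at h0
      nlinarith
  subst h6
  obtain ⟨r1, hr1⟩ := hrat 1 (by norm_num) (by norm_num)
  obtain ⟨r2, hr2⟩ := hrat 2 (by norm_num) (by norm_num)
  have c1 : cos (((1 : ℕ) : ℝ) * π / ((6 : ℕ) : ℝ)) = √3 / 2 := by
    rw [show (((1 : ℕ) : ℝ) * π / ((6 : ℕ) : ℝ)) = π / 6 by push_cast; ring]
    exact cos_pi_div_six
  have c2 : cos (((2 : ℕ) : ℝ) * π / ((6 : ℕ) : ℝ)) = 1 / 2 := by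
    rw [show (((2 : ℕ) : ℝ) * π / ((6 : ℕ) : ℝ)) = π / 3 by push_cast; ring]
    exact cos_pi_div_three
  rw [c1] at hr1
  rw [c2] at hr2
  have hu : 0 < √((s : ℝ) * t) := Real.sqrt_pos.mpr hst
  have hu' := hu.ne'
  have hirr3 : Irrational (√(3 : ℝ)) := by
    have := Nat.Prime.irrational_sqrt (show Nat.Prime 3 by norm_num)
    simpa using this
  apply hirr3
  refine ⟨r1 / r2, ?_⟩
  push_cast
  rw [hr1, hr2]
  field_simp

end Cfsg.Agent.Helper76
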