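import Mathlib
import Cfsg.Prelude.Def_GeometricClasses
import Cfsg.Prelude.Def_LieTypeDatum
import Cfsg.Agent.Helper43.GraphGram

set_option autoImplicit false

namespace Cfsg.Agent.Helper76

open Matrix Module Cfsg.Agent.Helper43 Cfsg.Agent.Helper43.GraphForm

theorem ga_conj_dot {F : Type*} [Field F] {ι : Type} [Fintype ι] [DecidableEq ι]
    (A G : Matrix ι ι F) (u v : ι → F) :
    (A *ᵥ u) ⬝ᵥ (G *ᵥ (A *ᵥ v)) = u ⬝ᵥ ((Aᵀ * G * A) *ᵥ v) := by
  rw [← Matrix.vecMul_transpose A u, ← Matrix.dotProduct_mulVec, Matrix.mulVec_mulVec,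
    Matrix.mulVec_mulVec]

theorem ga_single_dot {F : Type*} [Field F] {ι : Type} [Fintype ι] [DecidableEq ι]
    (M : Matrix ι ι F) (i j : ι) :
    (Pi.single i (1 : F)) ⬝ᵥ (M *ᵥ Pi.single j 1) = M i j := by
  simp

theorem ga_polar_self {F : Type*} [Field F] {ι : Type} [Fintype ι] [DecidableEq ι]
    (h2 : (2 : F) ≠ 0) (Q : QuadraticForm F (ι → F)) (v : ι → F) :
    Q v = 2⁻¹ * (v ⬝ᵥ (gram Q *ᵥ v)) := by
  rw [← polar_eq_gram, QuadraticMap.polar_self, two_nsmul]
  field_simp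
  ring

theorem mem_quadSim_iff {F : Type*} [Field F] {ι : Type} [Fintype ι] [DecidableEq ι] [Nonempty ι]
    (h2 : (2 : F) ≠ 0) (Q : QuadraticForm F (ι → F)) (hdet : (gram Q).det ≠ 0) (g : GL ι F) :
    g ∈ Cfsg.Geo.quadSimilarityGroup (⇑Q) ↔
      ∃ c : F, (g : Matrix ι ι F)ᵀ * gram Q * (g : Matrix ι ι F) = c • gram Q := by
  constructor
  · rintro ⟨c, hc⟩
    refine ⟨c, ?_⟩
    have hpol : ∀ u v : ι → F,
        QuadraticMap.polar Q ((g : Matrix ι ι F) *ᵥ u) ((g : Matrix ι ι F) *ᵥ v)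
          = c * QuadraticMap.polar Q u v := by
      intro u v
      unfold QuadraticMap.polar
      rw [← Matrix.mulVec_add, hc, hc, hc]
      ring
    ext i j
    have := hpol (Pi.single i 1) (Pi.single j 1)
    rw [polar_eq_gram, polar_eq_gram, ga_conj_dot, ga_single_dot, ga_single_dot] at this
    rw [this, Matrix.smul_apply, smul_eq_mul]
  · rintro ⟨c, hc⟩
    have hg : (g : Matrix ι ι F).det ≠ 0 :=
      ((Matrix.isUnit_iff_isUnit_det _).mp g.isUnit).ne_zero
    have hc0 : c ≠ 0 := by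
      rintro rfl
      rw [zero_smul] at hc
      have := congrArg Matrix.det hc
      rw [Matrix.det_mul, Matrix.det_mul, Matrix.det_transpose, Matrix.det_zero] at this
      exact mul_ne_zero (mul_ne_zero hg hdet) hg this
    show ∃ c : Fˣ, ∀ v, Q ((g : Matrix ι ι F) *ᵥ v) = (c : F) * Q v
    refine ⟨Units.mk0 c hc0, fun v => ?_⟩
    rw [Units.val_mk0, ga_polar_self h2 Q, ga_polar_self h2 Q v, ga_conj_dot, hc,
      Matrix.smul_mulVec, dotProduct_smul, smul_eq_mul]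
    ring

end Cfsg.Agent.Helper76
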