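import Mathlib

/-!
# CALL S2719, piece PAR (helper76): an involution `g` conjugate to `-g` in dimension `2n` has
determinant `(-1)^n`.
-/

set_option autoImplicit false

namespace Cfsg.Agent.Helper76.GmPAR

open Matrix

/-- **PAR**: an involution `g` conjugate to `-g` in dimension `2n` has determinant `(-1)^n`. -/
theorem det_of_anticomm {ι : Type*} [Fintype ι] [DecidableEq ι] {F : Type*} [Field F]
    (h2 : (2 : F) ≠ 0) (g h : Matrix ι ι F) (hg : g * g = 1) (hh : h.det ≠ 0)
    (hanti : h * g = -(g * h)) (n : ℕ) (hcard : Fintype.card ι = 2 * n) : g.det = (-1) ^ n := by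
  open Polynomial in
  have hQQ' : (1 + g) * (1 - g) = 0 := by
    rw [add_mul, mul_sub, mul_sub, hg]; simp
  have hQ'Q : (1 - g) * (1 + g) = 0 := by
    rw [sub_mul, mul_add, mul_add, hg]; simp only [one_mul, mul_one]; abel
  have hsum : (1 + g) * (1 + g) + (1 - g) * (1 - g) = (4 : F) • (1 : Matrix ι ι F) := by
    simp only [add_mul, mul_add, sub_mul, mul_sub, one_mul, mul_one, hg]
    module
  have hhQ : h * (1 + g) = (1 - g) * h := by
    rw [mul_add, sub_mul, mul_one, one_mul, hanti]; abel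
  have hhQ' : h * (1 - g) = (1 + g) * h := by
    rw [mul_sub, add_mul, mul_one, one_mul, hanti]; abel
  obtain ⟨φ, hφ⟩ : ∃ φ : Matrix ι ι F →+* Matrix ι ι F[X], φ = (C : F →+* F[X]).mapMatrix :=
    ⟨_, rfl⟩
  obtain ⟨a, ha⟩ : ∃ a : Matrix ι ι F[X], a = φ (1 + g) := ⟨_, rfl⟩
  obtain ⟨b, hb⟩ : ∃ b : Matrix ι ι F[X], b = φ (1 - g) := ⟨_, rfl⟩
  have hab : a * b = 0 := by rw [ha, hb, ← map_mul, hQQ', map_zero]
  have hba : b * a = 0 := by rw [ha, hb, ← map_mul, hQ'Q, map_zero]
  have haabb : a * a + b * b = (C 4 : F[X]) • (1 : Matrix ι ι F[X]) := by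
    rw [ha, hb, ← map_mul, ← map_mul, ← map_add, hsum, hφ]
    ext i j
    by_cases hij : i = j <;> simp [Matrix.smul_apply, hij]
  have hha : φ h * a = b * φ h := by rw [ha, hb, ← map_mul, ← map_mul, hhQ]
  have hhb : φ h * b = a * φ h := by rw [ha, hb, ← map_mul, ← map_mul, hhQ']
  obtain ⟨A, hAdef⟩ : ∃ A : Matrix ι ι F[X], A = a + (X : F[X]) • b := ⟨_, rfl⟩
  obtain ⟨B, hBdef⟩ : ∃ B : Matrix ι ι F[X], B = b + (X : F[X]) • a := ⟨_, rfl⟩
  have hAB : A * B = (C 4 * X : F[X]) • (1 : Matrix ι ι F[X]) := by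
    rw [hAdef, hBdef]
    simp only [add_mul, mul_add, Matrix.smul_mul, Matrix.mul_smul, hab, hba, smul_zero,
      zero_add, add_zero]
    rw [← smul_add, add_comm, haabb, smul_smul, mul_comm]
  have hconj : φ h * A = B * φ h := by
    rw [hAdef, hBdef, mul_add, add_mul, Matrix.mul_smul, Matrix.smul_mul, hha, hhb]
  have hdetAB : A.det * B.det = (C 4 * X : F[X]) ^ (2 * n) := by
    rw [← Matrix.det_mul, hAB, Matrix.det_smul, Matrix.det_one, mul_one, hcard]
  have hdetEq : A.det = B.det := by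
    have h1 := congrArg Matrix.det hconj
    rw [Matrix.det_mul, Matrix.det_mul] at h1
    have h3 : (φ h).det = C h.det := by rw [hφ]; exact (RingHom.map_det C h).symm
    have h4 : (φ h).det ≠ 0 := by rw [h3]; exact Polynomial.C_ne_zero.mpr hh
    rw [mul_comm B.det] at h1
    exact mul_left_cancel₀ h4 h1
  have hsq : A.det ^ 2 = ((C 4 * X : F[X]) ^ n) ^ 2 := by
    rw [sq, ← pow_mul, mul_comm n 2, ← hdetAB, ← hdetEq]
  have hev : ∀ x : F, ((1 + g) + x • (1 - g)).det = Polynomial.eval x A.det := by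
    intro x
    have h1 := RingHom.map_det (Polynomial.evalRingHom x) A
    rw [Polynomial.coe_evalRingHom] at h1
    rw [h1]
    congr 1
    rw [hAdef, ha, hb, hφ]
    ext i j
    simp [Matrix.add_apply, Matrix.smul_apply]
  have h4n : (4 : F) ^ n ≠ 0 := by
    have : (4 : F) = 2 * 2 := by norm_num
    rw [this]; exact pow_ne_zero _ (mul_ne_zero h2 h2)
  have hone : ((1 + g) + (1 : F) • (1 - g)).det = (4 : F) ^ n := by
    have : (1 + g) + (1 : F) • (1 - g) = (2 : F) • (1 : Matrix ι ι F) := by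
      rw [one_smul]; module
    rw [this, Matrix.det_smul, Matrix.det_one, mul_one, hcard, pow_mul]; norm_num
  have hneg : ((1 + g) + (-1 : F) • (1 - g)).det = (4 : F) ^ n * g.det := by
    have : (1 + g) + (-1 : F) • (1 - g) = (2 : F) • g := by
      module
    rw [this, Matrix.det_smul, hcard, pow_mul]; norm_num
  rcases sq_eq_sq_iff_eq_or_eq_neg.mp hsq with h5 | h5
  · have h6 := hev (-1)
    rw [hneg, h5] at h6
    simp only [Polynomial.eval_pow, Polynomial.eval_mul, Polynomial.eval_C, Polynomial.eval_X]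
      at h6
    rw [mul_pow] at h6
    exact mul_left_cancel₀ h4n h6
  · exfalso
    have h6 := hev 1
    rw [hone, h5] at h6
    simp only [Polynomial.eval_neg, Polynomial.eval_pow, Polynomial.eval_mul, Polynomial.eval_C,
      Polynomial.eval_X, mul_one] at h6
    have h7 : (2 : F) * 4 ^ n = 0 := by linear_combination h6
    exact (mul_ne_zero h2 h4n) h7

end Cfsg.Agent.Helper76.GmPAR
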