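import Cfsg.Agent.Helper77.BlockIdem
import Cfsg.Agent.Helper77.MinMax
import Cfsg.Agent.Helper16.BlockCore
import Cfsg.Agent.Helper15.Gallagher2
import Cfsg.Agent.Helper79.Linear
import Cfsg.Agent.Helper81.BlockDefect

/-!
# A congruence of Gow type for `2`-blocks, and real extensions in the principal `2`-block (helper76)

`G` is a finite group, `M` a maximal ideal of the algebraic integers over `2`.

* `unitsPowAction`: the action of `ℤˣ` on a group by `u • g = g ^ (u : ℤ)`.
* `omega_blockCoeff_sub_memLocalIdeal`: if the idempotent `e_B` of the `2`-block `B` is invariant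
  under inversion and `ψ` is an irreducible character of odd degree with `ψ(g⁻¹) = ψ(g)` for `g`
  of odd order, then `[ψ ∈ B] ≡ e_B(1)` modulo the local ideal.
* `mem_of_blockCoeff_inv`: hence such a `ψ` lies in `B` as soon as one such character does.
* `blockCoeff_inv_of_conj_mem`: a block closed under complex conjugation has an inversion
  invariant idempotent.
* `sameBlock_twist_of_pow_eq_one`: twisting by a linear character of `p`-power order does not
  change the `p`-block.
* `sameBlock_comp_inv`: `SameBlock` is compatible with composing with inversion.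
* `mem_principalBlock_of_conj_eq_twist`: an irreducible character of odd degree whose complex
  conjugate is its twist by a linear character of `2`-power order lies in the principal
  `2`-block (in particular a real-valued irreducible character of odd degree does: Gow).
* `exists_extension_mem_principalBlock`: a real-valued irreducible character of odd degree of a
  normal subgroup which extends to `G` has an extension in the principal `2`-block.
-/

set_option autoImplicit false
set_option linter.style.haveILetI false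

namespace Cfsg.Agent.Helper76

open scoped ComplexConjugate

universe u

/-- The action of `ℤˣ` on a group by powers: `u • g = g ^ (u : ℤ)`; `-1` acts by inversion. -/
@[reducible] def unitsPowAction (G : Type*) [Group G] : MulAction ℤˣ G where
  smul u g := g ^ (u : ℤ)
  one_smul g := by
    show g ^ ((1 : ℤˣ) : ℤ) = g
    simp
  mul_smul u v g := by
    show g ^ ((u * v : ℤˣ) : ℤ) = (g ^ (v : ℤ)) ^ (u : ℤ)
    rw [Units.val_mul, mul_comm, zpow_mul]

section gow

variable {G : Type u} [Group G] [Fintype G] {M : Ideal Cfsg.AlgInt}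

/-- **Gow's congruence.** Let `B` be a `2`-block whose idempotent is invariant under inversion and
`ψ` an irreducible character of odd degree with `ψ(g⁻¹) = ψ(g)` for all `g` of odd order.  Then
`Ω_ψ(e_B) ≡ e_B(1)` modulo the local ideal. -/
theorem omega_blockCoeff_sub_memLocalIdeal (hM : Cfsg.IsPModular 2 M)
    {B : Set (Cfsg.IrrCharacter G)} (hB : Cfsg.IsPBlock M B)
    (hinv : ∀ g : G, Cfsg.blockCoeff B g⁻¹ = Cfsg.blockCoeff B g)
    (ψ : Cfsg.IrrCharacter G) (hodd : Odd (Cfsg.charDegree (ψ : G → ℂ)))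
    (hreal : ∀ g : G, Odd (orderOf g) → (ψ : G → ℂ) g⁻¹ = (ψ : G → ℂ) g) :
    Cfsg.MemLocalIdeal M
      (Helper81.omega (ψ : G → ℂ) (Cfsg.blockCoeff B) - Cfsg.blockCoeff B 1) := by
  classical
  have hMm := hM.2.1
  let F : G → ℂ := fun g => if g = 1 then 0 else Cfsg.blockCoeff B g * (ψ : G → ℂ) g
  have hFdef : ∀ g, F g = if g = 1 then 0 else Cfsg.blockCoeff B g * (ψ : G → ℂ) g :=
    fun g => rfl
  letI : MulAction ℤˣ G := unitsPowAction G
  have hneg : ∀ x : G, (-1 : ℤˣ) • x = x⁻¹ := by
    intro x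
    show x ^ (((-1 : ℤˣ) : ℤ)) = x⁻¹
    simp
  have hP : IsPGroup 2 ℤˣ := by
    apply IsPGroup.of_card (n := 1)
    rw [Nat.card_eq_fintype_card, Fintype.card_units_int, pow_one]
  have hsum : Cfsg.MemLocalIdeal M (∑ g, F g) := by
    apply Helper77.sum_memLocalIdeal_of_isPGroup hM hP F
    · intro u x
      rcases Int.units_eq_one_or u with rfl | rfl
      · rw [one_smul]
      · rw [hneg, hFdef, hFdef]
        by_cases h1 : x = 1
        · rw [if_pos h1, if_pos (by rw [h1, inv_one])]
        · rw [if_neg h1, if_neg (by simpa using h1), hinv]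
          by_cases ho : Odd (orderOf x)
          · rw [hreal x ho]
          · have h2 : 2 ∣ orderOf x := (Nat.not_odd_iff_even.mp ho).two_dvd
            rw [Helper77.blockCoeff_eq_zero_of_dvd_orderOf hM hB h2, zero_mul, zero_mul]
    · intro x
      rw [hFdef]
      split_ifs
      · exact Helper77.memLocalRing_zero hMm
      · exact Helper77.memLocalRing_mul hMm (Helper77.blockCoeff_memLocalRing hMm hB x)
          (Helper77.memLocalRing_of_isIntegral hMm (Helper81.irr_isIntegral ψ x))
    · intro x hx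
      have hx1 : x⁻¹ = x := by
        have := hx (-1)
        rwa [hneg] at this
      rw [hFdef]
      by_cases h1 : x = 1
      · rw [if_pos h1]
        exact Helper77.memLocalIdeal_zero hMm
      · rw [if_neg h1]
        have h2 : 2 ∣ orderOf x := by
          have hx2 : x ^ 2 = 1 := by
            rw [pow_two]
            nth_rewrite 1 [← hx1]
            exact inv_mul_cancel x
          have h3 := orderOf_dvd_of_pow_eq_one hx2
          rcases (Nat.dvd_prime Nat.prime_two).mp h3 with h | h
          · exact absurd (orderOf_eq_one_iff.mp h) h1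
          · rw [h]
        rw [Helper77.blockCoeff_eq_zero_of_dvd_orderOf hM hB h2, zero_mul]
        exact Helper77.memLocalIdeal_zero hMm
  have h0 := Helper81.irr_one_ne_zero ψ
  have hsplit : ∑ g, Cfsg.blockCoeff B g * (ψ : G → ℂ) g
      = Cfsg.blockCoeff B 1 * (ψ : G → ℂ) 1 + ∑ g, F g := by
    have h1 : ∀ g : G, Cfsg.blockCoeff B g * (ψ : G → ℂ) g
        = (if g = 1 then Cfsg.blockCoeff B 1 * (ψ : G → ℂ) 1 else 0) + F g := by
      intro g
      rw [hFdef]
      by_cases hg : g = 1
      · rw [if_pos hg, if_pos hg, hg, add_zero]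
      · rw [if_neg hg, if_neg hg, zero_add]
    rw [Finset.sum_congr rfl fun g _ => h1 g, Finset.sum_add_distrib, Finset.sum_ite_eq']
    simp
  have hval : Helper81.omega (ψ : G → ℂ) (Cfsg.blockCoeff B) - Cfsg.blockCoeff B 1
      = (∑ g, F g) * ((Cfsg.charDegree (ψ : G → ℂ) : ℕ) : ℂ)⁻¹ := by
    rw [Helper81.omega, hsplit, ← Helper81.irr_one_eq_charDegree]
    field_simp
    ring
  rw [hval]
  refine Helper77.memLocalIdeal_mul' hMm hsum (Helper77.memLocalRing_natCast_inv hM ?_)
  exact Nat.not_even_iff_odd.mpr hodd ∘ even_iff_two_dvd.mpr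

/-- If the idempotent of the `2`-block `B` is invariant under inversion, and `B` contains an
irreducible character of odd degree which is real on elements of odd order, then it contains all
of them. -/
theorem mem_of_blockCoeff_inv (hM : Cfsg.IsPModular 2 M)
    {B : Set (Cfsg.IrrCharacter G)} (hB : Cfsg.IsPBlock M B)
    (hinv : ∀ g : G, Cfsg.blockCoeff B g⁻¹ = Cfsg.blockCoeff B g)
    (ψ : Cfsg.IrrCharacter G) (hψB : ψ ∈ B) (hodd : Odd (Cfsg.charDegree (ψ : G → ℂ)))
    (hreal : ∀ g : G, Odd (orderOf g) → (ψ : G → ℂ) g⁻¹ = (ψ : G → ℂ) g)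
    (φ : Cfsg.IrrCharacter G) (hodd' : Odd (Cfsg.charDegree (φ : G → ℂ)))
    (hreal' : ∀ g : G, Odd (orderOf g) → (φ : G → ℂ) g⁻¹ = (φ : G → ℂ) g) : φ ∈ B := by
  have hMm := hM.2.1
  have h1 := omega_blockCoeff_sub_memLocalIdeal hM hB hinv ψ hodd hreal
  rw [Helper77.omega_blockCoeff_of_mem hψB] at h1
  have h2 := omega_blockCoeff_sub_memLocalIdeal hM hB hinv φ hodd' hreal'
  by_contra hφ
  rw [Helper77.omega_blockCoeff_of_not_mem hφ] at h2
  have h3 := Helper77.memLocalIdeal_sub hMm h1 h2
  have h4 : (1 - Cfsg.blockCoeff B 1 - (0 - Cfsg.blockCoeff B 1) : ℂ) = 1 := by ring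
  rw [h4] at h3
  exact Helper77.not_memLocalIdeal_one hMm h3

/-- The complex conjugate of an irreducible character, as an irreducible character. -/
noncomputable def irrConj (χ : Cfsg.IrrCharacter G) : Cfsg.IrrCharacter G :=
  ⟨fun g => conj ((χ : G → ℂ) g), Helper79.isIrrCharacter_conj χ.2⟩

omit [Fintype G] in
theorem irrConj_apply (χ : Cfsg.IrrCharacter G) (g : G) :
    (irrConj χ : G → ℂ) g = conj ((χ : G → ℂ) g) := rfl

omit [Fintype G] in
theorem irrConj_irrConj (χ : Cfsg.IrrCharacter G) : irrConj (irrConj χ) = χ :=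
  Subtype.ext (funext fun _ => Complex.conj_conj _)

/-- A set of irreducible characters closed under complex conjugation has an inversion invariant
idempotent. -/
theorem blockCoeff_inv_of_conj_mem {B : Set (Cfsg.IrrCharacter G)}
    (hconj : ∀ χ : Cfsg.IrrCharacter G, χ ∈ B → irrConj χ ∈ B) (g : G) :
    Cfsg.blockCoeff B g⁻¹ = Cfsg.blockCoeff B g := by
  classical
  have := Fintype.ofFinite (Cfsg.IrrCharacter G)
  have hc : Function.Involutive (irrConj : Cfsg.IrrCharacter G → Cfsg.IrrCharacter G) :=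
    irrConj_irrConj
  have hmem : ∀ χ : Cfsg.IrrCharacter G, irrConj χ ∈ B ↔ χ ∈ B := fun χ =>
    ⟨fun h => by have := hconj _ h; rwa [irrConj_irrConj] at this, hconj χ⟩
  rw [Helper77.blockCoeff_eq_sum, Helper77.blockCoeff_eq_sum, inv_inv]
  congr 1
  rw [← Equiv.sum_comp (Function.Involutive.toPerm irrConj hc)]
  refine Finset.sum_congr rfl fun χ _ => ?_
  have h1 : (Function.Involutive.toPerm irrConj hc χ) = irrConj χ := rfl
  rw [h1]
  by_cases hχ : χ ∈ B
  · rw [if_pos hχ, if_pos ((hmem χ).mpr hχ), irrConj_apply, irrConj_apply, ← Helper77.irr_inv,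
      ← Helper77.irr_inv, inv_one]
  · rw [if_neg hχ, if_neg (fun h => hχ ((hmem χ).mp h))]

omit [Fintype G] in
theorem centralizer_singleton_inv_eq (g : G) :
    Subgroup.centralizer ({g⁻¹} : Set G) = Subgroup.centralizer ({g} : Set G) := by
  ext x
  simp only [Subgroup.mem_centralizer_iff, Set.mem_singleton_iff, forall_eq]
  constructor
  · intro h
    calc g * x = g * (x * g⁻¹) * g := by group
      _ = g * (g⁻¹ * x) * g := by rw [h]
      _ = x * g := by group
  · intro h
    calc g⁻¹ * x = g⁻¹ * (x * g) * g⁻¹ := by group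
      _ = g⁻¹ * (g * x) * g⁻¹ := by rw [h]
      _ = x * g⁻¹ := by group

omit [Fintype G] in
theorem centralChar_comp_inv (χ : G → ℂ) (g : G) :
    Cfsg.centralChar (fun x => χ x⁻¹) g = Cfsg.centralChar χ g⁻¹ := by
  unfold Cfsg.centralChar
  simp only []
  rw [centralizer_singleton_inv_eq, inv_one]

omit [Fintype G] in
/-- `SameBlock` is compatible with composing with inversion. -/
theorem sameBlock_comp_inv {χ ψ : G → ℂ} (h : Cfsg.SameBlock M χ ψ) :
    Cfsg.SameBlock M (fun x => χ x⁻¹) (fun x => ψ x⁻¹) := by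
  intro g
  rw [centralChar_comp_inv, centralChar_comp_inv]
  exact h g⁻¹

/-- Twisting an irreducible character by a linear character of `p`-power order does not change
its `p`-block. -/
theorem sameBlock_twist_of_pow_eq_one {p : ℕ} (hM : Cfsg.IsPModular p M) (f : G →* ℂˣ) (n : ℕ)
    (hf : ∀ g, (f g : ℂ) ^ p ^ n = 1) (χ : Cfsg.IrrCharacter G) :
    Cfsg.SameBlock M (fun g => (f g : ℂ) * (χ : G → ℂ) g) (χ : G → ℂ) := by
  intro g
  have h1 : Cfsg.centralChar (fun g => (f g : ℂ) * (χ : G → ℂ) g) g
      - Cfsg.centralChar (χ : G → ℂ) g = ((f g : ℂ) - 1) * Cfsg.centralChar (χ : G → ℂ) g := by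
    unfold Cfsg.centralChar
    simp only []
    rw [map_one f, Units.val_one, one_mul]
    ring
  rw [h1]
  exact Helper77.memLocalIdeal_mul' hM.2.1 (Helper77.memLocalIdeal_root_sub_one hM (hf g))
    (Helper16.centralChar_memLocalRing hM.2.1 χ g)

/-- An irreducible character `ψ` of odd degree whose complex conjugate is the twist of `ψ` by a
linear character of `2`-power order lies in the principal `2`-block. -/
theorem mem_principalBlock_of_conj_eq_twist (hM : Cfsg.IsPModular 2 M) (ψ : Cfsg.IrrCharacter G)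
    (hodd : Odd (Cfsg.charDegree (ψ : G → ℂ))) (ν : G →* ℂˣ) (a : ℕ)
    (hν : ∀ g, (ν g : ℂ) ^ 2 ^ a = 1)
    (hconj : ∀ g, conj ((ψ : G → ℂ) g) = (ν g : ℂ) * (ψ : G → ℂ) g) :
    ψ ∈ Cfsg.principalBlock M G := by
  have hMm := hM.2.1
  -- `ν` is trivial on elements of odd order
  have hν1 : ∀ g : G, Odd (orderOf g) → ν g = 1 := by
    intro g hg
    have h1 : ν g ^ orderOf g = 1 := by rw [← map_pow, pow_orderOf_eq_one, map_one]
    have h2 : ν g ^ 2 ^ a = 1 := by
      apply Units.ext
      rw [Units.val_pow_eq_pow_val, hν, Units.val_one]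
    have h3 := orderOf_dvd_of_pow_eq_one h1
    have h4 := orderOf_dvd_of_pow_eq_one h2
    have hcop : Nat.Coprime (orderOf g) (2 ^ a) :=
      Nat.Coprime.pow_right a (Nat.coprime_two_right.mpr hg)
    exact orderOf_eq_one_iff.mp (Nat.eq_one_of_dvd_coprimes hcop h3 h4)
  have hreal : ∀ g : G, Odd (orderOf g) → (ψ : G → ℂ) g⁻¹ = (ψ : G → ℂ) g := by
    intro g hg
    rw [Helper77.irr_inv, hconj, hν1 g hg, Units.val_one, one_mul]
  -- the block of `ψ` is closed under complex conjugation
  have hB : Cfsg.IsPBlock M (Cfsg.blockOf M (ψ : G → ℂ)) := ⟨ψ, rfl⟩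
  have hψB : ψ ∈ Cfsg.blockOf M (ψ : G → ℂ) := Helper16.sameBlock_refl hMm _
  have hclosed : ∀ χ : Cfsg.IrrCharacter G, χ ∈ Cfsg.blockOf M (ψ : G → ℂ) →
      irrConj χ ∈ Cfsg.blockOf M (ψ : G → ℂ) := by
    intro χ hχ
    have h1 : Cfsg.SameBlock M (fun x => (ψ : G → ℂ) x⁻¹) (fun x => (χ : G → ℂ) x⁻¹) :=
      sameBlock_comp_inv hχ
    have h2 : (fun x => (ψ : G → ℂ) x⁻¹) = fun g => (ν g : ℂ) * (ψ : G → ℂ) g := by
      funext g
      rw [Helper77.irr_inv, hconj]
    have h3 : (fun x => (χ : G → ℂ) x⁻¹) = (irrConj χ : G → ℂ) := by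
      funext g
      rw [Helper77.irr_inv, irrConj_apply]
    rw [h2, h3] at h1
    exact Helper16.sameBlock_trans hMm
      (Helper16.sameBlock_symm (sameBlock_twist_of_pow_eq_one hM ν a hν ψ)) h1
  have hinv := blockCoeff_inv_of_conj_mem hclosed
  have htriv : Helper79.trivIrr G ∈ Cfsg.blockOf M (ψ : G → ℂ) := by
    apply mem_of_blockCoeff_inv hM hB hinv ψ hψB hodd hreal
    · have : Cfsg.charDegree (Helper79.trivIrr G : G → ℂ) = 1 := by
        simp [Cfsg.charDegree]
      rw [this]
      exact odd_one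
    · intro g _
      rfl
  exact Helper16.sameBlock_symm htriv

/-- **Gow.** A real-valued irreducible character of odd degree lies in the principal
`2`-block. -/
theorem mem_principalBlock_of_real_of_odd (hM : Cfsg.IsPModular 2 M) (ψ : Cfsg.IrrCharacter G)
    (hodd : Odd (Cfsg.charDegree (ψ : G → ℂ))) (hreal : ∀ g, ((ψ : G → ℂ) g).im = 0) :
    ψ ∈ Cfsg.principalBlock M G := by
  apply mem_principalBlock_of_conj_eq_twist hM ψ hodd 1 0
  · intro g
    simp
  · intro g
    rw [MonoidHom.one_apply, Units.val_one, one_mul]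
    exact Complex.conj_eq_iff_im.mpr (hreal g)

/-- **Gallagher, uniqueness of extensions**: if `χ` and `ψ` are irreducible characters of `G` with
the same irreducible restriction to the normal subgroup `N`, then `ψ = λ χ` for a linear character
`λ` of `G` which is trivial on `N`. -/
theorem exists_hom_of_extensions (N : Subgroup G) [hN : N.Normal] (χ ψ : Cfsg.IrrCharacter G)
    (hχN : Cfsg.IsIrrCharacter N (fun n : N => (χ : G → ℂ) n))
    (hNeq : ∀ n : N, (ψ : G → ℂ) n = (χ : G → ℂ) n) :
    ∃ f : G →* ℂˣ, (∀ n ∈ N, f n = 1) ∧ ∀ g, (ψ : G → ℂ) g = (f g : ℂ) * (χ : G → ℂ) g := by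
  classical
  letI : Fintype N := Fintype.ofFinite N
  have hne : Cfsg.classInner (fun n : N => (ψ : G → ℂ) n) (fun n : N => (χ : G → ℂ) n) ≠ 0 := by
    have h1 : (fun n : N => (ψ : G → ℂ) n) = (fun n : N => (χ : G → ℂ) n) := funext hNeq
    rw [h1, Helper15.irr_inner_self hχN]
    exact one_ne_zero
  obtain ⟨β, hβirr, hβN, hβeq⟩ : ∃ β : G → ℂ, Cfsg.IsIrrCharacter G β ∧
      (∀ x ∈ N, β x = β 1) ∧ (ψ : G → ℂ) = β * (χ : G → ℂ) :=
    ⟨_, (Helper15.gallagher_average N (χ : G → ℂ) χ.2 hχN (ψ : G → ℂ) ψ.2).1 hne⟩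
  have h1 : (ψ : G → ℂ) 1 = (χ : G → ℂ) 1 := by
    have := hNeq 1
    rwa [Subgroup.coe_one] at this
  have hβ1 : β 1 = 1 := by
    have h2 := congrFun hβeq 1
    rw [Pi.mul_apply, h1] at h2
    have h0 := Helper81.irr_one_ne_zero χ
    have h3 : (β 1 - 1) * (χ : G → ℂ) 1 = 0 := by linear_combination -h2
    rcases mul_eq_zero.mp h3 with h | h
    · linear_combination h
    · exact absurd h h0
  obtain ⟨f, hf⟩ := Helper79.isCharacter_linear (Helper79.isCharacter_of_irr hβirr) hβ1
  refine ⟨f, fun n hn => ?_, fun g => ?_⟩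
  · apply Units.ext
    rw [← hf, hβN n hn, hβ1, Units.val_one]
  · rw [← hf]
    exact congrFun hβeq g

/-- A real-valued irreducible character `θ` of odd degree of a normal subgroup `N` which extends
to `G` has an extension lying in the principal `2`-block of `G`. -/
theorem exists_extension_mem_principalBlock (hM : Cfsg.IsPModular 2 M) (N : Subgroup G)
    [hN : N.Normal] (θ : Cfsg.IrrCharacter N) (hreal : ∀ n : N, ((θ : N → ℂ) n).im = 0)
    (hodd : Odd (Cfsg.charDegree (θ : N → ℂ))) (η : Cfsg.IrrCharacter G)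
    (hext : ∀ n : N, (η : G → ℂ) n = (θ : N → ℂ) n) :
    ∃ η' : Cfsg.IrrCharacter G, (∀ n : N, (η' : G → ℂ) n = (θ : N → ℂ) n) ∧
      η' ∈ Cfsg.principalBlock M G := by
  classical
  have hηN : Cfsg.IsIrrCharacter N (fun n : N => (η : G → ℂ) n) := by
    have h1 : (fun n : N => (η : G → ℂ) n) = (θ : N → ℂ) := funext hext
    rw [h1]
    exact θ.2
  obtain ⟨f, hfN, hf⟩ := exists_hom_of_extensions N η (irrConj η) hηN (by
    intro n
    rw [irrConj_apply, hext]
    exact Complex.conj_eq_iff_im.mpr (hreal n))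
  simp only [irrConj_apply] at hf
  obtain ⟨a, b, hbodd, hab⟩ :=
    Nat.exists_eq_two_pow_mul_odd (Fintype.card_ne_zero : Fintype.card G ≠ 0)
  obtain ⟨k, hk⟩ := hbodd
  have hfc : ∀ g : G, conj ((f g : ℂˣ) : ℂ) = (((f g)⁻¹ : ℂˣ) : ℂ) := by
    intro g
    rw [Helper79.conj_hom_apply, map_inv]
  refine ⟨Helper79.irrTwist (f ^ (k + 1)) η, fun n => ?_, ?_⟩
  · rw [Helper79.irrTwist_apply, MonoidHom.pow_apply, hfN n n.2, one_pow, Units.val_one, one_mul,
      hext]
  · apply mem_principalBlock_of_conj_eq_twist hM _ _ (f⁻¹ ^ b) a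
    · intro g
      have h1 : ((f⁻¹ ^ b) g) ^ 2 ^ a = 1 := by
        rw [MonoidHom.pow_apply, MonoidHom.inv_apply, ← pow_mul, inv_pow, mul_comm, ← hab,
          ← map_pow, pow_card_eq_one, map_one, inv_one]
      rw [← Units.val_pow_eq_pow_val, h1, Units.val_one]
    · intro g
      rw [Helper79.irrTwist_apply, map_mul, hf, MonoidHom.pow_apply, MonoidHom.pow_apply,
        MonoidHom.inv_apply, Units.val_pow_eq_pow_val, Units.val_pow_eq_pow_val, map_pow, hfc,
        Units.val_inv_eq_inv_val, hk]
      have hz : ((f g : ℂˣ) : ℂ) ≠ 0 := Units.ne_zero _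
      generalize ((f g : ℂˣ) : ℂ) = z at hz
      generalize (η : G → ℂ) g = w
      have h1 : z⁻¹ ^ (k + 1) * z = z⁻¹ ^ (2 * k + 1) * z ^ (k + 1) := by
        have h2 : z ^ (2 * k + 1) ≠ 0 := pow_ne_zero _ hz
        have h3 : z ^ (k + 1) ≠ 0 := pow_ne_zero _ hz
        rw [inv_pow, inv_pow]
        field_simp
        ring
      linear_combination w * h1
    · rw [Helper79.charDegree_irrTwist]
      have h1 : Cfsg.charDegree (η : G → ℂ) = Cfsg.charDegree (θ : N → ℂ) := by
        unfold Cfsg.charDegree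
        have := hext 1
        rw [Subgroup.coe_one] at this
        rw [this]
      rw [h1]
      exact hodd

end gow

end Cfsg.Agent.Helper76
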