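import Mathlib

/-!
# CALL S5958, piece ORB (helper76): orbit representatives of a permutation of prime order
-/

set_option autoImplicit false

namespace Cfsg.Agent.Helper76

/-! ## PIECE ORB (pure combinatorics, helper for LOW) -/

theorem perm_prime_reps {α : Type*} [Fintype α] [DecidableEq α] (σ : Equiv.Perm α) (r : ℕ)
    (hr : r.Prime) (hσ : σ ^ r = 1) :
    ∃ R : Finset α, (∀ j, ∃ ρ ∈ R, ∃ i < r, (σ ^ i) ρ = j) ∧
      (∀ ρ ∈ R, ∀ ρ' ∈ R, ∀ i : ℕ, (σ ^ i) ρ = ρ' → ρ = ρ') ∧ Fintype.card α ≤ r * R.card := by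
  classical
  have hr0 : (r : ℤ) ≠ 0 := by exact_mod_cast hr.pos.ne'
  obtain ⟨rep, hrep⟩ : ∃ rep : α → α, rep = fun j =>
      (Quotient.out (Quotient.mk (Equiv.Perm.SameCycle.setoid σ) j) : α) := ⟨_, rfl⟩
  have hsame : ∀ j, Equiv.Perm.SameCycle σ (rep j) j := by
    intro j
    rw [hrep]
    exact Quotient.exact (s := Equiv.Perm.SameCycle.setoid σ) (Quotient.out_eq _)
  have hrepeq : ∀ a b, Equiv.Perm.SameCycle σ a b → rep a = rep b := by
    intro a b hab
    rw [hrep]
    show (Quotient.out (Quotient.mk (Equiv.Perm.SameCycle.setoid σ) a) : α) =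
      Quotient.out (Quotient.mk (Equiv.Perm.SameCycle.setoid σ) b)
    rw [Quotient.sound (s := Equiv.Perm.SameCycle.setoid σ) hab]
  have h1 : ∀ j, ∃ ρ ∈ Finset.univ.image rep, ∃ i < r, (σ ^ i) ρ = j := by
    intro j
    refine ⟨rep j, Finset.mem_image_of_mem _ (Finset.mem_univ _), ?_⟩
    obtain ⟨i, hi⟩ := hsame j
    refine ⟨(i % r).toNat, ?_, ?_⟩
    · have := Int.emod_lt_of_pos i (by exact_mod_cast hr.pos : (0 : ℤ) < r)
      have h0 := Int.emod_nonneg i hr0
      omega
    · have h0 := Int.emod_nonneg i hr0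
      have hpow : σ ^ i = σ ^ (i % r) := by
        conv_lhs => rw [← Int.mul_ediv_add_emod i r]
        rw [zpow_add, zpow_mul, zpow_natCast, hσ, one_zpow, one_mul]
      calc (σ ^ (i % r).toNat) (rep j) = (σ ^ ((i % r).toNat : ℤ)) (rep j) := by
            rw [zpow_natCast]
        _ = (σ ^ (i % r)) (rep j) := by rw [Int.toNat_of_nonneg h0]
        _ = (σ ^ i) (rep j) := by rw [hpow]
        _ = j := hi
  refine ⟨Finset.univ.image rep, h1, ?_, ?_⟩
  · intro ρ hρ ρ' hρ' i hi
    obtain ⟨a, -, rfl⟩ := Finset.mem_image.mp hρ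
    obtain ⟨b, -, rfl⟩ := Finset.mem_image.mp hρ'
    have hab : Equiv.Perm.SameCycle σ a b := by
      have h2 : Equiv.Perm.SameCycle σ (rep a) (rep b) := ⟨(i : ℤ), by rw [zpow_natCast]; exact hi⟩
      exact ((hsame a).symm.trans h2).trans (hsame b)
    exact hrepeq a b hab
  · have hsub : (Finset.univ : Finset α) ⊆
        ((Finset.univ.image rep) ×ˢ Finset.range r).image (fun x => (σ ^ x.2) x.1) := by
      intro j _
      obtain ⟨ρ, hρ, i, hi, hij⟩ := h1 j
      exact Finset.mem_image.mpr ⟨(ρ, i), Finset.mem_product.mpr ⟨hρ, Finset.mem_range.mpr hi⟩, hij⟩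
    calc Fintype.card α = (Finset.univ : Finset α).card := rfl
      _ ≤ (((Finset.univ.image rep) ×ˢ Finset.range r).image (fun x => (σ ^ x.2) x.1)).card :=
          Finset.card_le_card hsub
      _ ≤ ((Finset.univ.image rep) ×ˢ Finset.range r).card := Finset.card_image_le
      _ = r * (Finset.univ.image rep).card := by
          rw [Finset.card_product, Finset.card_range, mul_comm]

end Cfsg.Agent.Helper76
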