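import Cfsg.Agent.Helper81.BlockKer
import Cfsg.Agent.Helper16.BlockCore
import Cfsg.Agent.Helper79.Quotient

/-!
# Blocks and inflation from a quotient by a normal `p'`-subgroup (helper76)

* `sum_comp_mk`: `∑_{g ∈ G} F(gN) = |N| ∑_{x ∈ G/N} F(x)`.
* `irrInfl N ψ`: the inflation of an irreducible character of `G ⧸ N`, as an irreducible
  character of `G`.
* `omega_irrInfl_classInd`: `Ω` of the inflation of `ψ` on the preimage of the class of `x` is
  `|N|` times the central character of `ψ` at `x`.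
* `sameBlock_of_irrInfl`: if `p ∤ |N|`, irreducible characters of `G ⧸ N` whose inflations lie in
  the same `p`-block of `G` lie in the same `p`-block of `G ⧸ N`.
* `exists_deflation_of_sameBlock`: if `p ∤ |N|`, every irreducible character in the block of an
  inflated character is the inflation of a character in the corresponding block of `G ⧸ N`.
-/

set_option autoImplicit false
set_option linter.style.haveILetI false

namespace Cfsg.Agent.Helper76

universe u

section inflate

variable {G : Type u} [Group G] [Fintype G]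

/-- Summing a function of the coset over the group. -/
theorem sum_comp_mk (N : Subgroup G) [N.Normal] [Fintype (G ⧸ N)] (F : G ⧸ N → ℂ) :
    ∑ g : G, F (g : G ⧸ N) = (Nat.card N : ℂ) * ∑ x : G ⧸ N, F x := by
  classical
  rw [← Finset.sum_fiberwise Finset.univ (fun g : G => (g : G ⧸ N)) (fun g => F (g : G ⧸ N)),
    Finset.mul_sum]
  refine Finset.sum_congr rfl fun x _ => ?_
  have h1 : ∀ g ∈ Finset.univ.filter (fun g : G => (g : G ⧸ N) = x), F (g : G ⧸ N) = F x := by
    intro g hg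
    rw [(Finset.mem_filter.mp hg).2]
  rw [Finset.sum_congr rfl h1, Finset.sum_const, nsmul_eq_mul]
  congr 2
  have h2 := QuotientGroup.card_preimage_mk N ({x} : Set (G ⧸ N))
  have h3 : Nat.card (({x} : Set (G ⧸ N)) : Type u) = 1 := by simp
  rw [h3, mul_one] at h2
  rw [← h2, ← Set.ncard_coe_finset, Nat.card_coe_set_eq]
  congr 1
  ext g
  simp

/-- The inflation of an irreducible character of `G ⧸ N` to `G`. -/
noncomputable def irrInfl (N : Subgroup G) [N.Normal] (ψ : Cfsg.IrrCharacter (G ⧸ N)) :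
    Cfsg.IrrCharacter G :=
  ⟨fun g => (ψ : G ⧸ N → ℂ) (g : G ⧸ N), (Helper79.isIrrCharacter_quotient_iff N _).mp ψ.2⟩

theorem irrInfl_apply (N : Subgroup G) [N.Normal] (ψ : Cfsg.IrrCharacter (G ⧸ N)) (g : G) :
    (irrInfl N ψ : G → ℂ) g = (ψ : G ⧸ N → ℂ) (g : G ⧸ N) := rfl

/-- `Ω` of an inflated character at the full preimage of a conjugacy class of `G ⧸ N`. -/
theorem omega_irrInfl_classInd (N : Subgroup G) [N.Normal] [Fintype (G ⧸ N)]
    (ψ : Cfsg.IrrCharacter (G ⧸ N)) (x : G ⧸ N) :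
    Helper81.omega (irrInfl N ψ : G → ℂ) (fun g : G => Helper81.classInd x (g : G ⧸ N))
      = (Nat.card N : ℂ) * Cfsg.centralChar (ψ : G ⧸ N → ℂ) x := by
  rw [← Helper81.omega_classInd ψ x]
  unfold Helper81.omega
  rw [irrInfl_apply, QuotientGroup.mk_one, ← mul_div_assoc]
  congr 1
  exact sum_comp_mk N (fun y => Helper81.classInd x y * (ψ : G ⧸ N → ℂ) y)

variable {p : ℕ} [Fact p.Prime] {M : Ideal Cfsg.AlgInt}

omit [Fact p.Prime] in
/-- If `p ∤ |N|`, irreducible characters of `G ⧸ N` whose inflations lie in the same `p`-block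
of `G` lie in the same `p`-block of `G ⧸ N`. -/
theorem sameBlock_of_irrInfl (hM : Cfsg.IsPModular p M) (N : Subgroup G) [N.Normal]
    (hN : ¬ p ∣ Nat.card N) (χ ψ : Cfsg.IrrCharacter (G ⧸ N))
    (h : Cfsg.SameBlock M (irrInfl N χ : G → ℂ) (irrInfl N ψ : G → ℂ)) :
    Cfsg.SameBlock M (χ : G ⧸ N → ℂ) (ψ : G ⧸ N → ℂ) := by
  classical
  letI : Fintype (G ⧸ N) := Fintype.ofFinite _
  have hMm := hM.2.1
  intro x
  have hcl : Cfsg.IsClassFunction G (fun g : G => Helper81.classInd x (g : G ⧸ N)) := by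
    intro g k
    have := Helper81.classInd_isClassFunction x (g : G ⧸ N) (k : G ⧸ N)
    simpa using this
  have hloc : ∀ g : G, Cfsg.MemLocalRing M (Helper81.classInd x (g : G ⧸ N)) := by
    intro g
    unfold Helper81.classInd
    split_ifs
    · exact Helper77.memLocalRing_one hMm
    · exact Helper77.memLocalRing_zero hMm
  have h1 := Helper16.omega_sub_memLocalIdeal hMm (irrInfl N χ) (irrInfl N ψ) h hcl hloc
  rw [omega_irrInfl_classInd, omega_irrInfl_classInd, ← mul_sub] at h1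
  have h2 := Helper77.memLocalIdeal_mul hMm (Helper77.memLocalRing_natCast_inv hM hN) h1
  have hN0 : (Nat.card N : ℂ) ≠ 0 := by exact_mod_cast Nat.card_pos.ne'
  rwa [← mul_assoc, inv_mul_cancel₀ hN0, one_mul] at h2

/-- If `p ∤ |N|`, every irreducible character of `G` in the `p`-block of the inflation of `χ` is
the inflation of an irreducible character of `G ⧸ N` in the `p`-block of `χ`. -/
theorem exists_deflation_of_sameBlock (hM : Cfsg.IsPModular p M) (N : Subgroup G) [N.Normal]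
    (hN : ¬ p ∣ Nat.card N) (χ : Cfsg.IrrCharacter (G ⧸ N)) (ψ : Cfsg.IrrCharacter G)
    (h : Cfsg.SameBlock M (irrInfl N χ : G → ℂ) (ψ : G → ℂ)) :
    ∃ ψ' : Cfsg.IrrCharacter (G ⧸ N), irrInfl N ψ' = ψ ∧
      Cfsg.SameBlock M (χ : G ⧸ N → ℂ) (ψ' : G ⧸ N → ℂ) := by
  classical
  letI : Fintype N := Fintype.ofFinite N
  have hker := Helper81.apply_eq_one_of_sameBlock hM N hN h (fun n hn => by
    show (χ : G ⧸ N → ℂ) (n : G ⧸ N) = (χ : G ⧸ N → ℂ) ((1 : G) : G ⧸ N)
    rw [(QuotientGroup.eq_one_iff n).mpr hn]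
    rfl)
  obtain ⟨ψ₀, hψ₀irr, hψ₀⟩ := Helper79.exists_irr_deflation N ψ.2 hker
  have heq : irrInfl N ⟨ψ₀, hψ₀irr⟩ = ψ := Subtype.ext (funext hψ₀)
  refine ⟨⟨ψ₀, hψ₀irr⟩, heq, ?_⟩
  apply sameBlock_of_irrInfl hM N hN
  rw [heq]
  exact h

end inflate

end Cfsg.Agent.Helper76
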