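import Mathlib

/-!
# CALL LM (helper21, row S4067), piece X2 (helper76)
-/

set_option autoImplicit false

namespace Cfsg.Agent.Helper76.LM

open scoped commutatorElement

/-- X2: `p = 2`: a central involution outside `G'`, or a non-central `x` with `x² ≠ 1`, `x² ∈ G'`. -/
theorem lm_x2 {G : Type*} [Group G] [Finite G] (hZ : commutator G ≤ Subgroup.center G)
    (hc : Nat.card (commutator G) = 2) :
    (∃ c : G, c ∈ Subgroup.center G ∧ orderOf c = 2 ∧ c ∉ commutator G) ∨
      (∃ x : G, x ∉ Subgroup.center G ∧ x ^ 2 ∈ commutator G ∧ x ^ 2 ≠ 1) := by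
  by_cases hH : ∃ c : G, c ∈ Subgroup.center G ∧ orderOf c = 2 ∧ c ∉ commutator G
  · exact Or.inl hH
  right
  -- the elements of `G'` are `1` and `z`
  obtain ⟨z', hz'1, hz'u⟩ := (Nat.card_eq_two_iff' (1 : ↥(commutator G))).mp hc
  obtain ⟨z, hzG⟩ := z'
  have hz1 : z ≠ 1 := fun h => hz'1 (Subtype.ext h)
  have hG' : ∀ w ∈ commutator G, w = 1 ∨ w = z := by
    intro w hw
    by_cases hw1 : w = 1
    · exact Or.inl hw1
    · right
      have h1 := hz'u ⟨w, hw⟩ (fun h => hw1 (congrArg Subtype.val h))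
      exact congrArg Subtype.val h1
  have hzZ : z ∈ Subgroup.center G := hZ hzG
  have hzz : z * z = 1 := by
    have h1 : z * z ∈ commutator G := Subgroup.mul_mem _ hzG hzG
    rcases hG' _ h1 with h | h
    · exact h
    · exfalso
      apply hz1
      have h2 : z * z = z * 1 := by rw [h, mul_one]
      exact mul_left_cancel h2
  have hzinv : z⁻¹ = z := inv_eq_of_mul_eq_one_left hzz
  -- two elements commute up to `z`
  have hcomm : ∀ g h : G, g * h = h * g ∨ g * h = z * (h * g) := by
    intro g h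
    have h1 : g * h * g⁻¹ * h⁻¹ ∈ commutator G := by
      have h0 : ⁅g, h⁆ ∈ ⁅(⊤ : Subgroup G), ⊤⁆ :=
        Subgroup.commutator_mem_commutator (Subgroup.mem_top g) (Subgroup.mem_top h)
      rw [commutatorElement_def] at h0
      rw [commutator_def]
      exact h0
    have h3 : g * h = (g * h * g⁻¹ * h⁻¹) * (h * g) := by group
    rcases hG' _ h1 with h2 | h2
    · left
      rw [h2, one_mul] at h3
      exact h3
    · right
      rw [h2] at h3
      exact h3
  -- a non-commuting pair
  obtain ⟨a, b, hab⟩ : ∃ a b : G, a * b ≠ b * a := by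
    by_contra hall
    simp only [not_exists, not_not] at hall
    have hle : commutator G ≤ ⊥ := by
      rw [commutator_def, Subgroup.commutator_le]
      intro g _ h _
      rw [Subgroup.mem_bot, commutatorElement_def, hall g h]
      group
    exact hz1 (Subgroup.mem_bot.mp (hle hzG))
  have hzab : a * b = z * (b * a) := (hcomm a b).resolve_left hab
  have hzba : b * a = z * (a * b) := by
    rw [hzab, ← mul_assoc, hzz, one_mul]
  -- squares are central
  have hsqZ : ∀ g : G, g ^ 2 ∈ Subgroup.center G := by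
    intro g
    rw [Subgroup.mem_center_iff]
    intro h
    rcases hcomm g h with h1 | h1
    · calc h * g ^ 2 = (h * g) * g := by rw [pow_two, mul_assoc]
        _ = (g * h) * g := by rw [h1]
        _ = g * (h * g) := by rw [mul_assoc]
        _ = g * (g * h) := by rw [h1]
        _ = g ^ 2 * h := by rw [pow_two, mul_assoc]
    · have hg : h * g = z * (g * h) := by
        rw [h1, ← mul_assoc, hzz, one_mul]
      have hzg : g * z = z * g := Subgroup.mem_center_iff.mp hzZ g
      calc h * g ^ 2 = (h * g) * g := by rw [pow_two, mul_assoc]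
        _ = (z * (g * h)) * g := by rw [hg]
        _ = z * (g * (h * g)) := by simp only [mul_assoc]
        _ = z * (g * (z * (g * h))) := by rw [hg]
        _ = z * ((g * z) * (g * h)) := by simp only [mul_assoc]
        _ = z * ((z * g) * (g * h)) := by rw [hzg]
        _ = (z * z) * (g * g * h) := by simp only [mul_assoc]
        _ = g ^ 2 * h := by rw [hzz, one_mul, pow_two]
  -- the squaring map of the centre has a kernel of order `2`, so its image has index `2`
  suffices key : ∀ sq : ↥(Subgroup.center G) →* ↥(Subgroup.center G),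
      (∀ c : ↥(Subgroup.center G), ((sq c : ↥(Subgroup.center G)) : G) = (c : G) ^ 2) →
      ∃ x : G, x ∉ Subgroup.center G ∧ x ^ 2 ∈ commutator G ∧ x ^ 2 ≠ 1 by
    have hmul : ∀ c d : ↥(Subgroup.center G), (c * d) ^ 2 = c ^ 2 * d ^ 2 := by
      intro c d
      have hcd : Commute c d := Subtype.ext (Subgroup.mem_center_iff.mp d.2 c.1)
      exact hcd.mul_pow 2
    exact key (MonoidHom.mk' (fun c : ↥(Subgroup.center G) => c ^ 2) hmul) (fun c => rfl)
  intro sq hsqa
  have hker : Nat.card sq.ker = 2 := by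
    have hzk : (⟨z, hzZ⟩ : ↥(Subgroup.center G)) ∈ sq.ker := by
      rw [MonoidHom.mem_ker]
      apply Subtype.ext
      rw [hsqa]
      show z ^ 2 = 1
      rw [pow_two, hzz]
    refine (Nat.card_eq_two_iff' (1 : ↥sq.ker)).mpr ⟨⟨⟨z, hzZ⟩, hzk⟩, ?_, ?_⟩
    · intro h
      exact hz1 (congrArg (fun y : ↥sq.ker => ((y : ↥(Subgroup.center G)) : G)) h)
    · intro y hy
      have hy2 : ((y : ↥(Subgroup.center G)) : G) ^ 2 = 1 := by
        have h1 := y.2
        rw [MonoidHom.mem_ker] at h1
        have h2 := congrArg (fun c : ↥(Subgroup.center G) => (c : G)) h1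
        simp only [hsqa] at h2
        exact h2
      have hy1 : ((y : ↥(Subgroup.center G)) : G) ≠ 1 := by
        intro h
        apply hy
        apply Subtype.ext
        apply Subtype.ext
        exact h
      have hord : orderOf ((y : ↥(Subgroup.center G)) : G) = 2 :=
        orderOf_eq_prime hy2 hy1
      have hyG : ((y : ↥(Subgroup.center G)) : G) ∈ commutator G := by
        by_contra hn
        exact hH ⟨_, y.1.2, hord, hn⟩
      rcases hG' _ hyG with h | h
      · exact absurd h hy1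
      · apply Subtype.ext
        apply Subtype.ext
        exact h
  have hidx : sq.range.index = 2 := by
    have h1 := Subgroup.index_ker sq
    have h2 := Subgroup.index_mul_card sq.ker
    have h3 := Subgroup.index_mul_card sq.range
    rw [h1, hker] at h2
    have hpos : 0 < Nat.card sq.range := Nat.card_pos
    have h4 : sq.range.index * Nat.card sq.range = 2 * Nat.card sq.range := by
      rw [h3, ← h2, mul_comm]
    exact Nat.eq_of_mul_eq_mul_right hpos h4
  -- the finishing step
  have hfin : ∀ g : G, g ∉ Subgroup.center G →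
      (∃ c : ↥(Subgroup.center G), (c : G) ^ 2 = z * g ^ 2) →
      ∃ x : G, x ∉ Subgroup.center G ∧ x ^ 2 ∈ commutator G ∧ x ^ 2 ≠ 1 := by
    rintro g hg ⟨⟨c, hcZ⟩, hc2⟩
    have hc2' : c ^ 2 = z * g ^ 2 := hc2
    have hcg : c⁻¹ * g = g * c⁻¹ :=
      (Subgroup.mem_center_iff.mp (Subgroup.inv_mem _ hcZ) g).symm
    have hx2 : (g * c⁻¹) ^ 2 = z := by
      calc (g * c⁻¹) ^ 2 = g * (c⁻¹ * g) * c⁻¹ := by rw [pow_two]; simp only [mul_assoc]
        _ = g * (g * c⁻¹) * c⁻¹ := by rw [hcg]
        _ = g ^ 2 * (c ^ 2)⁻¹ := by rw [pow_two, pow_two, mul_inv_rev]; simp only [mul_assoc]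
        _ = g ^ 2 * (z * g ^ 2)⁻¹ := by rw [hc2']
        _ = z⁻¹ := by rw [mul_inv_rev, ← mul_assoc, mul_inv_cancel, one_mul]
        _ = z := hzinv
    refine ⟨g * c⁻¹, ?_, ?_, ?_⟩
    · intro hx
      apply hg
      have h1 : g = (g * c⁻¹) * c := by group
      rw [h1]
      exact Subgroup.mul_mem _ hx hcZ
    · rw [hx2]
      exact hzG
    · rw [hx2]
      exact hz1
  -- `a`, `b`, `a * b` are not central
  have haZ : a ∉ Subgroup.center G := fun h => hab (Subgroup.mem_center_iff.mp h b).symm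
  have hbZ : b ∉ Subgroup.center G := fun h => hab (Subgroup.mem_center_iff.mp h a)
  have habZ : a * b ∉ Subgroup.center G := by
    intro h
    have h1 := Subgroup.mem_center_iff.mp h a
    rw [mul_assoc] at h1
    exact hab (mul_left_cancel h1)
  have hab2 : (a * b) ^ 2 = z * (a ^ 2 * b ^ 2) := by
    have hza : a * z = z * a := Subgroup.mem_center_iff.mp hzZ a
    calc (a * b) ^ 2 = a * (b * a) * b := by rw [pow_two]; simp only [mul_assoc]
      _ = a * (z * (a * b)) * b := by rw [hzba]
      _ = (a * z) * (a * b * b) := by simp only [mul_assoc]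
      _ = (z * a) * (a * b * b) := by rw [hza]
      _ = z * (a ^ 2 * b ^ 2) := by rw [pow_two, pow_two]; simp only [mul_assoc]
  -- index two: one of `z a²`, `z b²`, `a² b²` is a square of a central element
  have hA := Subgroup.mul_mem_iff_of_index_two hidx
    (a := (⟨z, hzZ⟩ : ↥(Subgroup.center G))) (b := ⟨a ^ 2, hsqZ a⟩)
  have hB := Subgroup.mul_mem_iff_of_index_two hidx
    (a := (⟨z, hzZ⟩ : ↥(Subgroup.center G))) (b := ⟨b ^ 2, hsqZ b⟩)
  have hC := Subgroup.mul_mem_iff_of_index_two hidx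
    (a := (⟨a ^ 2, hsqZ a⟩ : ↥(Subgroup.center G))) (b := ⟨b ^ 2, hsqZ b⟩)
  have h3 : ((⟨z, hzZ⟩ : ↥(Subgroup.center G)) * ⟨a ^ 2, hsqZ a⟩ ∈ sq.range) ∨
      ((⟨z, hzZ⟩ : ↥(Subgroup.center G)) * ⟨b ^ 2, hsqZ b⟩ ∈ sq.range) ∨
      ((⟨a ^ 2, hsqZ a⟩ : ↥(Subgroup.center G)) * ⟨b ^ 2, hsqZ b⟩ ∈ sq.range) := by
    tauto
  rcases h3 with h | h | h
  · obtain ⟨c, hc⟩ := h
    refine hfin a haZ ⟨c, ?_⟩
    rw [← hsqa, hc]
    rfl
  · obtain ⟨c, hc⟩ := h
    refine hfin b hbZ ⟨c, ?_⟩
    rw [← hsqa, hc]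
    rfl
  · obtain ⟨c, hc⟩ := h
    refine hfin (a * b) habZ ⟨c, ?_⟩
    rw [← hsqa, hc, hab2, ← mul_assoc, hzz, one_mul]
    rfl

end Cfsg.Agent.Helper76.LM
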