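import Mathlib

set_option autoImplicit false

namespace Cfsg.Agent.Helper76

theorem no_transposition {G Ω : Type*} [Group G] [Finite G] [MulAction G Ω] [FaithfulSMul G Ω]
    [Fintype Ω] [DecidableEq Ω] (p : ℕ) (hp : p.Prime) (hΩ : Fintype.card Ω = p) (P : Sylow p G)
    (hN : 2 * Nat.card ↥(Subgroup.normalizer ((P : Subgroup G) : Set G)) = p * (p - 1))
    (h2 : MulAction.IsMultiplyPretransitive G Ω 2) (α β : Ω) (hαβ : α ≠ β) (g : G)
    (hgα : g • α = β) (hgβ : g • β = α) (hfix : ∀ x : Ω, x ≠ α → x ≠ β → g • x = x) : False := by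
  classical
  have : Fact p.Prime := ⟨hp⟩
  have hp2 : 2 ≤ p := hp.two_le
  have h2' : ∀ {a b c d : Ω}, a ≠ b → c ≠ d → ∃ g : G, g • a = c ∧ g • b = d :=
    fun {a b c d} => MulAction.is_two_pretransitive_iff.mp h2
  have hinj : Function.Injective (MulAction.toPermHom G Ω) := MulAction.toPerm_injective
  have hswap : MulAction.toPermHom G Ω g = Equiv.swap α β := by
    ext x
    rw [MulAction.toPermHom_apply, MulAction.toPerm_apply]
    by_cases hxα : x = α
    · subst hxα; rw [Equiv.swap_apply_left]; exact hgα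
    by_cases hxβ : x = β
    · subst hxβ; rw [Equiv.swap_apply_right]; exact hgβ
    · rw [Equiv.swap_apply_of_ne_of_ne hxα hxβ]; exact hfix x hxα hxβ
  have hsurj : Function.Surjective (MulAction.toPermHom G Ω) := by
    rw [← MonoidHom.range_eq_top, eq_top_iff, ← Equiv.Perm.closure_isSwap, Subgroup.closure_le]
    rintro σ ⟨a, b, hab, rfl⟩
    obtain ⟨k, hka, hkb⟩ := h2' hαβ hab
    refine ⟨k * g * k⁻¹, ?_⟩
    rw [map_mul, map_mul, hswap, map_inv, ← Equiv.swap_apply_apply]
    simp [hka, hkb]
  have hcard : Nat.card G = p.factorial := by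
    rw [Nat.card_congr (Equiv.ofBijective _ ⟨hinj, hsurj⟩), Nat.card_eq_fintype_card,
      Fintype.card_perm, hΩ]
  have hsyl := card_sylow_modEq_one p G
  have hidxP : Nat.card (Sylow p G)
      = (Subgroup.normalizer ((P : Subgroup G) : Set G)).index := Sylow.card_eq_index_normalizer P
  rw [hidxP] at hsyl
  have hidx := Subgroup.card_mul_index (Subgroup.normalizer ((P : Subgroup G) : Set G))
  rw [hcard] at hidx
  obtain ⟨m, rfl⟩ : ∃ m, p = m + 2 := ⟨p - 2, by omega⟩
  have hidx' : (Subgroup.normalizer ((P : Subgroup G) : Set G)).index = 2 * m.factorial := by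
    have e1 : (m + 2).factorial = (m + 2) * (m + 1) * m.factorial := by
      rw [Nat.factorial_succ, Nat.factorial_succ]; ring
    have e2 : m + 2 - 1 = m + 1 := rfl
    rw [e2] at hN
    have h3 : (m + 2) * (m + 1) * (Subgroup.normalizer ((P : Subgroup G) : Set G)).index
        = (m + 2) * (m + 1) * (2 * m.factorial) := by
      calc (m + 2) * (m + 1) * (Subgroup.normalizer ((P : Subgroup G) : Set G)).index
          = 2 * (Nat.card ↥(Subgroup.normalizer ((P : Subgroup G) : Set G))
              * (Subgroup.normalizer ((P : Subgroup G) : Set G)).index) := by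
            rw [← hN]; ring
        _ = 2 * ((m + 2) * (m + 1) * m.factorial) := by rw [hidx, e1]
        _ = (m + 2) * (m + 1) * (2 * m.factorial) := by ring
    exact Nat.eq_of_mul_eq_mul_left (by positivity) h3
  rw [hidx'] at hsyl
  have hw := ZMod.wilsons_lemma (p := m + 2)
  have e3 : (m + 2 - 1).factorial = (m + 1) * m.factorial := Nat.factorial_succ m
  rw [e3] at hw
  push_cast at hw
  have hm1 : ((m : ZMod (m + 2)) + 1) = -1 := by
    have h0 : ((m + 2 : ℕ) : ZMod (m + 2)) = 0 := ZMod.natCast_self _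
    push_cast at h0
    linear_combination h0
  rw [hm1] at hw
  have hfac : (m.factorial : ZMod (m + 2)) = 1 := by
    linear_combination (-1 : ZMod (m + 2)) * hw
  have h21 : ((2 * m.factorial : ℕ) : ZMod (m + 2)) = ((1 : ℕ) : ZMod (m + 2)) :=
    (ZMod.natCast_eq_natCast_iff _ _ _).mpr hsyl
  push_cast at h21
  rw [hfac] at h21
  have h10 : (1 : ZMod (m + 2)) = 0 := by linear_combination h21
  exact one_ne_zero h10

end Cfsg.Agent.Helper76
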