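import Mathlib
import Cfsg.Prelude.Def_GeometricClasses
import Cfsg.Prelude.Def_Classical
import Cfsg.Agent.Helper34.HTHFIX
import Cfsg.Agent.Helper47.HTHTIB

/-!
# Sub-CALL OB (helper65), piece CD (helper76)
-/

set_option autoImplicit false

namespace Cfsg.Agent.Helper76.OB

open Module Cfsg Cfsg.Geo

section geo

variable {ι : Type} [Fintype ι] [DecidableEq ι] {F : Type*} [Field F] [Fintype F]

/-- CD: a totally singular subspace of `range (T - 1)` has at most half its dimension. -/
theorem ob_cd (Q : (ι → F) → F) (hQ : IsNondegenerateQuadraticForm Q)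
    (T : Module.End F (ι → F)) (hT : ∀ v, Q (T v) = Q v) (r : ℕ) (hrF : (r : F) ≠ 0)
    (hTr : T ^ r = 1) (W : Submodule F (ι → F)) (hW0 : ∀ w ∈ W, Q w = 0)
    (hW : W ≤ LinearMap.range (T - 1)) :
    2 * finrank F W ≤ finrank F (LinearMap.range (T - 1)) := by
  have hh : Cfsg.Agent.Helper90.HT.IsHerm (RingHom.id F) (QuadraticMap.polar Q) :=
    { add_left := fun u u' v => hQ.polar_bilinear.add_left u u' v
      smul_left := fun a u v => hQ.polar_bilinear.smul_left a u v
      symm := fun u v => QuadraticMap.polar_comm Q v u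
      invol := fun _ => rfl }
  have hnd : ∀ v : ι → F, (∀ w, QuadraticMap.polar Q v w = 0) → v = 0 := by
    intro v hv
    by_contra h0
    obtain ⟨x, hx⟩ := (hQ.nondegenerate v h0).2
    exact hx (hv x)
  have hpres : Cfsg.Agent.Helper90.HT.HPres (QuadraticMap.polar Q) T := by
    intro u v
    rw [QuadraticMap.polar, QuadraticMap.polar, ← map_add, hT, hT, hT]
  have hfix := Cfsg.Agent.Helper34.HT5953.ht_fix (RingHom.id F) (QuadraticMap.polar Q) hh hnd T
    hpres r hrF hTr
  have hC : Cfsg.Agent.Helper90.HT.HNondegOn (QuadraticMap.polar Q) (LinearMap.range (T - 1)) :=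
    hfix.2.2.2.2.2
  have hTI : Cfsg.Agent.Helper90.HT.HTI (QuadraticMap.polar Q) W := by
    intro u hu v hv
    rw [QuadraticMap.polar, hW0 _ (W.add_mem hu hv), hW0 u hu, hW0 v hv]
    simp
  exact Cfsg.Agent.Helper47.HT5953.ht_bound (RingHom.id F) (QuadraticMap.polar Q) hh
    (LinearMap.range (T - 1)) W hC hW hTI

end geo

end Cfsg.Agent.Helper76.OB
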