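import Mathlib
import Cfsg.Agent.Helper21.PEDefs

/-!
# helper76: CALL S2276 (helper21), PIECE REALA — `m ≥ 2` cycles of length `p^c`, `p ∤ m`,
realised against the `n`-cycle by an interval rotation.
-/

set_option autoImplicit false

open Equiv Cfsg.Agent.Helper21.PE

namespace Cfsg.Agent.Helper76.PEREALA

/-- the `n`-cycle away from the last point -/
theorem finRotate_val_of_lt {n : ℕ} (x : Fin n) (h : x.val + 1 < n) :
    (finRotate n x).val = x.val + 1 := by
  cases n with
  | zero => exact absurd h (by omega)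
  | succ k =>
    rw [coe_finRotate_of_ne_last]
    intro hx
    rw [hx] at h
    simp at h

theorem pe_reala : ShiftStmt → Comm3Stmt → CertStmt → RotStmt → GlueStmt → RealAStmt := by
  intro hS hC hCert hRot hGlue p n a c m hp hp3 hn hc hm hpm hlt
  obtain ⟨l, hldef⟩ : ∃ l : ℕ, l = p ^ c := ⟨_, rfl⟩
  rw [← hldef] at hlt ⊢
  have hppos : 0 < p := hp.pos
  have hl3 : 3 ≤ l := by
    rw [hldef]
    calc 3 ≤ p := hp3
      _ = p ^ 1 := (pow_one p).symm
      _ ≤ p ^ c := Nat.pow_le_pow_right hppos hc
  have hcop : Nat.Coprime m l := by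
    rw [hldef]
    exact Nat.Coprime.pow_right c ((Nat.Prime.coprime_iff_not_dvd hp).mpr hpm).symm
  -- the exponent `e`: `m ∣ e`, `l ∣ e + 1`, `e < m * l`
  obtain ⟨e, hedef⟩ : ∃ e : ℕ, e = (Nat.chineseRemainder hcop 0 (l - 1) : ℕ) := ⟨_, rfl⟩
  have he1 : e ≡ 0 [MOD m] := by
    rw [hedef]
    exact (Nat.chineseRemainder hcop 0 (l - 1)).2.1
  have he2 : e ≡ l - 1 [MOD l] := by
    rw [hedef]
    exact (Nat.chineseRemainder hcop 0 (l - 1)).2.2
  have helt : e < m * l := by
    rw [hedef]
    exact Nat.chineseRemainder_lt_mul hcop 0 (l - 1) (by omega) (by omega)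
  have hme : m ∣ e := (Nat.modEq_zero_iff_dvd).mp he1
  have hle : l ∣ e + 1 := by
    have h1 : e + 1 ≡ l - 1 + 1 [MOD l] := Nat.ModEq.add_right 1 he2
    have h2 : l - 1 + 1 = l := by omega
    rw [h2] at h1
    have h3 : e + 1 ≡ 0 [MOD l] := h1.trans (by simp [Nat.ModEq])
    exact (Nat.modEq_zero_iff_dvd).mp h3
  obtain ⟨f, hf⟩ := hle
  have hepos : 0 < e := by
    rcases Nat.eq_zero_or_pos e with h0 | h0
    · exfalso
      rw [h0] at hf
      have : l ∣ 1 := ⟨f, hf⟩
      have := Nat.le_of_dvd one_pos this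
      omega
    · exact h0
  have hmf : ¬ m ∣ f := by
    intro h
    have h1 : m ∣ l * f := Dvd.dvd.mul_left h l
    rw [← hf] at h1
    have h2 : m ∣ 1 := (Nat.dvd_add_right hme).mp h1
    have := Nat.le_of_dvd one_pos h2
    omega
  have hpe : ¬ p ∣ e := by
    intro h
    have h1 : p ∣ l := by
      rw [hldef]
      exact dvd_pow_self p (by omega)
    have h2 : p ∣ e + 1 := by
      rw [hf]
      exact Dvd.dvd.mul_right h1 f
    have h3 : p ∣ 1 := (Nat.dvd_add_right h).mp h2
    have := Nat.le_of_dvd one_pos h3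
    omega
  have hgcd : Nat.gcd e (m * l) = m := by
    rw [Nat.Coprime.gcd_mul e hcop, Nat.gcd_eq_right hme]
    have : Nat.Coprime e l := by
      rw [hldef]
      exact Nat.Coprime.pow_right c ((Nat.Prime.coprime_iff_not_dvd hp).mpr hpe).symm
    rw [this, mul_one]
  have htpos : 0 < m * l := Nat.mul_pos (by omega) (by omega)
  -- the rotation on `Fin (m * l)`
  obtain ⟨R, hR1, hR2⟩ := hRot (m * l) e htpos (fun h => by
    have := Nat.le_of_dvd hepos h
    omega)
  rw [hgcd, Nat.mul_div_cancel_left l (by omega : 0 < m)] at hR2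
  -- glue with the identity
  obtain ⟨d, rfl⟩ : ∃ d : ℕ, n = m * l + d := ⟨n - m * l, by omega⟩
  obtain ⟨h, hh1, hh2, hh3⟩ := hGlue (m * l) d R 1
  have hhlow : ∀ x : Fin (m * l + d), x.val < m * l → (h x).val = (x.val + e) % (m * l) := by
    intro x hx
    have h1 : x = Fin.castAdd d ⟨x.val, hx⟩ := Fin.ext rfl
    have h2 := hh2 ⟨x.val, hx⟩
    rw [← h1] at h2
    rw [h2, hR1]
  have hhhigh : ∀ x : Fin (m * l + d), m * l ≤ x.val → h x = x := by
    intro x hx
    have h1 : x = Fin.natAdd (m * l) ⟨x.val - m * l, by have := x.2; omega⟩ := by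
      apply Fin.ext
      simp only [Fin.natAdd_mk]
      omega
    apply Fin.ext
    rw [h1, hh3]
    simp only [Perm.coe_one, id_eq, Fin.natAdd_mk]
  refine ⟨h, ?_, ?_, ?_⟩
  · rw [hh1, hR2, Perm.cycleType_one, add_zero]
  · -- not a `p`-element: the point `1` has period dividing `m`
    have h1n : 1 < m * l + d := by nlinarith
    have hρ : ∀ (y : Fin (m * l + d)) (j : ℕ), j < m → y.val = 1 + j * l →
        ((finRotate (m * l + d) * h) y).val = 1 + ((j + f) % m) * l := by
      intro y j hj hy
      have hylt : y.val < m * l := by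
        rw [hy]
        nlinarith
      have h2 : (h y).val = ((j + f) % m) * l := by
        rw [hhlow y hylt, hy]
        have h3 : 1 + j * l + e = l * (j + f) := by
          have : 1 + j * l + e = j * l + (e + 1) := by ring
          rw [this, hf]
          ring
        rw [h3, mul_comm m l, Nat.mul_mod_mul_left, mul_comm]
      have h4 : (j + f) % m < m := Nat.mod_lt _ (by omega)
      have h5 : (h y).val + 1 < m * l + d := by
        rw [h2]
        nlinarith
      rw [Perm.mul_apply, finRotate_val_of_lt _ h5, h2]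
      omega
    have hpow : ∀ i : ℕ, (((finRotate (m * l + d) * h) ^ i) ⟨1, h1n⟩).val
        = 1 + ((i * f) % m) * l := by
      intro i
      induction i with
      | zero => simp
      | succ i ih =>
        rw [pow_succ', Perm.mul_apply, hρ _ ((i * f) % m) (Nat.mod_lt _ (by omega)) ih,
          Nat.mod_add_mod]
        congr 3
        ring
    apply hCert p (Fin (m * l + d)) (finRotate (m * l + d) * h) ⟨1, h1n⟩ m hp
      ((Nat.Prime.coprime_iff_not_dvd hp).mpr hpm).symm
    · apply Fin.ext
      rw [hpow m, Nat.mul_mod_right]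
      simp
    · intro hfix
      have h2 := hpow 1
      rw [pow_one, hfix, one_mul] at h2
      simp only at h2
      have h3 : f % m * l = 0 := by omega
      rcases Nat.mul_eq_zero.mp h3 with h4 | h4
      · exact hmf (Nat.dvd_of_mod_eq_zero h4)
      · omega
  · -- not solvable: COMM3 + SHIFT
    have hRotOn : RotOn (m * l + d) 0 (m * l) e h := by
      refine ⟨?_, ?_⟩
      · intro x _ hx
        rw [zero_add] at hx
        rw [hhlow x hx]
        simp
      · rintro x (hx | hx)
        · omega
        · rw [zero_add] at hx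
          exact hhhigh x hx
    have hs : 0 + m * l < m * l + d := by omega
    obtain ⟨h3c, hsupp⟩ := hC (m * l + d) 0 (m * l) e h hs hepos helt hRotOn
    have hσ : finRotate (m * l + d) ∈
        Subgroup.closure ({finRotate (m * l + d), h} : Set (Perm (Fin (m * l + d)))) :=
      Subgroup.subset_closure (by simp)
    have hτ : h ∈ Subgroup.closure ({finRotate (m * l + d), h} : Set (Perm (Fin (m * l + d)))) :=
      Subgroup.subset_closure (by simp)
    have hθ : finRotate (m * l + d) * h * (finRotate (m * l + d))⁻¹ * h⁻¹ ∈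
        Subgroup.closure ({finRotate (m * l + d), h} : Set (Perm (Fin (m * l + d)))) :=
      Subgroup.mul_mem _ (Subgroup.mul_mem _ (Subgroup.mul_mem _ hσ hτ) (Subgroup.inv_mem _ hσ))
        (Subgroup.inv_mem _ hτ)
    have hn5 : 5 ≤ m * l + d := by nlinarith
    have hodd : Odd (m * l + d) := by
      rw [hn]
      apply Odd.pow
      rcases hp.eq_two_or_odd' with h2 | h2
      · omega
      · exact h2
    refine hS (m * l + d) _ _ ⟨0, by omega⟩ ⟨0 + e, by omega⟩ ⟨0 + m * l, hs⟩ hn5 hodd hσ hθ h3c
      ?_ ?_ hsupp ?_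
    · rw [Fin.lt_def]
      simp only
      omega
    · rw [Fin.lt_def]
      simp only
      omega
    · simp only
      rintro ⟨h4, -⟩
      -- `2 e = m l` contradicts `l ∣ e + 1`, `l ≥ 3`
      have h5 : 2 * e = m * l := by omega
      have h6 : l ∣ 2 * (e + 1) := Dvd.dvd.mul_left ⟨f, hf⟩ 2
      have h7 : 2 * (e + 1) = m * l + 2 := by omega
      rw [h7] at h6
      have h8 : l ∣ 2 := (Nat.dvd_add_right (Dvd.intro_left m rfl)).mp h6
      have := Nat.le_of_dvd (by norm_num) h8
      omega

end Cfsg.Agent.Helper76.PEREALA
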