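import Mathlib
import Cfsg.Agent.Helper21.PEDefs

/-!
# helper76: CALL S2276 (helper21), PIECE V2NS — non-solvability for the V2 construction.
-/

set_option autoImplicit false

open Equiv Cfsg.Agent.Helper21.PE

namespace Cfsg.Agent.Helper76.PEV2NS

/-- powers of `τ` on the first block (rotation by `-1` on `[0, s)`) -/
theorem pow_first {n s : ℕ} (hs : 0 < s) (τ : Perm (Fin n))
    (h1 : ∀ x : Fin n, x.val < s → (τ x).val = (x.val + (s - 1)) % s) (k : ℕ) (x : Fin n)
    (hx : x.val < s) : ((τ ^ k) x).val = (x.val + k * (s - 1)) % s := by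
  induction k with
  | zero => simp [Nat.mod_eq_of_lt hx]
  | succ k ih =>
    have hlt : ((τ ^ k) x).val < s := by
      rw [ih]
      exact Nat.mod_lt _ hs
    rw [pow_succ', Perm.mul_apply, h1 _ hlt, ih, Nat.mod_add_mod]
    congr 1
    ring

/-- powers of `τ` on the second block (rotation by `m` on `[s, s + t)`) -/
theorem pow_second {n s t m : ℕ} (ht : 0 < t) (τ : Perm (Fin n))
    (h2 : ∀ x : Fin n, s ≤ x.val → x.val < s + t → (τ x).val = s + (x.val - s + m) % t) (k : ℕ)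
    (x : Fin n) (hx1 : s ≤ x.val) (hx2 : x.val < s + t) :
    ((τ ^ k) x).val = s + (x.val - s + k * m) % t := by
  induction k with
  | zero =>
    have : (x.val - s) % t = x.val - s := Nat.mod_eq_of_lt (by omega)
    simp [this]
    omega
  | succ k ih =>
    have hlt : (x.val - s + k * m) % t < t := Nat.mod_lt _ ht
    rw [pow_succ', Perm.mul_apply, h2 _ (by rw [ih]; omega) (by rw [ih]; omega), ih,
      Nat.add_sub_cancel_left, Nat.mod_add_mod]
    congr 2
    ring

theorem pe_v2ns : Comm3Stmt → ShiftStmt → V2NsStmt := by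
  intro hC hS p n a b c m τ hp hp3 hn hc hcb hm hlt h1 h2 h3
  obtain ⟨s, hsdef⟩ : ∃ s : ℕ, s = p ^ c := ⟨_, rfl⟩
  obtain ⟨t, htdef⟩ : ∃ t : ℕ, t = m * p ^ b := ⟨_, rfl⟩
  obtain ⟨r, hrdef⟩ : ∃ r : ℕ, r = p ^ (b - 1) * m := ⟨_, rfl⟩
  rw [← hsdef] at h1
  rw [← hsdef, ← htdef] at h2 h3 hlt
  have hppos : 0 < p := hp.pos
  have hspos : 0 < s := by rw [hsdef]; exact Nat.pow_pos hppos
  have hpb : p ^ b = p ^ (b - 1) * p := by
    rw [← pow_succ]
    congr 1
    omega
  have hpb1 : 0 < p ^ (b - 1) := Nat.pow_pos hppos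
  have htpos : 0 < t := by
    rw [htdef]
    exact Nat.mul_pos hm (Nat.pow_pos hppos)
  have hrpos : 0 < r := by
    rw [hrdef]
    exact Nat.mul_pos hpb1 hm
  have htr : t = r * p := by
    rw [htdef, hrdef, hpb]
    ring
  have hrt : r < t := by
    rw [htr]
    nlinarith
  have hsdvd : s ∣ p ^ (b - 1) := by
    rw [hsdef]
    exact Nat.pow_dvd_pow p (by omega)
  -- `τ' = τ ^ (p ^ (b - 1))` is an interval rotation
  have hRot : RotOn n s t r (τ ^ (p ^ (b - 1))) := by
    refine ⟨?_, ?_⟩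
    · intro x hx1 hx2
      rw [pow_second htpos τ h2 _ x hx1 hx2, hrdef]
    · rintro x (hx | hx)
      · apply Fin.ext
        rw [pow_first hspos τ h1 _ x hx]
        obtain ⟨q, hq⟩ := hsdvd
        rw [hq, mul_assoc, Nat.add_mul_mod_self_left, Nat.mod_eq_of_lt hx]
      · exact h3 x hx
  obtain ⟨h3c, hsupp⟩ := hC n s t r (τ ^ (p ^ (b - 1))) hlt hrpos hrt hRot
  -- apply SHIFT
  have hσ : finRotate n ∈ Subgroup.closure ({finRotate n, τ} : Set (Perm (Fin n))) :=
    Subgroup.subset_closure (by simp)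
  have hτ : τ ∈ Subgroup.closure ({finRotate n, τ} : Set (Perm (Fin n))) :=
    Subgroup.subset_closure (by simp)
  have hτ' := Subgroup.pow_mem _ hτ (p ^ (b - 1))
  have hθ : finRotate n * τ ^ (p ^ (b - 1)) * (finRotate n)⁻¹ * (τ ^ (p ^ (b - 1)))⁻¹ ∈
      Subgroup.closure ({finRotate n, τ} : Set (Perm (Fin n))) :=
    Subgroup.mul_mem _ (Subgroup.mul_mem _ (Subgroup.mul_mem _ hσ hτ') (Subgroup.inv_mem _ hσ))
      (Subgroup.inv_mem _ hτ')
  have hs3 : 3 ≤ s := by
    rw [hsdef]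
    calc 3 ≤ p := hp3
      _ = p ^ 1 := (pow_one p).symm
      _ ≤ p ^ c := Nat.pow_le_pow_right hppos hc
  have hn5 : 5 ≤ n := by omega
  have hodd : Odd n := by
    rw [hn]
    apply Odd.pow
    rcases hp.eq_two_or_odd' with h | h
    · omega
    · exact h
  refine hS n _ _ ⟨s, by omega⟩ ⟨s + r, by omega⟩ ⟨s + t, hlt⟩ hn5 hodd hσ hθ h3c ?_ ?_ hsupp ?_
  · rw [Fin.lt_def]
    simp only
    omega
  · rw [Fin.lt_def]
    simp only
    omega
  · simp only
    rintro ⟨h4, -⟩
    have h5 : s + r - s = r := by omega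
    have h6 : s + t - (s + r) = r * p - r := by rw [htr]; omega
    rw [h5, h6] at h4
    have h7 : r * p = r * 2 := by
      have : r ≤ r * p := Nat.le_mul_of_pos_right r hppos
      omega
    have h8 : p = 2 := Nat.eq_of_mul_eq_mul_left hrpos h7
    omega

end Cfsg.Agent.Helper76.PEV2NS
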