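import Cfsg.Agent.Helper62.PKDefs
import Cfsg.Agent.S1352
import Cfsg.Agent.S1372
import Cfsg.Agent.Helper23.Trans

/-!
# CALL PK, piece D2: if `|K|` is not prime then `M = M_σ K`
-/

set_option autoImplicit false

namespace Cfsg.Agent.Helper76

open Cfsg Subgroup Cfsg.Agent.Helper62

universe u

variable {G : Type u} [Group G] [Finite G]

/-- D2. If `|K|` is not prime then `M = M_σ K`. -/
theorem pk_sup_of_not_prime (hG : IsMinSimpleOddOrder G) {M K : Subgroup G} (c : PKCtx M K)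
    (hnp : ¬ (Nat.card K).Prime) :
    ∀ m ∈ M, ∃ n ∈ sigmaCore M, ∃ k ∈ K, m = n * k := by
  obtain ⟨U, hKU⟩ := (Cfsg.Agent.S1352.result hG M c.coatom K c.cyclic c.hall).1
  have hU : U = ⊥ := by
    by_contra hU1
    exact hnp (Cfsg.Agent.S1372.result hG M c.coatom K U hKU c.ne hU1).1
  have hKM : K ≤ M := c.hall.1
  have hKN : K ≤ normalizer (sigmaCore M : Set G) :=
    hKM.trans (Cfsg.Agent.Helper23.le_normalizer_piCoreOf (sigma M) M)
  intro m hm
  obtain ⟨a, ha, b, hb, hmab⟩ := hKU.compl.2.2.2 m hm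
  rw [hU, Subgroup.mem_bot] at ha
  have hb' : b ∈ (↑(sigmaCore M ⊔ K) : Set G) := by
    rw [sup_comm]; exact hb
  rw [Subgroup.coe_mul_of_right_le_normalizer_left (sigmaCore M) K hKN, Set.mem_mul] at hb'
  obtain ⟨n, hn, k, hk, hnk⟩ := hb'
  exact ⟨n, hn, k, hk, by rw [hmab, ha, one_mul, hnk]⟩

end Cfsg.Agent.Helper76
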