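import Cfsg.Agent.Helper62.PKDefs
import Cfsg.Agent.Helper24.BG13V
import Cfsg.Agent.Helper47.BG14RK
import Cfsg.Agent.Helper22.BG12b
import Cfsg.Agent.S1378
import Cfsg.Agent.S1403

/-!
# CALL PK, piece O1: a maximal subgroup `H` over `N_G(T)`, `T ≤ K` of prime order
-/

set_option autoImplicit false

namespace Cfsg.Agent.Helper76

open Cfsg Subgroup Cfsg.Agent.Helper62

universe u

variable {G : Type u} [Group G] [Finite G]

/-- O1. A maximal subgroup `H` over `N_G(T)`, `T ≤ K` of prime order. -/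
theorem pk_over_basic (hG : IsMinSimpleOddOrder G) {M K H T : Subgroup G}
    (o : PKOwn M K H T)
    (hS1 : pkS M K ≠ ⊥) (hKσ : K ⊓ sigmaCore M = ⊥) (hKM : K ≤ M)
    (hκ : ∀ q : ℕ, q.Prime → q ∣ Nat.card K → q ∈ kappa M)
    (hcentT : sigmaCore M ⊓ centralizer (T : Set G) = pkS M K) :
    Nat.card T ∈ sigma H ∧ T ≤ sigmaCore H ∧
      (∀ g : G, H ≠ M.map (MulAut.conj g).toMonoidHom) ∧
      (∀ q : ℕ, q ∈ sigma M → q ∉ sigma H) ∧ pkZ M K ≤ H ∧
      (∀ T0 : Subgroup G, T0 ≤ pkS M K → (Nat.card T0).Prime →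
        normalizer (T0 : Set G) ≤ M) := by
  have hU : Cfsg.Agent.Helper22.BGUniq G :=
    fun K hK h1 h2 => Cfsg.Agent.S1403.result hG K hK h1 h2
  have hℓ : (Nat.card T).Prime := o.Tprime
  have hℓκ : Nat.card T ∈ kappa M := hκ _ hℓ (Subgroup.card_dvd_of_le o.TK)
  have hℓσ : Nat.card T ∉ sigma M := hℓκ.2.2.1
  have hp1 : PRankLE (Nat.card T) 1 ↥M := Cfsg.Agent.Helper47.bg14_rank_of_kappa hℓκ
  have hTM : T ≤ M := o.TK.trans hKM
  have hD : sigmaCore M ⊓ centralizer (T : Set G) ≠ ⊥ := by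
    rw [hcentT]; exact hS1
  have h1 : Nat.card T ∈ sigma H :=
    Cfsg.Agent.Helper24.bg13u_over_sigma hG o.ctx.coatom hℓ hℓσ hp1 hTM rfl hD o.coatomH o.norm
  have hTH : T ≤ H := le_normalizer.trans o.norm
  have hTp : IsPGroup (Nat.card T) T := IsPGroup.of_card (n := 1) (by rw [pow_one])
  have h2 : T ≤ sigmaCore H :=
    Cfsg.Agent.Helper22.bg12_le_sigmaCore hG hU o.coatomH hℓ h1 hTH hTp
  have h3 : ∀ g : G, H ≠ M.map (MulAut.conj g).toMonoidHom :=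
    (Cfsg.Agent.Helper24.bg13u_nc_over hG hℓ hℓσ hp1 rfl o.coatomH o.norm).1
  have hcyc : IsCyclic K := o.ctx.cyclic
  have hKc : K ≤ centralizer (T : Set G) := by
    intro k hk
    rw [Subgroup.mem_centralizer_iff]
    intro t ht
    have hcomm : (⟨t, o.TK ht⟩ : K) * ⟨k, hk⟩ = ⟨k, hk⟩ * ⟨t, o.TK ht⟩ :=
      (IsCyclic.isMulCommutative (α := K)).is_comm.comm _ _
    exact congrArg Subtype.val hcomm
  have hSc : pkS M K ≤ centralizer (T : Set G) :=
    inf_le_right.trans (Subgroup.centralizer_le (show (T : Set G) ⊆ K from o.TK))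
  refine ⟨h1, h2, h3, ?_, ?_, ?_⟩
  · intro q hq hq'
    obtain ⟨g, hg⟩ := (Cfsg.Agent.S1378.result hG).2 M H o.ctx.coatom o.coatomH ⟨q, hq, hq'⟩
    exact h3 g hg
  · exact (sup_le hKc hSc).trans ((Subgroup.centralizer_le_normalizer _).trans o.norm)
  · intro T0 hT0 hT0p
    exact Cfsg.Agent.Helper24.bg13u_star_norm_le hG o.ctx.coatom hℓ hℓσ hp1 hTM rfl hT0p rfl
      (hT0.trans hcentT.ge)

end Cfsg.Agent.Helper76
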