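import Cfsg.Agent.Helper76.CentralChar
import Cfsg.Agent.Helper16.BlockCore
import Cfsg.Agent.Helper78.Counting
import Cfsg.Agent.Helper81.BlockKer
import Cfsg.Agent.Helper81.BlockDefect
import Cfsg.Agent.Helper15.CharInner
import Cfsg.Agent.Helper79.Linear
import Cfsg.Agent.Helper79.Quotient
import Cfsg.Agent.Helper79.Sep

/-!
# Kernels of the irreducible characters of degree prime to `p` (helper76)

`G` a finite group, `p` a prime.

* `irr_apply_eq_of_inf_centralizer_eq_bot`: if `D` is a `p`-subgroup, `N` a normal subgroup with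
  `C_N(D) = 1` and `χ` an irreducible character of degree prime to `p`, then `N ≤ ker χ`
  (fixed point congruence modulo `p`).
* `exists_linear_constituent`: a character of degree prime to `p` of a `p`-group has a linear
  constituent.
* `exists_eigenvector_of_isPGroup`: a `p`-subgroup has a common eigenvector in every representation
  of degree prime to `p`.
* `irr_apply_eq_of_le_sup_commutator`: if `N ≤ ker χ`, `χ` irreducible of degree prime to `p`, `D` a
  `p`-subgroup and `L` a normal subgroup with `L ≤ N ⊔ D'`, then `L ≤ ker χ`.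
* `exists_irr_ne_of_not_mem_commutator`: for `y ∈ P ∖ P'`, `P` a Sylow `p`-subgroup, some
  irreducible character of degree prime to `p` does not have `y` in its kernel.
* `inf_centralizer_eq_bot_of_forall_ker`: a subgroup `L` of order prime to `p` lying in the kernel of
  every irreducible character of degree prime to `p` satisfies `C_L(P) = 1`.
-/

set_option autoImplicit false
set_option linter.style.haveILetI false

namespace Cfsg.Agent.Helper76

open scoped ComplexConjugate commutatorElement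

universe u

section A

variable {G : Type u} [Group G] [Finite G] {p : ℕ} [Fact p.Prime]

/-- If `D` is a `p`-subgroup, `N` a normal subgroup with `C_N(D) = 1` and `χ` an irreducible
character of degree prime to `p`, then `N` is contained in the kernel of `χ`. -/
theorem irr_apply_eq_of_inf_centralizer_eq_bot (D : Subgroup G) (hD : IsPGroup p D)
    (N : Subgroup G) [N.Normal] (hN : N ⊓ Subgroup.centralizer (D : Set G) = ⊥)
    (χ : Cfsg.IrrCharacter G) (hχ : ¬ p ∣ Cfsg.charDegree (χ : G → ℂ)) :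
    ∀ n ∈ N, (χ : G → ℂ) n = (χ : G → ℂ) 1 := by
  classical
  letI : Fintype G := Fintype.ofFinite G
  obtain ⟨M, hM⟩ := Helper78.exists_isPModular p Fact.out
  have hMm := hM.2.1
  rcases Helper81.irr_sum_mul_normal χ N with h | h
  · exfalso
    have h0 : ∑ k : N, (χ : G → ℂ) (k : G) = 0 := by simpa using h 1
    set f : G → ℂ := fun x => if x ∈ N then (χ : G → ℂ) x else 0 with hf
    have hfS : ∀ x, Cfsg.MemLocalRing M (f x) := by
      intro x
      simp only [hf]
      split_ifs
      · exact Helper77.memLocalRing_of_isIntegral hMm (Helper81.irr_isIntegral χ x)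
      · exact Helper77.memLocalRing_zero hMm
    have hfinv : ∀ d ∈ D, ∀ x, f (d * x * d⁻¹) = f x := by
      intro d _ x
      simp only [hf]
      have hiff : d * x * d⁻¹ ∈ N ↔ x ∈ N := by
        constructor
        · intro hx
          have := ‹N.Normal›.conj_mem _ hx d⁻¹
          simpa [mul_assoc] using this
        · intro hx
          exact ‹N.Normal›.conj_mem _ hx d
      rw [Helper81.irr_conj]
      by_cases hx : x ∈ N
      · rw [if_pos hx, if_pos (hiff.mpr hx)]
      · rw [if_neg hx, if_neg (fun h' => hx (hiff.mp h'))]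
    have key := Helper16.sum_sub_sum_centralizer_memLocalIdeal hM D hD f hfS hfinv
    have e1 : ∑ x : G, f x = 0 := by
      rw [← h0]
      simp only [hf]
      rw [← Finset.sum_filter]
      exact Finset.sum_subtype (Finset.univ.filter (· ∈ N)) (by simp) _
    have e2 : ∑ x ∈ Finset.univ.filter (fun x : G => x ∈ Subgroup.centralizer (D : Set G)), f x
        = (χ : G → ℂ) 1 := by
      rw [Finset.sum_eq_single_of_mem 1 (by simp)]
      · simp [hf]
      · intro x hx hx1
        simp only [Finset.mem_filter, Finset.mem_univ, true_and] at hx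
        simp only [hf]
        rw [if_neg]
        intro hxN
        apply hx1
        have hmem : x ∈ N ⊓ Subgroup.centralizer (D : Set G) := ⟨hxN, hx⟩
        rw [hN] at hmem
        exact Subgroup.mem_bot.mp hmem
    rw [e1, e2, zero_sub] at key
    have key' := Helper77.memLocalIdeal_neg key
    rw [neg_neg, Helper81.irr_one_eq_charDegree] at key'
    exact Helper77.not_memLocalIdeal_natCast hM hχ key'
  · exact h

end A

section B

variable {p : ℕ} [Fact p.Prime]

/-- A character of degree prime to `p` of a finite `p`-group has a linear constituent. -/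
theorem exists_linear_constituent {P : Type u} [Group P] [Fintype P] (hP : IsPGroup p P)
    {ψ : P → ℂ} (hψ : Cfsg.IsCharacter P ψ) {d : ℕ} (hd : ψ 1 = d) (hpd : ¬ p ∣ d) :
    ∃ f : P →* ℂˣ, Cfsg.classInner ψ (fun x => (f x : ℂ)) ≠ 0 := by
  classical
  letI : Fintype (Cfsg.IrrCharacter P) := Fintype.ofFinite _
  have hsum := Helper15.classFun_eq_sum (Helper15.isClassFunction_of_isChar hψ)
  have hnat : ∀ μ : Cfsg.IrrCharacter P, ∃ n : ℕ, Cfsg.classInner ψ (μ : P → ℂ) = n :=
    fun μ => Helper15.inner_nat hψ (Helper15.isChar_of_irr μ.2)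
  choose n hn using hnat
  have h1 : (d : ℂ) = ∑ μ : Cfsg.IrrCharacter P,
      ((n μ * Cfsg.charDegree (μ : P → ℂ) : ℕ) : ℂ) := by
    rw [← hd]
    conv_lhs => rw [hsum]
    rw [Finset.sum_apply]
    apply Finset.sum_congr rfl
    intro μ _
    rw [Pi.smul_apply, smul_eq_mul, hn μ, Helper81.irr_one_eq_charDegree]
    push_cast
    ring
  have h2 : d = ∑ μ : Cfsg.IrrCharacter P, n μ * Cfsg.charDegree (μ : P → ℂ) := by
    exact_mod_cast h1
  have h3 : ∃ μ : Cfsg.IrrCharacter P, n μ ≠ 0 ∧ ¬ p ∣ Cfsg.charDegree (μ : P → ℂ) := by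
    by_contra hcon
    push Not at hcon
    apply hpd
    rw [h2]
    apply Finset.dvd_sum
    intro μ _
    by_cases h0 : n μ = 0
    · rw [h0, zero_mul]; exact dvd_zero p
    · exact Dvd.dvd.mul_left (hcon μ h0) _
  obtain ⟨μ, hμ0, hμp⟩ := h3
  have hdeg : Cfsg.charDegree (μ : P → ℂ) = 1 := by
    have hdvd := Helper81.charDegree_dvd_card μ
    obtain ⟨k, hk⟩ := IsPGroup.iff_card.mp hP
    rw [hk] at hdvd
    obtain ⟨j, -, hj⟩ := (Nat.dvd_prime_pow Fact.out).mp hdvd
    rw [hj] at hμp ⊢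
    cases j with
    | zero => rfl
    | succ j => exact absurd (dvd_pow_self p (Nat.succ_ne_zero j)) hμp
  have hμ1 : (μ : P → ℂ) 1 = 1 := by rw [Helper81.irr_one_eq_charDegree, hdeg]; simp
  obtain ⟨f, hf⟩ := Helper79.isCharacter_linear (Helper79.irr_isCharacter μ) hμ1
  refine ⟨f, ?_⟩
  have hfμ : (fun x => (f x : ℂ)) = (μ : P → ℂ) := funext fun x => (hf x).symm
  rw [hfμ, hn μ]
  exact_mod_cast hμ0

variable {G : Type u} [Group G] [Finite G]

/-- A `p`-subgroup has a common eigenvector in every complex representation of degree prime to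
`p`. -/
theorem exists_eigenvector_of_isPGroup {V : Type*} [AddCommGroup V] [Module ℂ V]
    [FiniteDimensional ℂ V] (ρ : Representation ℂ G V) (D : Subgroup G) (hD : IsPGroup p D)
    (hdim : ¬ p ∣ Module.finrank ℂ V) :
    ∃ v : V, v ≠ 0 ∧ ∃ f : D →* ℂˣ, ∀ x : D, ρ (x : G) v = (f x : ℂ) • v := by
  classical
  letI : Fintype G := Fintype.ofFinite G
  letI : Fintype D := Fintype.ofFinite D
  have hψ : Cfsg.IsCharacter D (fun x : D => ρ.character (x : G)) :=
    Helper79.isCharacter_restrict (Helper81.isCharacter_of_rep ρ) D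
  have hd : (fun x : D => ρ.character (x : G)) 1 = (Module.finrank ℂ V : ℕ) := by
    show ρ.character ((1 : D) : G) = _
    rw [Subgroup.coe_one, Representation.char_one]
  obtain ⟨f, hf⟩ := exists_linear_constituent hD hψ hd hdim
  set e : Module.End ℂ V := ∑ x : D, (conj (f x : ℂ)) • ρ (x : G) with he
  have htr : LinearMap.trace ℂ V e ≠ 0 := by
    rw [he, map_sum]
    intro h0
    apply hf
    unfold Cfsg.classInner
    rw [show ∑ g : D, (fun x : D => ρ.character (x : G)) g * conj ((fun x => (f x : ℂ)) g)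
        = ∑ x : D, (LinearMap.trace ℂ V) (conj (f x : ℂ) • ρ (x : G)) from ?_, h0, mul_zero]
    apply Finset.sum_congr rfl
    intro x _
    rw [map_smul, smul_eq_mul, mul_comm]
    rfl
  have he0 : e ≠ 0 := by
    intro h
    rw [h, map_zero] at htr
    exact htr rfl
  obtain ⟨w, hw⟩ : ∃ w, e w ≠ 0 := by
    by_contra hall
    push Not at hall
    exact he0 (LinearMap.ext hall)
  refine ⟨e w, hw, f, ?_⟩
  intro y
  have h1 : ρ (y : G) (e w) = ∑ x : D, (conj (f x : ℂ)) • ρ ((y * x : D) : G) w := by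
    rw [he, LinearMap.sum_apply, map_sum]
    apply Finset.sum_congr rfl
    intro x _
    rw [LinearMap.smul_apply, map_smul, Subgroup.coe_mul, map_mul]
    rfl
  rw [h1, ← Equiv.sum_comp (Equiv.mulLeft y⁻¹) (fun x : D => (conj (f x : ℂ)) • ρ ((y * x : D) : G) w)]
  have h2 : ∀ x : D, (conj (f ((Equiv.mulLeft y⁻¹) x) : ℂ)) • ρ ((y * (Equiv.mulLeft y⁻¹) x : D) : G) w
      = (f y : ℂ) • ((conj (f x : ℂ)) • ρ (x : G) w) := by
    intro x
    rw [Equiv.coe_mulLeft, mul_inv_cancel_left, smul_smul]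
    congr 1
    rw [map_mul, Units.val_mul, map_mul, Helper79.conj_hom_apply f y⁻¹, inv_inv]
  rw [Finset.sum_congr rfl (fun x _ => h2 x), ← Finset.smul_sum, he, LinearMap.sum_apply]
  rfl

end B

section C

variable {G : Type u} [Group G] [Finite G] {p : ℕ} [Fact p.Prime]

/-- If `χ` is irreducible of degree prime to `p` with `N ≤ ker χ`, `D` is a `p`-subgroup and `L` is a
normal subgroup with `L ≤ N ⊔ D'`, then `L ≤ ker χ`. -/
theorem irr_apply_eq_of_le_sup_commutator (D : Subgroup G) (hD : IsPGroup p D)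
    (χ : Cfsg.IrrCharacter G) (hχ : ¬ p ∣ Cfsg.charDegree (χ : G → ℂ))
    (N : Subgroup G) (hN : ∀ n ∈ N, (χ : G → ℂ) n = (χ : G → ℂ) 1)
    (L : Subgroup G) [L.Normal] (hL : L ≤ N ⊔ ⁅D, D⁆) :
    ∀ l ∈ L, (χ : G → ℂ) l = (χ : G → ℂ) 1 := by
  classical
  letI : Fintype G := Fintype.ofFinite G
  obtain ⟨n, ρ, hρ, hχρ⟩ := χ.2
  haveI := hρ
  have hn : Cfsg.charDegree (χ : G → ℂ) = n := by
    have h1 : (χ : G → ℂ) 1 = (n : ℂ) := by rw [← hχρ, Representation.char_one]; simp
    have h2 := Helper81.irr_one_eq_charDegree χ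
    rw [h1] at h2
    exact_mod_cast h2.symm
  have hdim : ¬ p ∣ Module.finrank ℂ (Fin n → ℂ) := by
    rw [Module.finrank_fin_fun]
    rwa [← hn]
  obtain ⟨v, hv, f, hf⟩ := exists_eigenvector_of_isPGroup ρ D hD hdim
  let S : Subgroup G :=
    { carrier := {g | ρ g v = v}
      mul_mem' := by
        intro a b ha hb
        show ρ (a * b) v = v
        rw [map_mul, Module.End.mul_apply, show ρ b v = v from hb, show ρ a v = v from ha]
      one_mem' := by
        show ρ 1 v = v
        rw [map_one]; rfl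
      inv_mem' := by
        intro a ha
        show ρ a⁻¹ v = v
        have h1 : ρ a⁻¹ (ρ a v) = v := by
          rw [← Module.End.mul_apply, ← map_mul, inv_mul_cancel, map_one]; rfl
        rwa [show ρ a v = v from ha] at h1 }
  have hNS : N ≤ S := by
    intro x hx
    show ρ x v = v
    have h1 : ρ x = 1 := Helper79.rep_eq_one_of_char_eq ρ x (by rw [hχρ]; exact hN x hx)
    rw [h1]; rfl
  have hDS : ⁅D, D⁆ ≤ S := by
    rw [Subgroup.commutator_le]
    intro a ha b hb
    show ρ ⁅a, b⁆ v = v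
    have ea : ρ a v = (f ⟨a, ha⟩ : ℂ) • v := hf ⟨a, ha⟩
    have eb : ρ b v = (f ⟨b, hb⟩ : ℂ) • v := hf ⟨b, hb⟩
    have ea' : ρ a⁻¹ v = ((f ⟨a, ha⟩ : ℂ))⁻¹ • v := by
      have h1 := hf (⟨a, ha⟩⁻¹ : D)
      rw [map_inv, Units.val_inv_eq_inv_val] at h1
      exact h1
    have eb' : ρ b⁻¹ v = ((f ⟨b, hb⟩ : ℂ))⁻¹ • v := by
      have h1 := hf (⟨b, hb⟩⁻¹ : D)
      rw [map_inv, Units.val_inv_eq_inv_val] at h1
      exact h1
    have ha0 : (f ⟨a, ha⟩ : ℂ) ≠ 0 := Units.ne_zero _
    have hb0 : (f ⟨b, hb⟩ : ℂ) ≠ 0 := Units.ne_zero _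
    have s2 : ρ a⁻¹ (ρ b⁻¹ v) = (((f ⟨b, hb⟩ : ℂ))⁻¹ * ((f ⟨a, ha⟩ : ℂ))⁻¹) • v := by
      rw [eb', map_smul, ea', smul_smul]
    have s3 : ρ b (ρ a⁻¹ (ρ b⁻¹ v))
        = (((f ⟨b, hb⟩ : ℂ))⁻¹ * ((f ⟨a, ha⟩ : ℂ))⁻¹ * (f ⟨b, hb⟩ : ℂ)) • v := by
      rw [s2, map_smul, eb, smul_smul]
    have s4 : ρ a (ρ b (ρ a⁻¹ (ρ b⁻¹ v)))
        = (((f ⟨b, hb⟩ : ℂ))⁻¹ * ((f ⟨a, ha⟩ : ℂ))⁻¹ * (f ⟨b, hb⟩ : ℂ) * (f ⟨a, ha⟩ : ℂ)) • v := by
      rw [s3, map_smul, ea, smul_smul]
    rw [commutatorElement_def, map_mul, map_mul, map_mul, Module.End.mul_apply,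
      Module.End.mul_apply, Module.End.mul_apply, s4]
    have h1 : ((f ⟨b, hb⟩ : ℂ))⁻¹ * ((f ⟨a, ha⟩ : ℂ))⁻¹ * (f ⟨b, hb⟩ : ℂ) * (f ⟨a, ha⟩ : ℂ) = 1 := by
      field_simp
    rw [h1, one_smul]
  have hLS : L ≤ S := hL.trans (sup_le hNS hDS)
  set E : Module.End ℂ (Fin n → ℂ) := ∑ k : L, ρ (k : G) with hE
  have hT : ∀ g, E * ρ g = ρ g * E := by
    intro g
    rw [hE, Finset.sum_mul, Finset.mul_sum]
    rw [← Equiv.sum_comp (MulAut.conjNormal g : L ≃* L).toEquiv (fun k : L => ρ (k : G) * ρ g)]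
    apply Finset.sum_congr rfl
    intro k _
    show ρ ((MulAut.conjNormal g k : L) : G) * ρ g = ρ g * ρ (k : G)
    rw [MulAut.conjNormal_apply, ← map_mul, ← map_mul]
    congr 1
    group
  obtain ⟨c, hc⟩ := schur_scalar ρ E hT
  have hEv : E v = (Nat.card L : ℂ) • v := by
    rw [hE, LinearMap.sum_apply]
    rw [Finset.sum_congr rfl (fun (k : L) _ => (hLS k.2 : ρ (k : G) v = v))]
    rw [Finset.sum_const, Finset.card_univ, Nat.card_eq_fintype_card, Nat.cast_smul_eq_nsmul]
  have hcL : c = (Nat.card L : ℂ) := by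
    rw [hc] at hEv
    have h2 : c • v = (Nat.card L : ℂ) • v := by simpa using hEv
    have h3 : (c - (Nat.card L : ℂ)) • v = 0 := by rw [sub_smul, h2, sub_self]
    rcases smul_eq_zero.mp h3 with h4 | h4
    · exact sub_eq_zero.mp h4
    · exact absurd h4 hv
  intro l hl
  have hmul : ρ l * E = E := by
    rw [hE, Finset.mul_sum]
    rw [← Equiv.sum_comp (Equiv.mulLeft (⟨l, hl⟩ : L)) (fun k : L => ρ (k : G))]
    apply Finset.sum_congr rfl
    intro k _
    rw [← map_mul]; rfl
  rw [hc, hcL] at hmul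
  have hcard : (Nat.card L : ℂ) ≠ 0 := by exact_mod_cast (Nat.card_pos (α := L)).ne'
  have hρl : ρ l = 1 := by
    have h5 : (Nat.card L : ℂ) • ρ l = (Nat.card L : ℂ) • (1 : Module.End ℂ (Fin n → ℂ)) := by
      rw [mul_smul_comm, mul_one] at hmul
      exact hmul
    exact smul_right_injective _ hcard h5
  rw [← hχρ]
  show LinearMap.trace ℂ _ (ρ l) = LinearMap.trace ℂ _ (ρ 1)
  rw [hρl, map_one ρ]

end C

section D

variable {G : Type u} [Group G] [Finite G] {p : ℕ} [Fact p.Prime]

/-- For `y ∈ P ∖ P'`, `P` a Sylow `p`-subgroup of `G`, some irreducible character of `G` of degree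
prime to `p` does not have `y` in its kernel. -/
theorem exists_irr_ne_of_not_mem_commutator (P : Sylow p G) {y : G} (hy : y ∈ (P : Subgroup G))
    (hy' : y ∉ ⁅(P : Subgroup G), (P : Subgroup G)⁆) :
    ∃ χ : Cfsg.IrrCharacter G, ¬ p ∣ Cfsg.charDegree (χ : G → ℂ) ∧
      (χ : G → ℂ) y ≠ (χ : G → ℂ) 1 := by
  classical
  letI : Fintype G := Fintype.ofFinite G
  letI : Fintype (Cfsg.IrrCharacter G) := Fintype.ofFinite _
  letI : Fintype (P : Subgroup G) := Fintype.ofFinite _
  have hyc : (⟨y, hy⟩ : (P : Subgroup G)) ∉ commutator (P : Subgroup G) := by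
    intro h
    apply hy'
    have h1 : y ∈ (commutator (P : Subgroup G)).map (P : Subgroup G).subtype :=
      ⟨⟨y, hy⟩, h, rfl⟩
    rw [commutator_def, Subgroup.map_commutator, ← MonoidHom.range_eq_map,
      Subgroup.range_subtype] at h1
    exact h1
  obtain ⟨f, hf⟩ := Helper79.exists_hom_apply_ne_one hyc
  have hfchar : Cfsg.IsCharacter (P : Subgroup G) (fun x => (f x : ℂ)) :=
    Helper15.isChar_of_irr (Helper79.isIrrCharacter_of_hom f)
  have hnat : ∀ χ : Cfsg.IrrCharacter G, ∃ n : ℕ,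
      Cfsg.classInner (fun x : (P : Subgroup G) => (χ : G → ℂ) x) (fun x => (f x : ℂ)) = n :=
    fun χ => Helper15.inner_nat
      (Helper79.isCharacter_restrict (Helper79.irr_isCharacter χ) _) hfchar
  choose n hn using hnat
  have hsum : ∑ χ : Cfsg.IrrCharacter G, ((Cfsg.charDegree (χ : G → ℂ) * n χ : ℕ) : ℂ)
      = ((P : Subgroup G).index : ℂ) := by
    have h1 : ∀ χ : Cfsg.IrrCharacter G, ((Cfsg.charDegree (χ : G → ℂ) * n χ : ℕ) : ℂ)
        = (Nat.card (P : Subgroup G) : ℂ)⁻¹ * ∑ x : (P : Subgroup G),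
            ((χ : G → ℂ) 1 * (χ : G → ℂ) x) * conj (f x : ℂ) := by
      intro χ
      rw [Nat.cast_mul, ← hn χ, ← Helper81.irr_one_eq_charDegree]
      unfold Cfsg.classInner
      rw [mul_left_comm, Finset.mul_sum]
      congr 1
      apply Finset.sum_congr rfl
      intro x _
      ring
    rw [Finset.sum_congr rfl (fun χ _ => h1 χ), ← Finset.mul_sum, Finset.sum_comm]
    have h2 : ∀ x : (P : Subgroup G), ∑ χ : Cfsg.IrrCharacter G,
        ((χ : G → ℂ) 1 * (χ : G → ℂ) x) * conj (f x : ℂ)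
          = if x = 1 then (Nat.card G : ℂ) else 0 := by
      intro x
      rw [← Finset.sum_mul, Helper80.irr_sum_degree_mul]
      by_cases hx : x = 1
      · subst hx
        simp [Nat.card_eq_fintype_card]
      · have hx' : (x : G) ≠ 1 := fun h => hx (Subtype.ext h)
        rw [if_neg hx', if_neg hx, zero_mul]
    rw [Finset.sum_congr rfl (fun x _ => h2 x), Finset.sum_ite_eq' Finset.univ 1,
      if_pos (Finset.mem_univ _)]
    have h3 := (P : Subgroup G).card_mul_index
    have hP0 : (Nat.card (P : Subgroup G) : ℂ) ≠ 0 := by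
      exact_mod_cast (Nat.card_pos (α := (P : Subgroup G))).ne'
    rw [← h3]
    push_cast
    field_simp
  have hsumN : ∑ χ : Cfsg.IrrCharacter G, Cfsg.charDegree (χ : G → ℂ) * n χ
      = (P : Subgroup G).index := by
    exact_mod_cast hsum
  have hnd : ¬ p ∣ (P : Subgroup G).index := P.not_dvd_index
  obtain ⟨χ, hχ⟩ : ∃ χ : Cfsg.IrrCharacter G, ¬ p ∣ Cfsg.charDegree (χ : G → ℂ) * n χ := by
    by_contra hcon
    push Not at hcon
    apply hnd
    rw [← hsumN]
    exact Finset.dvd_sum (fun χ _ => hcon χ)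
  have hχ1 : ¬ p ∣ Cfsg.charDegree (χ : G → ℂ) := fun h => hχ (Dvd.dvd.mul_right h _)
  have hχ2 : n χ ≠ 0 := fun h => hχ (by rw [h, mul_zero]; exact dvd_zero p)
  refine ⟨χ, hχ1, ?_⟩
  intro hker
  apply hf
  have hs : ∑ x : (P : Subgroup G), (χ : G → ℂ) x * conj (f x : ℂ)
      = conj (f ⟨y, hy⟩ : ℂ) * ∑ x : (P : Subgroup G), (χ : G → ℂ) x * conj (f x : ℂ) := by
    calc ∑ x : (P : Subgroup G), (χ : G → ℂ) x * conj (f x : ℂ)
        = ∑ x : (P : Subgroup G), (χ : G → ℂ) ((⟨y, hy⟩ * x : (P : Subgroup G)) : G)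
            * conj (f (⟨y, hy⟩ * x) : ℂ) :=
          (Equiv.sum_comp (Equiv.mulLeft (⟨y, hy⟩ : (P : Subgroup G)))
            (fun x : (P : Subgroup G) => (χ : G → ℂ) x * conj (f x : ℂ))).symm
      _ = ∑ x : (P : Subgroup G), conj (f ⟨y, hy⟩ : ℂ) * ((χ : G → ℂ) x * conj (f x : ℂ)) := by
          apply Finset.sum_congr rfl
          intro x _
          rw [map_mul, Units.val_mul, map_mul, Subgroup.coe_mul]
          rw [Helper79.isCharacter_ker_mul (Helper79.irr_isCharacter χ) hker]
          ring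
      _ = conj (f ⟨y, hy⟩ : ℂ) * ∑ x : (P : Subgroup G), (χ : G → ℂ) x * conj (f x : ℂ) :=
          (Finset.mul_sum _ _ _).symm
  have hinner : Cfsg.classInner (fun x : (P : Subgroup G) => (χ : G → ℂ) x) (fun x => (f x : ℂ))
      = conj (f ⟨y, hy⟩ : ℂ) *
        Cfsg.classInner (fun x : (P : Subgroup G) => (χ : G → ℂ) x) (fun x => (f x : ℂ)) := by
    unfold Cfsg.classInner
    rw [mul_left_comm]
    congr 1
  rw [hn χ] at hinner
  have hn0 : (n χ : ℂ) ≠ 0 := by exact_mod_cast hχ2
  have h5 : conj (f ⟨y, hy⟩ : ℂ) = 1 :=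
    mul_right_cancel₀ hn0 (by rw [one_mul]; exact hinner.symm)
  have h6 : (f ⟨y, hy⟩ : ℂ) = 1 := by
    have h7 := congrArg conj h5
    simpa using h7
  exact Units.ext h6

end D

section E

variable {G : Type u} [Group G] [Finite G] {p : ℕ} [Fact p.Prime]

/-- A subgroup `L` of order prime to `p` which lies in the kernel of every irreducible character of
degree prime to `p` satisfies `C_L(P) = 1` for a Sylow `p`-subgroup `P`. -/
theorem inf_centralizer_eq_bot_of_forall_ker (P : Sylow p G) (L : Subgroup G)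
    (hL : ¬ p ∣ Nat.card L)
    (hker : ∀ χ : Cfsg.IrrCharacter G, ¬ p ∣ Cfsg.charDegree (χ : G → ℂ) →
      ∀ l ∈ L, (χ : G → ℂ) l = (χ : G → ℂ) 1) :
    L ⊓ Subgroup.centralizer ((P : Subgroup G) : Set G) = ⊥ := by
  classical
  letI : Fintype G := Fintype.ofFinite G
  letI : Fintype (Cfsg.IrrCharacter G) := Fintype.ofFinite _
  by_contra hne
  set C : Subgroup G := L ⊓ Subgroup.centralizer ((P : Subgroup G) : Set G) with hC
  letI : Fintype C := Fintype.ofFinite _
  letI : Fintype (P : Subgroup G) := Fintype.ofFinite _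
  obtain ⟨c, hcC, hc1⟩ : ∃ c ∈ C, c ≠ 1 := by
    by_contra hall
    push Not at hall
    exact hne (eq_bot_iff.mpr fun x hx => Subgroup.mem_bot.mpr (hall x hx))
  obtain ⟨β, hβ⟩ : ∃ β : Cfsg.IrrCharacter C, (β : C → ℂ) ⟨c, hcC⟩ ≠ (β : C → ℂ) 1 := by
    by_contra hall
    push Not at hall
    have hconj := Helper79.isConj_of_forall_irr_eq hall
    have h1 : (⟨c, hcC⟩ : C) = 1 := isConj_one_left.mp hconj
    exact hc1 (congrArg Subtype.val h1)
  have hβsum : ∑ x : C, (β : C → ℂ) x = 0 := by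
    have h1 := Helper15.irr_inner β ⟨fun _ => 1, Helper81.isIrrCharacter_one⟩
    have hne' : β ≠ ⟨fun _ => 1, Helper81.isIrrCharacter_one⟩ := by
      intro h
      apply hβ
      rw [h]
    rw [if_neg hne'] at h1
    unfold Cfsg.classInner at h1
    have hcard : (Nat.card C : ℂ) ≠ 0 := by exact_mod_cast (Nat.card_pos (α := C)).ne'
    have h2 : ∑ g : C, (β : C → ℂ) g * conj ((1 : ℂ)) = 0 := by
      rcases mul_eq_zero.mp h1 with h | h
      · exact absurd (inv_eq_zero.mp h) hcard
      · exact h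
    simpa using h2
  let μ : C × (P : Subgroup G) →* G :=
    { toFun := fun z => (z.1 : G) * (z.2 : G)
      map_one' := by simp
      map_mul' := by
        rintro ⟨a, x⟩ ⟨b, y⟩
        show ((a * b : C) : G) * ((x * y : (P : Subgroup G)) : G)
          = (a : G) * (x : G) * ((b : G) * (y : G))
        have hb : (b : G) ∈ Subgroup.centralizer ((P : Subgroup G) : Set G) := b.2.2
        have hcomm : (x : G) * (b : G) = (b : G) * (x : G) :=
          (Subgroup.mem_centralizer_iff.mp hb) x x.2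
        rw [Subgroup.coe_mul, Subgroup.coe_mul]
        calc (a : G) * b * (x * y) = a * (b * x) * y := by group
          _ = a * (x * b) * y := by rw [hcomm]
          _ = a * x * (b * y) := by group }
  have hμ : ∀ z : C × (P : Subgroup G), μ z = (z.1 : G) * (z.2 : G) := fun z => rfl
  have hμ1 : ∀ z : C × (P : Subgroup G), μ z = 1 ↔ z = 1 := by
    intro z
    constructor
    · intro h
      rw [hμ] at h
      have h1 : (z.1 : G) = (((z.2)⁻¹ : (P : Subgroup G)) : G) := by
        rw [Subgroup.coe_inv]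
        exact eq_inv_of_mul_eq_one_left h
      have hzL : (z.1 : G) ∈ L := z.1.2.1
      have hord1 : orderOf (z.1 : G) ∣ Nat.card L := by
        have h2 := orderOf_dvd_natCard (⟨(z.1 : G), hzL⟩ : L)
        rwa [← Subgroup.orderOf_coe] at h2
      obtain ⟨k, hk⟩ := P.isPGroup' (z.2)⁻¹
      have hord2 : orderOf (z.1 : G) ∣ p ^ k := by
        apply orderOf_dvd_of_pow_eq_one
        rw [h1, ← Subgroup.coe_pow, hk, Subgroup.coe_one]
      have hcop : (Nat.card L).Coprime (p ^ k) :=
        Nat.Coprime.pow_right k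
          (Nat.coprime_comm.mp ((Nat.Prime.coprime_iff_not_dvd Fact.out).mpr hL))
      have hone : orderOf (z.1 : G) = 1 := Nat.eq_one_of_dvd_coprimes hcop hord1 hord2
      have hz1 : (z.1 : G) = 1 := orderOf_eq_one_iff.mp hone
      have hz2 : (z.2 : G) = 1 := by
        rw [hz1, one_mul] at h
        exact h
      exact Prod.ext (Subtype.ext hz1) (Subtype.ext hz2)
    · intro h
      rw [h, map_one]
  have hβchar : Cfsg.IsCharacter (C × (P : Subgroup G)) (fun z => (β : C → ℂ) z.1) :=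
    Helper79.isCharacter_comp (Helper79.irr_isCharacter β) (MonoidHom.fst C (P : Subgroup G))
  have hnat : ∀ χ : Cfsg.IrrCharacter G, ∃ n : ℕ,
      Cfsg.classInner (fun z : C × (P : Subgroup G) => (χ : G → ℂ) (μ z))
        (fun z => (β : C → ℂ) z.1) = n :=
    fun χ => Helper15.inner_nat
      (Helper79.isCharacter_comp (Helper79.irr_isCharacter χ) μ) hβchar
  choose n hn using hnat
  have hzero : ∀ χ : Cfsg.IrrCharacter G, ¬ p ∣ Cfsg.charDegree (χ : G → ℂ) → n χ = 0 := by
    intro χ hχ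
    have h1 : Cfsg.classInner (fun z : C × (P : Subgroup G) => (χ : G → ℂ) (μ z))
        (fun z => (β : C → ℂ) z.1) = 0 := by
      unfold Cfsg.classInner
      rw [Fintype.sum_prod_type]
      have h2 : ∀ a : C, ∑ x : (P : Subgroup G),
          (χ : G → ℂ) (μ (a, x)) * conj ((β : C → ℂ) a)
          = conj ((β : C → ℂ) a) * ∑ x : (P : Subgroup G), (χ : G → ℂ) x := by
        intro a
        rw [Finset.mul_sum]
        apply Finset.sum_congr rfl
        intro x _
        rw [hμ]
        rw [Helper79.isCharacter_ker_mul (Helper79.irr_isCharacter χ) (hker χ hχ a a.2.1)]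
        ring
      rw [Finset.sum_congr rfl (fun a _ => h2 a), ← Finset.sum_mul, ← map_sum, hβsum, map_zero,
        zero_mul, mul_zero]
    rw [hn χ] at h1
    exact_mod_cast h1
  have hdβ := Helper81.irr_one_eq_charDegree β
  have hsum : ∑ χ : Cfsg.IrrCharacter G, ((Cfsg.charDegree (χ : G → ℂ) * n χ : ℕ) : ℂ)
      = (Nat.card (C × (P : Subgroup G)) : ℂ)⁻¹ *
        ((Nat.card G : ℂ) * (Cfsg.charDegree (β : C → ℂ) : ℂ)) := by
    have h1 : ∀ χ : Cfsg.IrrCharacter G, ((Cfsg.charDegree (χ : G → ℂ) * n χ : ℕ) : ℂ)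
        = (Nat.card (C × (P : Subgroup G)) : ℂ)⁻¹ * ∑ z : C × (P : Subgroup G),
            ((χ : G → ℂ) 1 * (χ : G → ℂ) (μ z)) * conj ((β : C → ℂ) z.1) := by
      intro χ
      rw [Nat.cast_mul, ← hn χ, ← Helper81.irr_one_eq_charDegree]
      unfold Cfsg.classInner
      rw [mul_left_comm, Finset.mul_sum]
      congr 1
      apply Finset.sum_congr rfl
      intro x _
      ring
    rw [Finset.sum_congr rfl (fun χ _ => h1 χ), ← Finset.mul_sum, Finset.sum_comm]
    have h2 : ∀ z : C × (P : Subgroup G), ∑ χ : Cfsg.IrrCharacter G,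
        ((χ : G → ℂ) 1 * (χ : G → ℂ) (μ z)) * conj ((β : C → ℂ) z.1)
          = if z = 1 then (Nat.card G : ℂ) * (Cfsg.charDegree (β : C → ℂ) : ℂ) else 0 := by
      intro z
      rw [← Finset.sum_mul, Helper80.irr_sum_degree_mul]
      by_cases hz : z = 1
      · subst hz
        rw [if_pos (map_one μ), if_pos rfl]
        show (Fintype.card G : ℂ) * conj ((β : C → ℂ) 1) = _
        rw [hdβ, Complex.conj_natCast, Nat.card_eq_fintype_card]
      · rw [if_neg (fun h => hz ((hμ1 z).mp h)), if_neg hz, zero_mul]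
    rw [Finset.sum_congr rfl (fun z _ => h2 z), Finset.sum_ite_eq' Finset.univ 1,
      if_pos (Finset.mem_univ _)]
  set T : ℕ := ∑ χ : Cfsg.IrrCharacter G, Cfsg.charDegree (χ : G → ℂ) * n χ with hT
  have hTnat : T * (Nat.card C * Nat.card (P : Subgroup G))
      = Nat.card G * Cfsg.charDegree (β : C → ℂ) := by
    have hcard0 : (Nat.card (C × (P : Subgroup G)) : ℂ) ≠ 0 := by
      exact_mod_cast (Nat.card_pos (α := C × (P : Subgroup G))).ne'
    have hTc : (T : ℂ) = ∑ χ : Cfsg.IrrCharacter G,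
        ((Cfsg.charDegree (χ : G → ℂ) * n χ : ℕ) : ℂ) := by
      rw [hT]
      push_cast
      rfl
    have h3 : (T : ℂ) * (Nat.card (C × (P : Subgroup G)) : ℂ)
        = (Nat.card G : ℂ) * (Cfsg.charDegree (β : C → ℂ) : ℂ) := by
      rw [hTc, hsum]
      field_simp
    rw [Nat.card_prod] at h3
    exact_mod_cast h3
  have hpT : p ∣ T := by
    rw [hT]
    apply Finset.dvd_sum
    intro χ _
    by_cases hχ : p ∣ Cfsg.charDegree (χ : G → ℂ)
    · exact Dvd.dvd.mul_right hχ _
    · rw [hzero χ hχ, mul_zero]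
      exact dvd_zero p
  have hidx := (P : Subgroup G).card_mul_index
  rw [← hidx] at hTnat
  have hP0 : 0 < Nat.card (P : Subgroup G) := Nat.card_pos
  have h4 : T * Nat.card C = (P : Subgroup G).index * Cfsg.charDegree (β : C → ℂ) := by
    have h41 : Nat.card (P : Subgroup G) * (T * Nat.card C)
        = Nat.card (P : Subgroup G) * ((P : Subgroup G).index * Cfsg.charDegree (β : C → ℂ)) := by
      rw [← mul_assoc _ ((P : Subgroup G).index), ← hTnat]
      ring
    exact Nat.eq_of_mul_eq_mul_left hP0 h41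
  have h5 : p ∣ (P : Subgroup G).index * Cfsg.charDegree (β : C → ℂ) := by
    rw [← h4]
    exact Dvd.dvd.mul_right hpT _
  rcases (Nat.Prime.dvd_mul Fact.out).mp h5 with h6 | h6
  · exact P.not_dvd_index h6
  · apply hL
    exact (h6.trans (Helper81.charDegree_dvd_card β)).trans (Subgroup.card_dvd_of_le inf_le_left)

end E

end Cfsg.Agent.Helper76
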