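import Cfsg.Agent.Helper79.ItoMichler
import Cfsg.Agent.Helper79.Induced
import Cfsg.Agent.Helper75.CliffordCorr
import Cfsg.Agent.Helper75.Ito
import Cfsg.Agent.Helper3.IndFun
import Cfsg.Agent.Helper3.Induced

/-!
# Characters of `p'`-degree lying over a given character (helper76)

* `PQDeg p q G`: every irreducible character of `G` of degree prime to `p` has degree prime to `q`.
* `exists_pprime_constituent`: a character of degree prime to `p` has an irreducible constituent of
  degree prime to `p`.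
* `exists_pprime_over`: if `ψ ∈ Irr(X)`, `p ∤ [G:X] ψ(1)` and `θ` occurs in `ψ|_Y`, then some
  irreducible character of `G` of degree prime to `p` lies over `θ`.
* `inertia_index_mul_dvd`: Clifford: `[G : I_G(θ)] θ(1)` divides `χ(1)`.
* `PQDeg.not_dvd_of_over`: the combination of the three.
-/

set_option autoImplicit false
set_option linter.style.haveILetI false

namespace Cfsg.Agent.Helper76

open Cfsg

/-- Every irreducible character of `G` of degree prime to `p` has degree prime to `q`. -/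
def PQDeg (p q : ℕ) (G : Type*) [Group G] : Prop :=
  ∀ χ : IrrCharacter G, ¬ p ∣ charDegree (χ : G → ℂ) → ¬ q ∣ charDegree (χ : G → ℂ)

/-- A character of degree prime to `p` has an irreducible constituent of degree prime to `p`. -/
theorem exists_pprime_constituent {p : ℕ} {G : Type*} [Group G] [Fintype G] {Ψ : G → ℂ}
    (hΨ : IsCharacter G Ψ) (hdeg : ¬ p ∣ charDegree Ψ) :
    ∃ χ : IrrCharacter G, classInner Ψ (χ : G → ℂ) ≠ 0 ∧ ¬ p ∣ charDegree (χ : G → ℂ) := by
  classical
  letI : Fintype (IrrCharacter G) := Fintype.ofFinite _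
  obtain ⟨b, hb, -, hsum⟩ := Helper79.isCharacter_decomp hΨ
  by_contra hcon
  push Not at hcon
  apply hdeg
  rw [hsum]
  apply Finset.dvd_sum
  intro η _
  by_cases h0 : b η = 0
  · rw [h0, zero_mul]; exact dvd_zero p
  · apply Dvd.dvd.mul_left
    apply hcon η
    rw [hb]
    exact_mod_cast h0

/-- If `ψ ∈ Irr(X)` with `p ∤ [G:X] ψ(1)` and `θ` occurs in `ψ|_Y` (`Y ≤ X`), then some irreducible
character of `G` of degree prime to `p` lies over `θ`. -/
theorem exists_pprime_over {p : ℕ} {G : Type*} [Group G] [Fintype G] {X Y : Subgroup G}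
    [Fintype X] [Fintype Y] (hYX : Y ≤ X) {ψ : X → ℂ} (hψ : IsIrrCharacter X ψ)
    (hdeg : ¬ p ∣ X.index * charDegree ψ) {θ : Y → ℂ} (hθ : IsCharacter Y θ)
    (hne : classInner (Helper75.resTo hYX ψ) θ ≠ 0) :
    ∃ χ : IrrCharacter G, ¬ p ∣ charDegree (χ : G → ℂ) ∧
      classInner (fun y : Y => (χ : G → ℂ) y) θ ≠ 0 := by
  classical
  letI : Fintype (IrrCharacter X) := Fintype.ofFinite _
  have hψc := Helper79.isCharacter_of_irr hψ
  have hΨ : IsCharacter G (indFun X ψ) := Helper3.isCharacter_indFun X ψ hψc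
  have hΨdeg : ¬ p ∣ charDegree (indFun X ψ) := by
    rw [Helper79.charDegree_indFun X hψc]; exact hdeg
  obtain ⟨χ, hχne, hχdeg⟩ := exists_pprime_constituent hΨ hΨdeg
  refine ⟨χ, hχdeg, ?_⟩
  have hfr := Helper3.frobenius_reciprocity X ψ (χ : G → ℂ)
    (Helper79.isCharacter_isClassFunction (Helper79.irr_isCharacter χ))
  rw [hfr] at hχne
  have hχX : classInner (fun t : X => (χ : G → ℂ) t) ψ ≠ 0 := by
    rw [Helper75.classInner_conj_symm]
    intro h0
    apply hχne
    have := congrArg (starRingEnd ℂ) h0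
    simpa using this
  obtain ⟨m, k, hm, hk, he⟩ :=
    Helper75.exists_restrict_mults hYX hθ (Helper79.irr_isCharacter χ)
  rw [he]
  have hm0 : m ⟨ψ, hψ⟩ ≠ 0 := by
    intro h0
    apply hχX
    have := hm ⟨ψ, hψ⟩
    rw [h0] at this
    simpa using this
  have hk0 : k ⟨ψ, hψ⟩ ≠ 0 := by
    intro h0
    apply hne
    have := hk ⟨ψ, hψ⟩
    rw [h0] at this
    simpa using this
  have hle : m ⟨ψ, hψ⟩ * k ⟨ψ, hψ⟩ ≤ ∑ ψ' : IrrCharacter X, m ψ' * k ψ' :=
    Finset.single_le_sum (f := fun ψ' : IrrCharacter X => m ψ' * k ψ')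
      (fun _ _ => Nat.zero_le _) (Finset.mem_univ _)
  have hpos : 0 < m ⟨ψ, hψ⟩ * k ⟨ψ, hψ⟩ :=
    Nat.mul_pos (Nat.pos_of_ne_zero hm0) (Nat.pos_of_ne_zero hk0)
  have : (∑ ψ' : IrrCharacter X, m ψ' * k ψ') ≠ 0 := by omega
  exact_mod_cast this

/-- Clifford: if `χ ∈ Irr(G)` lies over `θ ∈ Irr(K)`, `K` normal, then `[G : I_G(θ)] θ(1)` divides
`χ(1)`. -/
theorem inertia_index_mul_dvd {G : Type*} [Group G] [Fintype G] (K : Subgroup G) [K.Normal]
    [Fintype K] {θ : K → ℂ} (hθ : IsIrrCharacter K θ) {χ : G → ℂ} (hχ : IsIrrCharacter G χ)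
    (hne : classInner (fun n : K => χ n) θ ≠ 0) :
    (Helper75.inertia K θ).index * charDegree θ ∣ charDegree χ := by
  classical
  have hcl := Helper75.clifford_restrict K hχ hθ hne
  have h1 := congrFun hcl 1
  rw [Pi.smul_apply, Helper75.orbitSum_one, smul_eq_mul] at h1
  set T : Subgroup G := Helper75.inertia K θ with hT
  have hTcard : Nat.card {g : G // Helper75.conjFun K g θ = θ} = Nat.card T := rfl
  rw [hTcard] at h1
  obtain ⟨m, hm⟩ := Helper3.classInner_isCharacter_nat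
    (Helper79.isCharacter_restrict (Helper79.isCharacter_of_irr hχ) K)
    (Helper79.isCharacter_of_irr hθ)
  rw [hm] at h1
  have hχ1 : χ ((1 : K) : G) = (charDegree χ : ℂ) := by
    rw [Subgroup.coe_one]
    exact Helper79.isCharacter_one_eq_charDegree (Helper79.isCharacter_of_irr hχ)
  rw [hχ1, Helper79.isCharacter_one_eq_charDegree (Helper79.isCharacter_of_irr hθ)] at h1
  have hT0 : (Nat.card T : ℂ) ≠ 0 := by exact_mod_cast (Nat.card_pos (α := T)).ne'
  have h2 : (Nat.card G : ℂ) / (Nat.card T : ℂ) = (T.index : ℂ) := by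
    rw [← Subgroup.index_mul_card T]; push_cast; field_simp
  rw [h2] at h1
  have h3 : charDegree χ = m * (T.index * charDegree θ) := by exact_mod_cast h1
  exact ⟨m, by rw [h3]; ring⟩

/-- Under `PQDeg p q G`: if `ψ ∈ Irr(X)` with `p ∤ [G:X] ψ(1)` lies over `θ ∈ Irr(K)`, `K ≤ X`
normal in `G`, then `q ∤ [G : I_G(θ)] θ(1)`. -/
theorem PQDeg.not_dvd_of_over {p q : ℕ} {G : Type*} [Group G] [Fintype G] (h : PQDeg p q G)
    (K : Subgroup G) [K.Normal] [Fintype K] {X : Subgroup G} [Fintype X] (hKX : K ≤ X)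
    {ψ : X → ℂ} (hψ : IsIrrCharacter X ψ) (hdeg : ¬ p ∣ X.index * charDegree ψ)
    {θ : K → ℂ} (hθ : IsIrrCharacter K θ) (hne : classInner (Helper75.resTo hKX ψ) θ ≠ 0) :
    ¬ q ∣ (Helper75.inertia K θ).index * charDegree θ := by
  obtain ⟨χ, hχdeg, hχne⟩ :=
    exists_pprime_over hKX hψ hdeg (Helper79.isCharacter_of_irr hθ) hne
  have h1 := h χ hχdeg
  have h2 := inertia_index_mul_dvd K hθ χ.2 hχne
  exact fun h3 => h1 (dvd_trans h3 h2)

end Cfsg.Agent.Helper76
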