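import Cfsg.Agent.Helper75.ThirdMain
import Cfsg.Agent.Helper15.CharInner
import Cfsg.Agent.Helper79.Basic
import Cfsg.Agent.Helper81.CharBasic

/-!
# Principal blocks, subgroups of index prime to `p`, and constituents of `p'`-degree (helper76)

`G` is a finite group, `M` a maximal ideal of the algebraic integers over `p`, and `S` is the
indicator function of the `p`-regular elements (`Helper75.pregInd`, Okuyama's element).

* `classInner_pregInd`: `⟨S, χ⟩ = χ(1) Ω_χ(S) / |G|`.
* `exists_principal_constituent`: if `H ≤ G` has index prime to `p` and `ψ` is an irreducible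
  character of `p'`-degree in the principal block of `H`, then some irreducible character `χ` of
  `p'`-degree in the principal block of `G` lies over `ψ`.
* `mem_principalBlock_of_extension`: if all `p`-regular elements of `H` lie in the subgroup
  `N ≤ H` and the irreducible character `η` of `H` extends `θ` in the principal block of `N`,
  then `η` lies in the principal block of `H`.
* `classInner_comp_ne_zero`: transitivity of "lies over" along a homomorphism.
* `pRegular_mem_of_mem_sup_sylow`: `p`-regular elements of `N P` lie in `N` (`N` normal, `P` a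
  `p`-group).
-/

set_option autoImplicit false
set_option linter.style.haveILetI false

namespace Cfsg.Agent.Helper76

open scoped ComplexConjugate

universe u

section principalInd

variable {G : Type u} [Group G] [Fintype G]

/-- The multiplicity of `χ` in the indicator of the `p`-regular elements. -/
theorem classInner_pregInd (p : ℕ) (χ : Cfsg.IrrCharacter G) :
    Cfsg.classInner (Helper75.pregInd p G) (χ : G → ℂ)
      = (Nat.card G : ℂ)⁻¹ *
        ((χ : G → ℂ) 1 * Helper81.omega (χ : G → ℂ) (Helper75.pregInd p G)) := by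
  unfold Cfsg.classInner Helper81.omega
  congr 1
  rw [mul_div_cancel₀ _ (Helper81.irr_one_ne_zero χ), ← Equiv.sum_comp (Equiv.inv G)]
  refine Finset.sum_congr rfl fun g _ => ?_
  rw [Equiv.inv_apply, Helper77.irr_inv]
  unfold Helper75.pregInd
  rw [orderOf_inv, Complex.conj_conj]

variable {p : ℕ} [Fact p.Prime] {M : Ideal Cfsg.AlgInt}

/-- If `H ≤ G` has index prime to `p` and `ψ` is an irreducible character of `p'`-degree in the
principal block of `H`, then some irreducible character of `p'`-degree in the principal block of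
`G` lies over `ψ`. -/
theorem exists_principal_constituent (hM : Cfsg.IsPModular p M) (H : Subgroup G) [Fintype H]
    (hidx : ¬ p ∣ H.index) (ψ : Cfsg.IrrCharacter H) (hψ : ψ ∈ Cfsg.principalBlock M H)
    (hdeg : ¬ p ∣ Cfsg.charDegree (ψ : H → ℂ)) :
    ∃ χ : Cfsg.IrrCharacter G, χ ∈ Cfsg.principalBlock M G ∧
      ¬ p ∣ Cfsg.charDegree (χ : G → ℂ) ∧
      Cfsg.classInner (fun h : H => (χ : G → ℂ) h) (ψ : H → ℂ) ≠ 0 := by
  classical
  have := Fintype.ofFinite (Cfsg.IrrCharacter G)
  have hMm := hM.2.1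
  have hScl : Cfsg.IsClassFunction G (Helper75.pregInd p G) := Helper75.pregInd_isClassFunction p
  have h1 := Helper15.classFun_eq_sum hScl
  have h2 : (fun h : H => Helper75.pregInd p G (h : G))
      = ∑ χ : Cfsg.IrrCharacter G, Cfsg.classInner (Helper75.pregInd p G) (χ : G → ℂ) •
          (fun h : H => (χ : G → ℂ) h) := by
    funext h
    conv_lhs => rw [h1]
    simp only [Finset.sum_apply, Pi.smul_apply]
  have h3 : Cfsg.classInner (fun h : H => Helper75.pregInd p G (h : G)) (ψ : H → ℂ)
      = ∑ χ : Cfsg.IrrCharacter G, Cfsg.classInner (Helper75.pregInd p G) (χ : G → ℂ) *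
          Cfsg.classInner (fun h : H => (χ : G → ℂ) h) (ψ : H → ℂ) := by
    rw [h2, Helper15.classInner_sum_left]
    exact Finset.sum_congr rfl fun χ _ => Helper15.classInner_smul_left _ _ _
  rw [Helper75.pregInd_res, classInner_pregInd] at h3
  simp only [classInner_pregInd] at h3
  -- clear denominators
  have hG0 : (Nat.card G : ℂ) ≠ 0 := by exact_mod_cast Nat.card_pos.ne'
  have hH0 : (Nat.card H : ℂ) ≠ 0 := by exact_mod_cast Nat.card_pos.ne'
  have hcard : (Nat.card G : ℂ) = (Nat.card H : ℂ) * (H.index : ℂ) := by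
    rw [← Nat.cast_mul, Subgroup.card_mul_index]
  have h4 : (H.index : ℂ) * ((ψ : H → ℂ) 1 * Helper81.omega (ψ : H → ℂ) (Helper75.pregInd p H))
      = ∑ χ : Cfsg.IrrCharacter G, (χ : G → ℂ) 1 *
          Helper81.omega (χ : G → ℂ) (Helper75.pregInd p G) *
          Cfsg.classInner (fun h : H => (χ : G → ℂ) h) (ψ : H → ℂ) := by
    have h5 : (Nat.card G : ℂ) * ((Nat.card H : ℂ)⁻¹ *
        ((ψ : H → ℂ) 1 * Helper81.omega (ψ : H → ℂ) (Helper75.pregInd p H)))
        = (H.index : ℂ) * ((ψ : H → ℂ) 1 *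
          Helper81.omega (ψ : H → ℂ) (Helper75.pregInd p H)) := by
      rw [hcard]
      field_simp
    rw [← h5, h3, Finset.mul_sum]
    refine Finset.sum_congr rfl fun χ _ => ?_
    field_simp
  by_contra hcon
  push Not at hcon
  have hsum : Cfsg.MemLocalIdeal M (∑ χ : Cfsg.IrrCharacter G, (χ : G → ℂ) 1 *
      Helper81.omega (χ : G → ℂ) (Helper75.pregInd p G) *
      Cfsg.classInner (fun h : H => (χ : G → ℂ) h) (ψ : H → ℂ)) := by
    refine Helper77.memLocalIdeal_sum hMm _ _ fun χ _ => ?_
    by_cases hχ : χ ∈ Cfsg.principalBlock M G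
    · by_cases hχd : p ∣ Cfsg.charDegree (χ : G → ℂ)
      · obtain ⟨n, hn⟩ := Helper15.inner_nat
          (Helper79.isCharacter_restrict (Helper79.irr_isCharacter χ) H)
          (Helper79.irr_isCharacter ψ)
        rw [hn, Helper81.irr_one_eq_charDegree, mul_assoc]
        obtain ⟨k, hk⟩ := hχd
        rw [hk, Nat.cast_mul, mul_assoc]
        refine Helper77.memLocalIdeal_mul' hMm (Helper77.memLocalIdeal_prime hM) ?_
        refine Helper77.memLocalRing_mul hMm ?_ (Helper77.memLocalRing_mul hMm
          (Helper16.omega_memLocalRing hMm χ hScl (Helper75.pregInd_memLocalRing hMm p)) ?_)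
        · exact Helper77.memLocalRing_of_isIntegral hMm
            (by exact_mod_cast (isIntegral_algebraMap (x := (k : ℤ))))
        · exact Helper77.memLocalRing_of_isIntegral hMm
            (by exact_mod_cast (isIntegral_algebraMap (x := (n : ℤ))))
      · rw [hcon χ hχ hχd, mul_zero]
        exact Helper77.memLocalIdeal_zero hMm
    · rw [Helper75.omega_pregInd_of_not_mem hM hχ, mul_zero, zero_mul]
      exact Helper77.memLocalIdeal_zero hMm
  rw [← h4, Helper81.irr_one_eq_charDegree] at hsum
  have h6 := Helper77.memLocalIdeal_mul hMm (Helper77.memLocalRing_mul hMm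
    (Helper77.memLocalRing_natCast_inv hM hidx) (Helper77.memLocalRing_natCast_inv hM hdeg)) hsum
  have hi0 : (H.index : ℂ) ≠ 0 := by
    have : H.index ≠ 0 := fun h => hidx (by rw [h]; exact dvd_zero p)
    exact_mod_cast this
  have hd0 : ((Cfsg.charDegree (ψ : H → ℂ) : ℕ) : ℂ) ≠ 0 := by
    have : Cfsg.charDegree (ψ : H → ℂ) ≠ 0 := fun h => hdeg (by rw [h]; exact dvd_zero p)
    exact_mod_cast this
  have h7 : (H.index : ℂ)⁻¹ * ((Cfsg.charDegree (ψ : H → ℂ) : ℕ) : ℂ)⁻¹ *
      ((H.index : ℂ) * (((Cfsg.charDegree (ψ : H → ℂ) : ℕ) : ℂ) *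
        Helper81.omega (ψ : H → ℂ) (Helper75.pregInd p H)))
      = Helper81.omega (ψ : H → ℂ) (Helper75.pregInd p H) := by
    field_simp
  rw [h7] at h6
  exact (Helper75.mem_principalBlock_iff_omega hM ψ).mp hψ h6

omit [Fintype G] in
/-- If all `p`-regular elements of `H` lie in the subgroup `N ≤ H` and the irreducible character
`η` of `H` extends an irreducible character `θ` in the principal block of `N`, then `η` lies in
the principal block of `H`. -/
theorem mem_principalBlock_of_extension (hM : Cfsg.IsPModular p M) (H N : Subgroup G)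
    (hNH : N ≤ H) [Fintype H] [Fintype N]
    (hreg : ∀ h ∈ H, ¬ p ∣ orderOf h → h ∈ N) (θ : Cfsg.IrrCharacter N)
    (hθ : θ ∈ Cfsg.principalBlock M N) (η : Cfsg.IrrCharacter H)
    (hext : ∀ n : N, (η : H → ℂ) (Subgroup.inclusion hNH n) = (θ : N → ℂ) n) :
    η ∈ Cfsg.principalBlock M H := by
  classical
  rw [Helper75.mem_principalBlock_iff_omega hM] at hθ ⊢
  have h1 : Helper81.omega (η : H → ℂ) (Helper75.pregInd p H)
      = Helper81.omega (θ : N → ℂ) (Helper75.pregInd p N) := by
    unfold Helper81.omega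
    have h2 : (η : H → ℂ) 1 = (θ : N → ℂ) 1 := by
      rw [← hext 1, map_one]
    rw [h2]
    congr 1
    symm
    apply Fintype.sum_of_injective (Subgroup.inclusion hNH) (Subgroup.inclusion_injective hNH)
    · intro h hh
      have h3 : p ∣ orderOf (h : G) := by
        by_contra h4
        exact hh ⟨⟨(h : G), hreg _ h.2 h4⟩, rfl⟩
      unfold Helper75.pregInd
      rw [Subgroup.orderOf_coe] at h3
      rw [if_neg (not_not.mpr h3), zero_mul]
    · intro n
      rw [hext]
      congr 1
      unfold Helper75.pregInd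
      rw [← Subgroup.orderOf_coe (Subgroup.inclusion hNH n), ← Subgroup.orderOf_coe n]
      rfl
  rw [h1]
  exact hθ

end principalInd

/-- Transitivity of "lies over": if the irreducible character `η` of `H` is a constituent of the
character `χ` and `θ` is a constituent of `η ∘ f`, then `θ` is a constituent of `χ ∘ f`. -/
theorem classInner_comp_ne_zero {H K : Type*} [Group H] [Fintype H] [Group K] [Fintype K]
    (f : K →* H) {χ : H → ℂ} (hχ : Cfsg.IsCharacter H χ) (η : Cfsg.IrrCharacter H)
    (hη : Cfsg.classInner χ (η : H → ℂ) ≠ 0) {θ : K → ℂ} (hθ : Cfsg.IsCharacter K θ)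
    (hηθ : Cfsg.classInner (fun k => (η : H → ℂ) (f k)) θ ≠ 0) :
    Cfsg.classInner (fun k => χ (f k)) θ ≠ 0 := by
  classical
  have := Fintype.ofFinite (Cfsg.IrrCharacter H)
  have h1 := Helper15.classFun_eq_sum (Helper15.isClassFunction_of_isChar hχ)
  have h2 : (fun k => χ (f k))
      = ∑ ψ : Cfsg.IrrCharacter H, Cfsg.classInner χ (ψ : H → ℂ) •
          (fun k => (ψ : H → ℂ) (f k)) := by
    funext k
    conv_lhs => rw [h1]
    simp only [Finset.sum_apply, Pi.smul_apply]
  have ha : ∀ ψ : Cfsg.IrrCharacter H, ∃ n : ℕ, Cfsg.classInner χ (ψ : H → ℂ) = (n : ℂ) :=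
    fun ψ => Helper15.inner_nat hχ (Helper79.irr_isCharacter ψ)
  have hb : ∀ ψ : Cfsg.IrrCharacter H, ∃ n : ℕ,
      Cfsg.classInner (fun k => (ψ : H → ℂ) (f k)) θ = (n : ℂ) :=
    fun ψ => Helper15.inner_nat (Helper79.isCharacter_comp (Helper79.irr_isCharacter ψ) f) hθ
  choose a ha using ha
  choose b hb using hb
  have h3 : Cfsg.classInner (fun k => χ (f k)) θ
      = ((∑ ψ : Cfsg.IrrCharacter H, a ψ * b ψ : ℕ) : ℂ) := by
    rw [h2, Helper15.classInner_sum_left, Nat.cast_sum]
    refine Finset.sum_congr rfl fun ψ _ => ?_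
    rw [Helper15.classInner_smul_left, ha, hb, Nat.cast_mul]
  rw [h3]
  have h4 : a η ≠ 0 := fun h => hη (by rw [ha, h, Nat.cast_zero])
  have h5 : b η ≠ 0 := fun h => hηθ (by rw [hb, h, Nat.cast_zero])
  have h6 : a η * b η ≤ ∑ ψ : Cfsg.IrrCharacter H, a ψ * b ψ :=
    Finset.single_le_sum (f := fun ψ => a ψ * b ψ) (fun _ _ => Nat.zero_le _) (Finset.mem_univ η)
  have h7 : 0 < a η * b η := Nat.mul_pos (Nat.pos_of_ne_zero h4) (Nat.pos_of_ne_zero h5)
  exact_mod_cast (lt_of_lt_of_le h7 h6).ne'

/-- The `p`-regular elements of `N P`, for `N` normal and `P` a `p`-subgroup, lie in `N`. -/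
theorem pRegular_mem_of_mem_sup {G : Type*} [Group G] [Finite G] {p : ℕ} [Fact p.Prime]
    (N : Subgroup G) [N.Normal] (P : Subgroup G) (hP : IsPGroup p P) {h : G}
    (hh : h ∈ N ⊔ P) (hreg : ¬ p ∣ orderOf h) : h ∈ N := by
  have h1 : QuotientGroup.mk' N h ∈ (N ⊔ P).map (QuotientGroup.mk' N) :=
    Subgroup.mem_map_of_mem _ hh
  have h2 : (N ⊔ P).map (QuotientGroup.mk' N) = P.map (QuotientGroup.mk' N) := by
    rw [Subgroup.map_sup]
    have : N.map (QuotientGroup.mk' N) = ⊥ := by
      rw [Subgroup.map_eq_bot_iff, QuotientGroup.ker_mk']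
    rw [this, bot_sup_eq]
  rw [h2] at h1
  have h3 : IsPGroup p (P.map (QuotientGroup.mk' N)) := hP.map _
  obtain ⟨k, hk⟩ := h3 ⟨_, h1⟩
  have h4 : (QuotientGroup.mk' N h) ^ p ^ k = 1 := by
    have := congrArg Subtype.val hk
    simpa using this
  have h5 : orderOf (QuotientGroup.mk' N h) ∣ p ^ k := orderOf_dvd_of_pow_eq_one h4
  have h6 : orderOf (QuotientGroup.mk' N h) ∣ orderOf h := orderOf_map_dvd _ h
  have hcop : Nat.Coprime (p ^ k) (orderOf h) :=
    Nat.Coprime.pow_left k ((Nat.Prime.coprime_iff_not_dvd Fact.out).mpr hreg)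
  have h7 : orderOf (QuotientGroup.mk' N h) = 1 := Nat.eq_one_of_dvd_coprimes hcop h5 h6
  have h8 : QuotientGroup.mk' N h = 1 := orderOf_eq_one_iff.mp h7
  rw [QuotientGroup.mk'_apply, QuotientGroup.eq_one_iff] at h8
  exact h8

end Cfsg.Agent.Helper76
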