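import Cfsg.Agent.Helper76.Inflate
import Cfsg.Agent.Helper76.CentralProd
import Cfsg.Agent.Helper77.BlockRank
import Cfsg.Agent.Helper81.BlockKer
import Cfsg.Agent.Helper15.CharInner

/-!
# The rank of the principal block modulo a central-like normal `p`-subgroup (helper76)

`Q` is a normal `p`-subgroup of the finite group `G`.

* `pregPush p Q`, `pregPull p Q`: push-forward to `G ⧸ Q` (sum over the `p`-regular elements of
  a fibre) and pull-back from `G ⧸ Q` (cut down to the `p`-regular elements), as linear maps.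
* `pregPull_pregPush`, `pregPush_pregPull`: mutually inverse on functions vanishing off the
  `p`-regular elements, when `p`-regular lifts are unique.
* `pregPush_mem_span`: the push-forward of `χ°`, `χ` in the principal block, lies in the span
  of the `ψ°`, `ψ` in the principal block of `G ⧸ Q`.
* `blockRank_principal_quotient`: `l(B₀(G)) = l(B₀(G ⧸ Q))` when `G = Q C_G(Q)`.
-/

set_option autoImplicit false
set_option linter.style.haveILetI false

namespace Cfsg.Agent.Helper76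

open scoped ComplexConjugate

universe u

section quotRank

variable {G : Type u} [Group G] [Fintype G]

/-- Push-forward to `G ⧸ Q`: sum over the `p`-regular elements of each fibre. -/
noncomputable def pregPush (p : ℕ) (Q : Subgroup G) [Q.Normal] :
    (G → ℂ) →ₗ[ℂ] (G ⧸ Q → ℂ) where
  toFun f := fun x => ∑ g : G,
    @ite ℂ (¬ p ∣ orderOf g ∧ (g : G ⧸ Q) = x) (Classical.propDecidable _) (f g) 0
  map_add' f f' := by
    funext x
    simp only [Pi.add_apply]
    rw [← Finset.sum_add_distrib]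
    refine Finset.sum_congr rfl fun g _ => ?_
    split_ifs <;> simp
  map_smul' c f := by
    funext x
    simp only [Pi.smul_apply, smul_eq_mul, RingHom.id_apply]
    rw [Finset.mul_sum]
    refine Finset.sum_congr rfl fun g _ => ?_
    split_ifs <;> simp

theorem pregPush_apply (p : ℕ) (Q : Subgroup G) [Q.Normal] (f : G → ℂ) (x : G ⧸ Q) :
    pregPush p Q f x = ∑ g : G,
      @ite ℂ (¬ p ∣ orderOf g ∧ (g : G ⧸ Q) = x) (Classical.propDecidable _) (f g) 0 := rfl

omit [Fintype G] in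
/-- Pull-back from `G ⧸ Q`, cut down to the `p`-regular elements. -/
noncomputable def pregPull (p : ℕ) (Q : Subgroup G) [Q.Normal] :
    (G ⧸ Q → ℂ) →ₗ[ℂ] (G → ℂ) where
  toFun F := fun g => @ite ℂ (¬ p ∣ orderOf g) (Classical.propDecidable _) (F (g : G ⧸ Q)) 0
  map_add' F F' := by
    funext g
    simp only [Pi.add_apply]
    split_ifs <;> simp
  map_smul' c F := by
    funext g
    simp only [Pi.smul_apply, smul_eq_mul, RingHom.id_apply]
    split_ifs <;> simp

omit [Fintype G] in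
theorem pregPull_apply (p : ℕ) (Q : Subgroup G) [Q.Normal] (F : G ⧸ Q → ℂ) (g : G) :
    pregPull p Q F g
      = @ite ℂ (¬ p ∣ orderOf g) (Classical.propDecidable _) (F (g : G ⧸ Q)) 0 := rfl

omit [Fintype G] in
theorem pregPull_pRegularPart (p : ℕ) (Q : Subgroup G) [Q.Normal] (ψ : G ⧸ Q → ℂ) :
    pregPull p Q (Cfsg.pRegularPart p ψ)
      = Cfsg.pRegularPart p (fun g : G => ψ (g : G ⧸ Q)) := by
  funext g
  rw [pregPull_apply, Helper77.pRegularPart_apply, Helper77.pRegularPart_apply]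
  by_cases hg : p ∣ orderOf g
  · simp [hg]
  · have h1 : ¬ p ∣ orderOf (g : G ⧸ Q) := fun h =>
      hg (h.trans (orderOf_map_dvd (QuotientGroup.mk' Q) g))
    simp [hg, h1]

theorem pregPull_pregPush (p : ℕ) (Q : Subgroup G) [Q.Normal]
    (huniq : ∀ g g' : G, ¬ p ∣ orderOf g → ¬ p ∣ orderOf g' →
      (g : G ⧸ Q) = (g' : G ⧸ Q) → g = g') (f : G → ℂ) :
    pregPull p Q (pregPush p Q (Cfsg.pRegularPart p f)) = Cfsg.pRegularPart p f := by
  funext g
  rw [pregPull_apply, Helper77.pRegularPart_apply]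
  by_cases hg : p ∣ orderOf g
  · simp [hg]
  · rw [if_pos hg, if_pos hg, pregPush_apply, Finset.sum_eq_single g]
    · rw [if_pos ⟨hg, rfl⟩, Helper77.pRegularPart_apply, if_pos hg]
    · intro g' _ hne
      rw [if_neg]
      rintro ⟨h1, h2⟩
      exact hne (huniq g' g h1 hg h2)
    · intro h
      exact absurd (Finset.mem_univ _) h

theorem pregPush_pregPull (p : ℕ) [Fact p.Prime] (Q : Subgroup G) [Q.Normal]
    (huniq : ∀ g g' : G, ¬ p ∣ orderOf g → ¬ p ∣ orderOf g' →
      (g : G ⧸ Q) = (g' : G ⧸ Q) → g = g') (F : G ⧸ Q → ℂ) :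
    pregPush p Q (pregPull p Q (Cfsg.pRegularPart p F)) = Cfsg.pRegularPart p F := by
  funext x
  rw [pregPush_apply]
  by_cases hx : p ∣ orderOf x
  · rw [Helper77.pRegularPart_apply, if_neg (not_not.mpr hx)]
    refine Finset.sum_eq_zero fun g _ => ?_
    rw [if_neg]
    rintro ⟨h1, h2⟩
    exact h1 (hx.trans (h2 ▸ orderOf_map_dvd (QuotientGroup.mk' Q) g))
  · obtain ⟨g₀, hg₀, rfl⟩ := Helper81.exists_pRegular_lift Q x hx
    rw [Finset.sum_eq_single g₀]
    · rw [if_pos ⟨hg₀, rfl⟩, pregPull_apply, if_pos hg₀]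
    · intro g _ hne
      rw [if_neg]
      rintro ⟨h1, h2⟩
      exact hne (huniq g g₀ h1 hg₀ h2)
    · intro h
      exact absurd (Finset.mem_univ _) h

theorem pregPush_isClassFunction (p : ℕ) (Q : Subgroup G) [Q.Normal] {f : G → ℂ}
    (hf : Cfsg.IsClassFunction G f) : Cfsg.IsClassFunction (G ⧸ Q) (pregPush p Q f) := by
  intro x y
  obtain ⟨y₀, rfl⟩ := QuotientGroup.mk_surjective y
  rw [pregPush_apply, pregPush_apply, ← Equiv.sum_comp (MulAut.conj y₀).toEquiv]
  refine Finset.sum_congr rfl fun g _ => ?_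
  have h1 : (MulAut.conj y₀).toEquiv g = y₀ * g * y₀⁻¹ := rfl
  rw [h1, hf g y₀, Helper75.orderOf_conj']
  have h2 : ((y₀ * g * y₀⁻¹ : G) : G ⧸ Q) = (y₀ : G ⧸ Q) * x * (y₀ : G ⧸ Q)⁻¹
      ↔ (g : G ⧸ Q) = x := by
    rw [QuotientGroup.mk_mul, QuotientGroup.mk_mul, QuotientGroup.mk_inv]
    constructor
    · intro h
      exact mul_left_cancel (mul_right_cancel h)
    · intro h
      rw [h]
  by_cases hc : ¬ p ∣ orderOf g ∧ (g : G ⧸ Q) = x
  · rw [if_pos hc, if_pos ⟨hc.1, h2.mpr hc.2⟩]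
  · rw [if_neg hc, if_neg (fun h => hc ⟨h.1, h2.mp h.2⟩)]

theorem pRegularPart_pregPush (p : ℕ) (Q : Subgroup G) [Q.Normal] (f : G → ℂ) :
    Cfsg.pRegularPart p (pregPush p Q f) = pregPush p Q f := by
  funext x
  rw [Helper77.pRegularPart_apply]
  by_cases hx : p ∣ orderOf x
  · rw [if_neg (not_not.mpr hx), pregPush_apply]
    symm
    refine Finset.sum_eq_zero fun g _ => ?_
    rw [if_neg]
    rintro ⟨h1, h2⟩
    exact h1 (hx.trans (h2 ▸ orderOf_map_dvd (QuotientGroup.mk' Q) g))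
  · rw [if_pos hx]

theorem classInner_pregPush (p : ℕ) (Q : Subgroup G) [Q.Normal] [Fintype (G ⧸ Q)]
    (f : G → ℂ) (ψ : G ⧸ Q → ℂ) :
    Cfsg.classInner (pregPush p Q f) ψ
      = (Nat.card (G ⧸ Q) : ℂ)⁻¹ *
        Helper77.pregInner p f (fun g : G => ψ (g : G ⧸ Q)) := by
  classical
  unfold Cfsg.classInner Helper77.pregInner
  congr 1
  simp only [pregPush_apply, Finset.sum_mul]
  rw [Finset.sum_comm]
  refine Finset.sum_congr rfl fun g _ => ?_
  rw [Finset.sum_eq_single (g : G ⧸ Q)]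
  · by_cases hg : p ∣ orderOf g
    · simp [hg]
    · simp [hg]
  · intro x _ hne
    rw [if_neg, zero_mul]
    rintro ⟨_, h2⟩
    exact hne h2.symm
  · intro h
    exact absurd (Finset.mem_univ _) h

/-- The push-forward of `χ°`, `χ` in the principal block of `G`, lies in the span of the `ψ°`,
`ψ` in the principal block of `G ⧸ Q`, provided inflation reflects the principal block. -/
theorem pregPush_mem_span {p : ℕ} [Fact p.Prime] {M : Ideal Cfsg.AlgInt}
    (hM : Cfsg.IsPModular p M) (Q : Subgroup G) [Q.Normal] [Fintype (G ⧸ Q)]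
    (hB0 : ∀ ψ : Cfsg.IrrCharacter (G ⧸ Q), irrInfl Q ψ ∈ Cfsg.principalBlock M G →
      ψ ∈ Cfsg.principalBlock M (G ⧸ Q))
    (χ : Cfsg.IrrCharacter G) (hχ : χ ∈ Cfsg.principalBlock M G) :
    pregPush p Q (Cfsg.pRegularPart p (χ : G → ℂ)) ∈ Submodule.span ℂ
      ((fun ψ : Cfsg.IrrCharacter (G ⧸ Q) => Cfsg.pRegularPart p (ψ : G ⧸ Q → ℂ)) ''
        Cfsg.principalBlock M (G ⧸ Q)) := by
  classical
  have := Fintype.ofFinite (Cfsg.IrrCharacter (G ⧸ Q))
  obtain ⟨F, hF⟩ : ∃ F : G ⧸ Q → ℂ, F = pregPush p Q (Cfsg.pRegularPart p (χ : G → ℂ)) :=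
    ⟨_, rfl⟩
  rw [← hF]
  have hcl : Cfsg.IsClassFunction (G ⧸ Q) F := by
    rw [hF]
    exact pregPush_isClassFunction p Q
      (Helper77.pRegularPart_isClassFunction p (Helper81.irr_isClassFunction χ))
  have hexp := Helper15.classFun_eq_sum hcl
  have hreg : Cfsg.pRegularPart p F = F := by
    rw [hF]
    exact pRegularPart_pregPush p Q _
  have hzero : ∀ ψ : Cfsg.IrrCharacter (G ⧸ Q), ψ ∉ Cfsg.principalBlock M (G ⧸ Q) →
      Cfsg.classInner F (ψ : G ⧸ Q → ℂ) = 0 := by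
    intro ψ hψ
    rw [hF, classInner_pregPush]
    have h1 : irrInfl Q ψ ∉ Cfsg.principalBlock M G := fun h => hψ (hB0 ψ h)
    have h2 := Helper77.pregInner_eq_zero hM ⟨Helper79.trivIrr G, rfl⟩ h1 hχ
    have h3 : Helper77.pregInner p (Cfsg.pRegularPart p (χ : G → ℂ))
        (fun g : G => (ψ : G ⧸ Q → ℂ) (g : G ⧸ Q))
        = Helper77.pregInner p (χ : G → ℂ) (irrInfl Q ψ : G → ℂ) := by
      unfold Helper77.pregInner
      refine Finset.sum_congr rfl fun g _ => ?_
      rw [Helper77.pRegularPart_apply]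
      by_cases hg : p ∣ orderOf g
      · simp [hg]
      · simp only [hg, not_false_eq_true, if_true]
        rfl
    rw [h3, ← Helper77.conj_pregInner, h2, map_zero, mul_zero]
  rw [← hreg]
  have h4 : Cfsg.pRegularPart p F = ∑ ψ : Cfsg.IrrCharacter (G ⧸ Q),
      Cfsg.classInner F (ψ : G ⧸ Q → ℂ) • Cfsg.pRegularPart p (ψ : G ⧸ Q → ℂ) := by
    conv_lhs => rw [hexp]
    rw [← Helper77.pRegProj_apply, map_sum]
    refine Finset.sum_congr rfl fun ψ _ => ?_
    rw [map_smul, Helper77.pRegProj_apply]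
  rw [h4]
  refine Submodule.sum_mem _ fun ψ _ => ?_
  by_cases hψ : ψ ∈ Cfsg.principalBlock M (G ⧸ Q)
  · exact Submodule.smul_mem _ _ (Submodule.subset_span ⟨ψ, hψ, rfl⟩)
  · rw [hzero ψ hψ, zero_smul]
    exact Submodule.zero_mem _

/-- If `Q` is a normal `p`-subgroup with `G = Q C_G(Q)`, the principal blocks of `G` and of
`G ⧸ Q` have the same `p`-regular rank. -/
theorem blockRank_principal_quotient {p : ℕ} [Fact p.Prime] {M : Ideal Cfsg.AlgInt}
    (hM : Cfsg.IsPModular p M) (Q : Subgroup G) [Q.Normal] (hQ : IsPGroup p Q)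
    (hsup : Q ⊔ Subgroup.centralizer (Q : Set G) = ⊤) :
    Cfsg.blockRank p (Cfsg.principalBlock M G)
      = Cfsg.blockRank p (Cfsg.principalBlock M (G ⧸ Q)) := by
  classical
  letI : Fintype (G ⧸ Q) := Fintype.ofFinite _
  have hp : p.Prime := Fact.out
  have hC : ∃ k : ℕ, (Subgroup.centralizer (Q : Set G)).index = p ^ k := by
    have h1 : (Subgroup.centralizer (Q : Set G)).relIndex (Q ⊔ Subgroup.centralizer (Q : Set G))
        = (Subgroup.centralizer (Q : Set G)).relIndex Q := Subgroup.relIndex_sup_right _ _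
    rw [hsup, Subgroup.relIndex_top_right] at h1
    rw [h1]
    obtain ⟨n, hn⟩ := (IsPGroup.iff_card).mp hQ
    have h2 : (Subgroup.centralizer (Q : Set G)).relIndex Q ∣ Nat.card Q :=
      Subgroup.index_dvd_card _
    rw [hn] at h2
    obtain ⟨k, -, hk⟩ := (Nat.dvd_prime_pow hp).mp h2
    exact ⟨k, hk⟩
  have hcent : ∀ g : G, ¬ p ∣ orderOf g → g ∈ Subgroup.centralizer (Q : Set G) :=
    fun g hg => Helper81.mem_centralizer_of_pRegular Q hC hg
  have huniq : ∀ g g' : G, ¬ p ∣ orderOf g → ¬ p ∣ orderOf g' →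
      (g : G ⧸ Q) = (g' : G ⧸ Q) → g = g' := by
    intro g g' hg hg' h
    have hz : g⁻¹ * g' ∈ Q := QuotientGroup.eq.mp h
    have hcomm : ∀ u ∈ Subgroup.centralizer (Q : Set G), ∀ v ∈ Q, u * v = v * u :=
      fun u hu v hv => (Subgroup.mem_centralizer_iff.mp hu v hv).symm
    have hZ : IsPGroup p ↥(Subgroup.centralizer (Q : Set G) ⊓ Q) := hQ.to_le inf_le_right
    exact (pRegular_mul_unique hcomm hZ (hcent g hg) (hcent g' hg') hz Q.one_mem hg hg'
      (by rw [mul_inv_cancel_left, mul_one])).1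
  have hB0 : ∀ ψ : Cfsg.IrrCharacter (G ⧸ Q), irrInfl Q ψ ∈ Cfsg.principalBlock M G →
      ψ ∈ Cfsg.principalBlock M (G ⧸ Q) := by
    intro ψ h
    exact Helper81.sameBlock_of_comp_mk hM Q hQ hC (Helper79.trivIrr (G ⧸ Q)) ψ h
  have hB0' : ∀ ψ : Cfsg.IrrCharacter (G ⧸ Q), ψ ∈ Cfsg.principalBlock M (G ⧸ Q) →
      irrInfl Q ψ ∈ Cfsg.principalBlock M G := by
    intro ψ h
    exact Helper81.sameBlock_comp_mk hM Q h
  unfold Cfsg.blockRank
  apply le_antisymm
  · have hle : Submodule.span ℂ ((fun χ : Cfsg.IrrCharacter G =>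
          Cfsg.pRegularPart p (χ : G → ℂ)) '' Cfsg.principalBlock M G)
        ≤ (Submodule.span ℂ ((fun ψ : Cfsg.IrrCharacter (G ⧸ Q) =>
          Cfsg.pRegularPart p (ψ : G ⧸ Q → ℂ)) '' Cfsg.principalBlock M (G ⧸ Q))).map
            (pregPull p Q) := by
      rw [Submodule.span_le]
      rintro _ ⟨χ, hχ, rfl⟩
      exact Submodule.mem_map.mpr ⟨_, pregPush_mem_span hM Q hB0 χ hχ,
        pregPull_pregPush p Q huniq _⟩
    exact (Submodule.finrank_mono hle).trans (Submodule.finrank_map_le _ _)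
  · have hle : Submodule.span ℂ ((fun ψ : Cfsg.IrrCharacter (G ⧸ Q) =>
          Cfsg.pRegularPart p (ψ : G ⧸ Q → ℂ)) '' Cfsg.principalBlock M (G ⧸ Q))
        ≤ (Submodule.span ℂ ((fun χ : Cfsg.IrrCharacter G =>
          Cfsg.pRegularPart p (χ : G → ℂ)) '' Cfsg.principalBlock M G)).map
            (pregPush p Q) := by
      rw [Submodule.span_le]
      rintro _ ⟨ψ, hψ, rfl⟩
      refine Submodule.mem_map.mpr ⟨pregPull p Q (Cfsg.pRegularPart p (ψ : G ⧸ Q → ℂ)), ?_,
        pregPush_pregPull p Q huniq _⟩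
      rw [pregPull_pRegularPart]
      exact Submodule.subset_span ⟨irrInfl Q ψ, hB0' ψ hψ, rfl⟩
    exact (Submodule.finrank_mono hle).trans (Submodule.finrank_map_le _ _)

end quotRank

end Cfsg.Agent.Helper76
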