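import Cfsg.Agent.Helper76.QuotRank
import Cfsg.Agent.Helper81.BlockDefect
import Cfsg.Agent.Helper16.DefectGroup
import Cfsg.Agent.Helper77.Defect
import Cfsg.Agent.Helper79.Quotient

/-!
# Ranks of dominated blocks, blocks of defect zero, central defect groups (helper76)

* `pRegular_lift_unique`: if the `p`-regular elements centralize the normal `p`-subgroup `Q`,
  `p`-regular lifts from `G ⧸ Q` are unique.
* `blockRank_eq_of_dominate`: a block `B` of `G` and a set `B̄` of irreducible characters of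
  `G ⧸ Q` with `ψ ∈ B̄ ↔ infl ψ ∈ B` have the same `p`-regular rank (unique lifts).
* `eq_of_sameBlock_of_defect_zero`: a character of `p`-defect zero is alone in its block.
* `blockRank_eq_one_of_central_defect`: a block with a central defect group has `l(B) = 1`.
-/

set_option autoImplicit false
set_option linter.style.haveILetI false

namespace Cfsg.Agent.Helper76

open scoped ComplexConjugate

universe u

section quotRank2

variable {G : Type u} [Group G] [Fintype G] {p : ℕ} [Fact p.Prime] {M : Ideal Cfsg.AlgInt}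

omit [Fintype G] in
theorem pRegular_lift_unique (Q : Subgroup G) [Q.Normal] (hQ : IsPGroup p Q)
    (hcent : ∀ g : G, ¬ p ∣ orderOf g → g ∈ Subgroup.centralizer (Q : Set G)) :
    ∀ g g' : G, ¬ p ∣ orderOf g → ¬ p ∣ orderOf g' →
      (g : G ⧸ Q) = (g' : G ⧸ Q) → g = g' := by
  intro g g' hg hg' h
  have hz : g⁻¹ * g' ∈ Q := QuotientGroup.eq.mp h
  have hcomm : ∀ u ∈ Subgroup.centralizer (Q : Set G), ∀ v ∈ Q, u * v = v * u :=
    fun u hu v hv => (Subgroup.mem_centralizer_iff.mp hu v hv).symm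
  have hZ : IsPGroup p ↥(Subgroup.centralizer (Q : Set G) ⊓ Q) := hQ.to_le inf_le_right
  exact (pRegular_mul_unique hcomm hZ (hcent g hg) (hcent g' hg') hz Q.one_mem hg hg'
    (by rw [mul_inv_cancel_left, mul_one])).1

/-- The push-forward of `χ°`, `χ` in the block `B` of `G`, lies in the span of the `ψ°`,
`ψ ∈ B̄`, provided `B̄` contains every `ψ` whose inflation lies in `B`. -/
theorem pregPush_mem_span_of_block (hM : Cfsg.IsPModular p M) (Q : Subgroup G) [Q.Normal]
    [Fintype (G ⧸ Q)] {B : Set (Cfsg.IrrCharacter G)} (hB : Cfsg.IsPBlock M B)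
    (Bbar : Set (Cfsg.IrrCharacter (G ⧸ Q)))
    (hB0 : ∀ ψ : Cfsg.IrrCharacter (G ⧸ Q), irrInfl Q ψ ∈ B → ψ ∈ Bbar)
    (χ : Cfsg.IrrCharacter G) (hχ : χ ∈ B) :
    pregPush p Q (Cfsg.pRegularPart p (χ : G → ℂ)) ∈ Submodule.span ℂ
      ((fun ψ : Cfsg.IrrCharacter (G ⧸ Q) => Cfsg.pRegularPart p (ψ : G ⧸ Q → ℂ)) '' Bbar) := by
  classical
  have := Fintype.ofFinite (Cfsg.IrrCharacter (G ⧸ Q))
  obtain ⟨F, hF⟩ : ∃ F : G ⧸ Q → ℂ, F = pregPush p Q (Cfsg.pRegularPart p (χ : G → ℂ)) :=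
    ⟨_, rfl⟩
  rw [← hF]
  have hcl : Cfsg.IsClassFunction (G ⧸ Q) F := by
    rw [hF]
    exact pregPush_isClassFunction p Q
      (Helper77.pRegularPart_isClassFunction p (Helper81.irr_isClassFunction χ))
  have hexp := Helper15.classFun_eq_sum hcl
  have hreg : Cfsg.pRegularPart p F = F := by
    rw [hF]
    exact pRegularPart_pregPush p Q _
  have hzero : ∀ ψ : Cfsg.IrrCharacter (G ⧸ Q), ψ ∉ Bbar →
      Cfsg.classInner F (ψ : G ⧸ Q → ℂ) = 0 := by
    intro ψ hψ
    rw [hF, classInner_pregPush]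
    have h1 : irrInfl Q ψ ∉ B := fun h => hψ (hB0 ψ h)
    have h2 := Helper77.pregInner_eq_zero hM hB h1 hχ
    have h3 : Helper77.pregInner p (Cfsg.pRegularPart p (χ : G → ℂ))
        (fun g : G => (ψ : G ⧸ Q → ℂ) (g : G ⧸ Q))
        = Helper77.pregInner p (χ : G → ℂ) (irrInfl Q ψ : G → ℂ) := by
      unfold Helper77.pregInner
      refine Finset.sum_congr rfl fun g _ => ?_
      rw [Helper77.pRegularPart_apply]
      by_cases hg : p ∣ orderOf g
      · simp [hg]
      · simp only [hg, not_false_eq_true, if_true]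
        rfl
    rw [h3, ← Helper77.conj_pregInner, h2, map_zero, mul_zero]
  rw [← hreg]
  have h4 : Cfsg.pRegularPart p F = ∑ ψ : Cfsg.IrrCharacter (G ⧸ Q),
      Cfsg.classInner F (ψ : G ⧸ Q → ℂ) • Cfsg.pRegularPart p (ψ : G ⧸ Q → ℂ) := by
    conv_lhs => rw [hexp]
    rw [← Helper77.pRegProj_apply, map_sum]
    refine Finset.sum_congr rfl fun ψ _ => ?_
    rw [map_smul, Helper77.pRegProj_apply]
  rw [h4]
  refine Submodule.sum_mem _ fun ψ _ => ?_
  by_cases hψ : ψ ∈ Bbar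
  · exact Submodule.smul_mem _ _ (Submodule.subset_span ⟨ψ, hψ, rfl⟩)
  · rw [hzero ψ hψ, zero_smul]
    exact Submodule.zero_mem _

/-- A block `B` of `G` and the set `B̄` of the irreducible characters of `G ⧸ Q` whose
inflations lie in `B` have the same `p`-regular rank, when `p`-regular lifts are unique. -/
theorem blockRank_eq_of_dominate (hM : Cfsg.IsPModular p M) (Q : Subgroup G) [Q.Normal]
    (huniq : ∀ g g' : G, ¬ p ∣ orderOf g → ¬ p ∣ orderOf g' →
      (g : G ⧸ Q) = (g' : G ⧸ Q) → g = g')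
    {B : Set (Cfsg.IrrCharacter G)} (hB : Cfsg.IsPBlock M B)
    (Bbar : Set (Cfsg.IrrCharacter (G ⧸ Q)))
    (hB0 : ∀ ψ : Cfsg.IrrCharacter (G ⧸ Q), irrInfl Q ψ ∈ B ↔ ψ ∈ Bbar) :
    Cfsg.blockRank p B = Cfsg.blockRank p Bbar := by
  classical
  letI : Fintype (G ⧸ Q) := Fintype.ofFinite _
  unfold Cfsg.blockRank
  apply le_antisymm
  · have hle : Submodule.span ℂ ((fun χ : Cfsg.IrrCharacter G =>
          Cfsg.pRegularPart p (χ : G → ℂ)) '' B)
        ≤ (Submodule.span ℂ ((fun ψ : Cfsg.IrrCharacter (G ⧸ Q) =>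
          Cfsg.pRegularPart p (ψ : G ⧸ Q → ℂ)) '' Bbar)).map (pregPull p Q) := by
      rw [Submodule.span_le]
      rintro _ ⟨χ, hχ, rfl⟩
      exact Submodule.mem_map.mpr ⟨_,
        pregPush_mem_span_of_block hM Q hB Bbar (fun ψ h => (hB0 ψ).mp h) χ hχ,
        pregPull_pregPush p Q huniq _⟩
    exact (Submodule.finrank_mono hle).trans (Submodule.finrank_map_le _ _)
  · have hle : Submodule.span ℂ ((fun ψ : Cfsg.IrrCharacter (G ⧸ Q) =>
          Cfsg.pRegularPart p (ψ : G ⧸ Q → ℂ)) '' Bbar)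
        ≤ (Submodule.span ℂ ((fun χ : Cfsg.IrrCharacter G =>
          Cfsg.pRegularPart p (χ : G → ℂ)) '' B)).map (pregPush p Q) := by
      rw [Submodule.span_le]
      rintro _ ⟨ψ, hψ, rfl⟩
      refine Submodule.mem_map.mpr ⟨pregPull p Q (Cfsg.pRegularPart p (ψ : G ⧸ Q → ℂ)), ?_,
        pregPush_pregPull p Q huniq _⟩
      rw [pregPull_pRegularPart]
      exact Submodule.subset_span ⟨irrInfl Q ψ, (hB0 ψ).mpr hψ, rfl⟩
    exact (Submodule.finrank_mono hle).trans (Submodule.finrank_map_le _ _)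

/-- An irreducible character of `p`-defect zero is alone in its `p`-block. -/
theorem eq_of_sameBlock_of_defect_zero {H : Type u} [Group H] [Fintype H]
    (hM : Cfsg.IsPModular p M) (ψ : Cfsg.IrrCharacter H)
    (hdeg : p ^ (Nat.card H).factorization p ∣ Cfsg.charDegree (ψ : H → ℂ))
    (ψ' : Cfsg.IrrCharacter H) (h : Cfsg.SameBlock M (ψ : H → ℂ) (ψ' : H → ℂ)) : ψ' = ψ := by
  classical
  have hp : p.Prime := Fact.out
  have hMm := hM.2.1
  by_contra hne
  have hcl := Helper77.blockCoeff_isClassFunction ({ψ} : Set (Cfsg.IrrCharacter H))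
  have hloc : ∀ g : H,
      Cfsg.MemLocalRing M (Cfsg.blockCoeff ({ψ} : Set (Cfsg.IrrCharacter H)) g) := by
    intro g
    have h1 : Cfsg.blockCoeff ({ψ} : Set (Cfsg.IrrCharacter H)) g
        = (Nat.card H : ℂ)⁻¹ * ((ψ : H → ℂ) 1 * conj ((ψ : H → ℂ) g)) := by
      unfold Cfsg.blockCoeff
      rw [finsum_mem_singleton]
    obtain ⟨m, hm⟩ := Helper81.charDegree_dvd_card ψ
    have hd0 : Cfsg.charDegree (ψ : H → ℂ) ≠ 0 := by
      intro h0
      have h2 := Helper81.irr_one_eq_charDegree ψ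
      rw [h0, Nat.cast_zero] at h2
      exact Helper81.irr_one_ne_zero ψ h2
    have hpm : ¬ p ∣ m := by
      intro hpm
      have h2 : p ^ ((Nat.card H).factorization p + 1) ∣ Nat.card H := by
        conv_rhs => rw [hm]
        rw [pow_succ]
        exact Nat.mul_dvd_mul hdeg hpm
      exact Nat.pow_succ_factorization_not_dvd (Nat.card_pos.ne') hp h2
    have hm0 : m ≠ 0 := fun h0 => hpm (by rw [h0]; exact dvd_zero p)
    have h3 : (Nat.card H : ℂ)⁻¹ * ((ψ : H → ℂ) 1 * conj ((ψ : H → ℂ) g))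
        = (m : ℂ)⁻¹ * conj ((ψ : H → ℂ) g) := by
      rw [Helper81.irr_one_eq_charDegree, hm, Nat.cast_mul]
      have hd0' : (Cfsg.charDegree (ψ : H → ℂ) : ℂ) ≠ 0 := by exact_mod_cast hd0
      have hm0' : (m : ℂ) ≠ 0 := by exact_mod_cast hm0
      field_simp
    rw [h1, h3]
    refine Helper77.memLocalRing_mul hMm (Helper77.memLocalRing_natCast_inv hM hpm)
      (Helper77.memLocalRing_of_isIntegral hMm ?_)
    rw [← Helper77.irr_inv]
    exact Helper81.irr_isIntegral ψ g⁻¹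
  have h1 := Helper16.omega_sub_memLocalIdeal hMm ψ ψ' h hcl hloc
  rw [Helper77.omega_blockCoeff, Helper77.omega_blockCoeff, if_pos (Set.mem_singleton ψ),
    if_neg (fun h' => hne (Set.mem_singleton_iff.mp h')), sub_zero] at h1
  exact Helper77.not_memLocalIdeal_one hMm h1

/-- A block with a central defect group has `p`-regular rank one. -/
theorem blockRank_eq_one_of_central_defect (hM : Cfsg.IsPModular p M)
    {B : Set (Cfsg.IrrCharacter G)} (hB : Cfsg.IsPBlock M B) (P : Subgroup G)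
    (hD : Cfsg.IsDefectGroup p M B P) (hPZ : P ≤ Subgroup.center G) :
    Cfsg.blockRank p B = 1 := by
  classical
  have hp : p.Prime := Fact.out
  have hMm := hM.2.1
  obtain ⟨g₀, -, -, -, hPp⟩ := Helper16.isDefectGroup_exists_data hD
  have hcard := Helper77.card_of_isDefectGroup hM hB hD
  haveI hPn : P.Normal := by
    constructor
    intro n hn g
    have h1 : g * n * g⁻¹ = n := by
      rw [(Subgroup.mem_center_iff.mp (hPZ hn)) g, mul_inv_cancel_right]
    rw [h1]
    exact hn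
  have hcentTop : Subgroup.centralizer (P : Set G) = ⊤ := by
    rw [eq_top_iff]
    intro g _
    rw [Subgroup.mem_centralizer_iff]
    intro n hn
    exact ((Subgroup.mem_center_iff.mp (hPZ hn)) g).symm
  have hC : ∃ k : ℕ, (Subgroup.centralizer (P : Set G)).index = p ^ k :=
    ⟨0, by rw [hcentTop, Subgroup.index_top, pow_zero]⟩
  have hcent : ∀ g : G, ¬ p ∣ orderOf g → g ∈ Subgroup.centralizer (P : Set G) := by
    intro g _
    rw [hcentTop]
    trivial
  have huniq := pRegular_lift_unique P hPp hcent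
  have hnil : ∀ g : G, g ∉ Subgroup.centralizer (P : Set G) → ∀ ψ : Cfsg.IrrCharacter G,
      Cfsg.MemLocalIdeal M (Cfsg.centralChar (ψ : G → ℂ) g) := by
    intro g hg
    rw [hcentTop] at hg
    exact absurd (Subgroup.mem_top g) hg
  obtain ⟨θ, hθB, hθ⟩ := Helper81.exists_mem_block_ker hM P hPp hnil hB
  obtain ⟨ψ₀, hψ₀, hψ₀g⟩ := Helper79.exists_irr_deflation P θ.2 hθ
  obtain ⟨ψ, hψdef⟩ : ∃ ψ : Cfsg.IrrCharacter (G ⧸ P), ψ = ⟨ψ₀, hψ₀⟩ := ⟨_, rfl⟩
  have hinfl : irrInfl P ψ = θ := by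
    rw [hψdef]
    exact Subtype.ext (funext hψ₀g)
  letI : Fintype (G ⧸ P) := Fintype.ofFinite _
  have hdeg : ∀ ψ' : Cfsg.IrrCharacter (G ⧸ P), irrInfl P ψ' ∈ B →
      p ^ (Nat.card (G ⧸ P)).factorization p ∣ Cfsg.charDegree (ψ' : G ⧸ P → ℂ) := by
    intro ψ' hψ'
    have h1 : Nat.card G = Nat.card P * Nat.card (G ⧸ P) := by
      rw [← Subgroup.index_eq_card]
      exact (Subgroup.card_mul_index P).symm
    have hQ0 : Nat.card (G ⧸ P) ≠ 0 := Nat.card_pos.ne'
    have h2 : (Nat.card G).factorization p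
        = Cfsg.blockDefect p B + (Nat.card (G ⧸ P)).factorization p := by
      rw [h1, Nat.factorization_mul Nat.card_pos.ne' hQ0, hcard, Finsupp.add_apply,
        Nat.Prime.factorization_pow hp, Finsupp.single_eq_same]
    have h3 : sInf ((fun χ : Cfsg.IrrCharacter G =>
        (Cfsg.charDegree (χ : G → ℂ)).factorization p) '' B)
        ≤ (Cfsg.charDegree (irrInfl P ψ' : G → ℂ)).factorization p :=
      Nat.sInf_le ⟨_, hψ', rfl⟩
    have h4 : Cfsg.charDegree (irrInfl P ψ' : G → ℂ) = Cfsg.charDegree (ψ' : G ⧸ P → ℂ) := rfl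
    have h5 : Cfsg.blockDefect p B = (Nat.card G).factorization p -
        sInf ((fun χ : Cfsg.IrrCharacter G =>
          (Cfsg.charDegree (χ : G → ℂ)).factorization p) '' B) := rfl
    have hd0 : Cfsg.charDegree (ψ' : G ⧸ P → ℂ) ≠ 0 := by
      intro h0
      have h6 := Helper81.irr_one_eq_charDegree ψ'
      rw [h0, Nat.cast_zero] at h6
      exact Helper81.irr_one_ne_zero ψ' h6
    rw [Nat.Prime.pow_dvd_iff_le_factorization hp hd0]
    rw [h4] at h3
    omega
  have hsame : ∀ χ₁ ∈ B, ∀ χ₂ ∈ B, Cfsg.SameBlock M (χ₁ : G → ℂ) (χ₂ : G → ℂ) := by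
    obtain ⟨χ₀, rfl⟩ := hB
    intro χ₁ h1 χ₂ h2
    exact Helper16.sameBlock_trans hMm (Helper16.sameBlock_symm h1) h2
  have hsingle : ∀ ψ' : Cfsg.IrrCharacter (G ⧸ P),
      Cfsg.SameBlock M (ψ : G ⧸ P → ℂ) (ψ' : G ⧸ P → ℂ) → ψ' = ψ :=
    eq_of_sameBlock_of_defect_zero hM ψ (hdeg ψ (by rw [hinfl]; exact hθB))
  have hB0 : ∀ ψ' : Cfsg.IrrCharacter (G ⧸ P),
      irrInfl P ψ' ∈ B ↔ ψ' ∈ ({ψ} : Set (Cfsg.IrrCharacter (G ⧸ P))) := by
    intro ψ'
    constructor
    · intro h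
      have h1 : Cfsg.SameBlock M (irrInfl P ψ : G → ℂ) (irrInfl P ψ' : G → ℂ) := by
        rw [hinfl]
        exact hsame θ hθB _ h
      exact Set.mem_singleton_iff.mpr
        (hsingle ψ' (Helper81.sameBlock_of_comp_mk hM P hPp hC ψ ψ' h1))
    · intro h
      rw [Set.mem_singleton_iff.mp h, hinfl]
      exact hθB
  rw [blockRank_eq_of_dominate hM P huniq hB {ψ} hB0]
  unfold Cfsg.blockRank
  rw [Set.image_singleton]
  apply finrank_span_singleton
  intro h0
  have h1 := congrFun h0 1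
  rw [Helper77.pRegularPart_apply, orderOf_one,
    if_pos (by rw [Nat.dvd_one]; exact hp.one_lt.ne')] at h1
  exact Helper81.irr_one_ne_zero ψ h1

end quotRank2

end Cfsg.Agent.Helper76
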