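import Mathlib
import Cfsg.Agent.Helper44.SPUDefs

/-!
# CALL S2316, piece CONJ (helper76)
-/

set_option autoImplicit false
open Classical

namespace Cfsg.Agent.Helper76.SPUCONJ

open Matrix Cfsg.Agent.Helper44.SPU

variable {F : Type*} [Field F] [Fintype F] {m : ℕ}

omit [Fintype F] in
/-- a vector of the standard totally isotropic `k`-space is a combination of the `e_i` -/
theorem S0_eq_sum {k : ℕ} (hk : k ≤ m) (u : Fin m ⊕ Fin m → F)
    (hu : u ∈ Cfsg.Agent.Helper13.S0 F m k) :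
    u = ∑ i : Fin k, u (Sum.inl (Fin.castLE hk i)) • Cfsg.Agent.Helper13.eV hk F i := by
  funext a
  rw [Finset.sum_apply]
  by_cases ha : ∃ i : Fin k, a = Sum.inl (Fin.castLE hk i)
  · obtain ⟨i0, rfl⟩ := ha
    rw [Finset.sum_eq_single i0]
    · simp [Cfsg.Agent.Helper13.eV]
    · intro b _ hb
      have hne : (Sum.inl (Fin.castLE hk i0) : Fin m ⊕ Fin m) ≠ Sum.inl (Fin.castLE hk b) := by
        intro h
        apply hb
        have h1 := Sum.inl.inj h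
        exact (Fin.castLE_injective hk h1).symm
      simp [Cfsg.Agent.Helper13.eV, Pi.single_apply, hne]
    · intro h
      exact absurd (Finset.mem_univ _) h
  · have ha' : ∀ i : Fin k, a ≠ Sum.inl (Fin.castLE hk i) := fun i h => ha ⟨i, h⟩
    rw [Cfsg.Agent.Helper13.S0_supp hk u hu a ha']
    symm
    apply Finset.sum_eq_zero
    intro i _
    simp [Cfsg.Agent.Helper13.eV, Pi.single_apply, ha' i]

/-- CONJ: the `p`-elements fixing a totally isotropic `k`-space pointwise are as many as the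
`p`-elements of the pointwise stabiliser `Qs hk F 0` of the standard one (Witt). -/
theorem spu_conj (p : ℕ) {k : ℕ} (hk : k ≤ m) (W : Submodule F (Fin m ⊕ Fin m → F))
    (hWk : Module.finrank F W = k) (hW : Iso m F W) :
    Nat.card {g : Matrix.symplecticGroup (Fin m) F // (∃ j : ℕ, orderOf g = p ^ j) ∧
        ∀ v ∈ W, (g : Matrix (Fin m ⊕ Fin m) (Fin m ⊕ Fin m) F) *ᵥ v = v} =
      Nat.card {g : ↥(Cfsg.Agent.Helper13.Qs hk F 0) // ∃ j : ℕ, orderOf g = p ^ j} := by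
  obtain ⟨P, hP⟩ := Cfsg.Agent.Helper13.exists_sp_isotropic hk W hWk hW
  have key : ∀ g : Matrix.symplecticGroup (Fin m) F,
      (∀ v ∈ W, (g : Matrix (Fin m ⊕ Fin m) (Fin m ⊕ Fin m) F) *ᵥ v = v) ↔
        P⁻¹ * g * P ∈ Cfsg.Agent.Helper13.Qs hk F 0 := by
    intro g
    rw [Cfsg.Agent.Helper13.mem_Qs]
    constructor
    · intro h
      refine ⟨fun i => ?_, fun i hi => absurd hi (Nat.not_lt_zero _)⟩
      have h1 : (P : Matrix (Fin m ⊕ Fin m) (Fin m ⊕ Fin m) F) *ᵥ Cfsg.Agent.Helper13.eV hk F i ∈ W :=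
        (hP _).mp (Cfsg.Agent.Helper13.eV_mem_S0 hk i)
      rw [Cfsg.Agent.Helper5.sp_mul_mulVec, Cfsg.Agent.Helper5.sp_mul_mulVec, h _ h1,
        Cfsg.Agent.Helper5.sp_inv_mulVec]
    · rintro ⟨h, -⟩ v hv
      obtain ⟨u, hu⟩ : ∃ u, u = (P⁻¹ : Matrix.symplecticGroup (Fin m) F).1 *ᵥ v := ⟨_, rfl⟩
      have hPu : (P : Matrix (Fin m ⊕ Fin m) (Fin m ⊕ Fin m) F) *ᵥ u = v := by
        rw [hu, ← Cfsg.Agent.Helper5.sp_mul_mulVec, mul_inv_cancel, Cfsg.Agent.Helper5.sp_coe_one,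
          Matrix.one_mulVec]
      have huS : u ∈ Cfsg.Agent.Helper13.S0 F m k := (hP u).mpr (hPu ▸ hv)
      have hmem : u ∈ fixSub (P⁻¹ * g * P : Matrix.symplecticGroup (Fin m) F).1 := by
        rw [S0_eq_sum hk u huS]
        exact Submodule.sum_mem _ (fun i _ => Submodule.smul_mem _ _ (h i))
      have hfix : (P⁻¹ * g * P : Matrix.symplecticGroup (Fin m) F).1 *ᵥ u = u := hmem
      rw [Cfsg.Agent.Helper5.sp_mul_mulVec, Cfsg.Agent.Helper5.sp_mul_mulVec, hPu] at hfix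
      have h2 : (P : Matrix (Fin m ⊕ Fin m) (Fin m ⊕ Fin m) F) *ᵥ
          ((P⁻¹ : Matrix.symplecticGroup (Fin m) F).1 *ᵥ
            ((g : Matrix (Fin m ⊕ Fin m) (Fin m ⊕ Fin m) F) *ᵥ v)) =
          (P : Matrix (Fin m ⊕ Fin m) (Fin m ⊕ Fin m) F) *ᵥ u := by rw [hfix]
      rw [← Cfsg.Agent.Helper5.sp_mul_mulVec, mul_inv_cancel, Cfsg.Agent.Helper5.sp_coe_one,
        Matrix.one_mulVec, hPu] at h2
      exact h2
  have hord : ∀ g : Matrix.symplecticGroup (Fin m) F, orderOf (P⁻¹ * g * P) = orderOf g := by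
    intro g
    have h1 := (MulAut.conj P⁻¹).orderOf_eq g
    rwa [MulAut.conj_apply, inv_inv] at h1
  refine Nat.card_eq_of_bijective
    (fun g => ⟨⟨P⁻¹ * g.1 * P, (key g.1).mp g.2.2⟩, ?_⟩) ⟨?_, ?_⟩
  · obtain ⟨j, hj⟩ := g.2.1
    refine ⟨j, ?_⟩
    rw [← Subgroup.orderOf_coe]
    exact (hord g.1).trans hj
  · intro a b hab
    have h1 : P⁻¹ * a.1 * P = P⁻¹ * b.1 * P := congrArg (fun x => x.1.1) hab
    exact Subtype.ext (mul_left_cancel (mul_right_cancel h1))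
  · intro h
    have hc : P⁻¹ * (P * h.1.1 * P⁻¹) * P = h.1.1 := by group
    refine ⟨⟨P * h.1.1 * P⁻¹, ?_, ?_⟩, ?_⟩
    · obtain ⟨j, hj⟩ := h.2
      refine ⟨j, ?_⟩
      rw [← hord, hc, Subgroup.orderOf_coe]
      exact hj
    · rw [key, hc]
      exact h.1.2
    · exact Subtype.ext (Subtype.ext hc)

end Cfsg.Agent.Helper76.SPUCONJ
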