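import Cfsg.Agent.Helper76.SylowTools

/-!
# When does a Sylow `p`-subgroup normalize a Sylow `q`-subgroup? (helper76)

* `exists_sylow_le_normalizer_of_le_normal`: if a Sylow `q`-subgroup `Q` lies in a normal subgroup
  of order prime to `p`, some Sylow `p`-subgroup normalizes `Q` (Frattini argument).
* `sylow_le_pPrimeCore_of_le_normalizer`: in a `p`-solvable group, if a Sylow `p`-subgroup
  normalizes a Sylow `q`-subgroup `Q` (`q ≠ p`), then `Q ≤ O_{p'}(G)`.
-/

set_option autoImplicit false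

namespace Cfsg.Agent.Helper76

variable {G : Type*} [Group G]

/-- If a Sylow `q`-subgroup `Q` lies in a normal subgroup `K` of order prime to `p`, then some
Sylow `p`-subgroup normalizes `Q`. -/
theorem exists_sylow_le_normalizer_of_le_normal [Finite G] {p q : ℕ} [Fact p.Prime]
    [Fact q.Prime] (K : Subgroup G) [K.Normal] (hK : ¬ p ∣ Nat.card K) (Q : Sylow q G)
    (hQ : (Q : Subgroup G) ≤ K) :
    ∃ P : Sylow p G, (P : Subgroup G) ≤ Subgroup.normalizer ((Q : Subgroup G) : Set G) := by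
  have hfr : Subgroup.normalizer ((Q : Subgroup G) : Set G) ⊔ K = ⊤ :=
    Sylow.normalizer_sup_eq_top' Q hQ
  have h1 : (Subgroup.normalizer ((Q : Subgroup G) : Set G)).index ∣ Nat.card K :=
    index_dvd_card_of_sup_eq_top _ K hfr
  exact exists_sylow_le_of_not_dvd_index _ (fun h => hK (dvd_trans h h1))

/-- `O_{p'}(G)` has order prime to `p` (divisibility form). -/
theorem pPrimeCore_not_dvd_card [Finite G] {p : ℕ} [hp : Fact p.Prime] :
    ¬ p ∣ Nat.card (Cfsg.pPrimeCore p G) := by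
  intro h
  have h1 : (Nat.card (Cfsg.pPrimeCore p G)).Coprime p := pPrimeCore_coprime
  have h2 : p ∣ Nat.gcd (Nat.card (Cfsg.pPrimeCore p G)) p := Nat.dvd_gcd h dvd_rfl
  rw [h1] at h2
  exact hp.out.one_lt.ne' (Nat.dvd_one.mp h2)

/-- In a `p`-solvable group, if a Sylow `p`-subgroup normalizes a Sylow `q`-subgroup `Q`
(`q ≠ p`), then `Q ≤ O_{p'}(G)`. -/
theorem sylow_le_pPrimeCore_of_le_normalizer [Finite G] {p q : ℕ} [hp : Fact p.Prime]
    [hq : Fact q.Prime] (hpq : p ≠ q) (hs : IsPSolvableElt p G) (P : Sylow p G) (Q : Sylow q G)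
    (hPQ : (P : Subgroup G) ≤ Subgroup.normalizer ((Q : Subgroup G) : Set G)) :
    (Q : Subgroup G) ≤ Cfsg.pPrimeCore p G := by
  intro x hx
  obtain ⟨k, hk⟩ := (IsPGroup.iff_orderOf.mp Q.isPGroup') ⟨x, hx⟩
  rw [Subgroup.orderOf_mk] at hk
  apply mem_pPrimeCore_of_commute hpq hs x ⟨k, hk⟩
  intro r hr
  -- `r` lies in the image of `P`
  have hsurj : Function.Surjective (QuotientGroup.mk' (Cfsg.pPrimeCore p G)) :=
    QuotientGroup.mk'_surjective _
  have h1 : Cfsg.pCore p (G ⧸ Cfsg.pPrimeCore p G) ≤ (P.mapSurjective hsurj : Subgroup _) :=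
    IsPGroup.le_sylow_of_normal pCore_isPGroup (P.mapSurjective hsurj)
  have h2 := h1 hr
  rw [Sylow.coe_mapSurjective, Subgroup.mem_map] at h2
  obtain ⟨g, hg, rfl⟩ := h2
  -- the commutator `g x g⁻¹ x⁻¹` lies in `Q`
  have hgQ : g * x * g⁻¹ ∈ (Q : Subgroup G) := by
    have := (Subgroup.mem_normalizer_iff.mp (hPQ hg) x).mp hx
    exact this
  have hc : g * x * g⁻¹ * x⁻¹ ∈ (Q : Subgroup G) := Subgroup.mul_mem _ hgQ (Subgroup.inv_mem _ hx)
  obtain ⟨j, hj⟩ := (IsPGroup.iff_orderOf.mp Q.isPGroup') ⟨_, hc⟩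
  rw [Subgroup.orderOf_mk] at hj
  -- its image lies in `O_p(G/K)`
  have hc' : QuotientGroup.mk' (Cfsg.pPrimeCore p G) (g * x * g⁻¹ * x⁻¹) ∈
      Cfsg.pCore p (G ⧸ Cfsg.pPrimeCore p G) := by
    have hn : (Cfsg.pCore p (G ⧸ Cfsg.pPrimeCore p G)).Normal := pCore_normal
    have e : QuotientGroup.mk' (Cfsg.pPrimeCore p G) (g * x * g⁻¹ * x⁻¹) =
        QuotientGroup.mk' (Cfsg.pPrimeCore p G) g *
          (QuotientGroup.mk' (Cfsg.pPrimeCore p G) x *
            (QuotientGroup.mk' (Cfsg.pPrimeCore p G) g)⁻¹ *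
            (QuotientGroup.mk' (Cfsg.pPrimeCore p G) x)⁻¹) := by
      simp only [map_mul, map_inv, mul_assoc]
    rw [e]
    exact Subgroup.mul_mem _ hr (hn.conj_mem _ (Subgroup.inv_mem _ hr) _)
  have hone : QuotientGroup.mk' (Cfsg.pPrimeCore p G) (g * x * g⁻¹ * x⁻¹) = 1 := by
    apply eq_one_of_orderOf_pow_pow hp.out hq.out hpq
    · obtain ⟨i, hi⟩ := (IsPGroup.iff_orderOf.mp
        (pCore_isPGroup (p := p) (G := G ⧸ Cfsg.pPrimeCore p G))) ⟨_, hc'⟩
      rw [Subgroup.orderOf_mk] at hi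
      exact ⟨i, hi⟩
    · exact ⟨j, hj ▸ orderOf_map_dvd (QuotientGroup.mk' (Cfsg.pPrimeCore p G)) _⟩
  have h3 : QuotientGroup.mk' (Cfsg.pPrimeCore p G) g * QuotientGroup.mk' (Cfsg.pPrimeCore p G) x
      = QuotientGroup.mk' (Cfsg.pPrimeCore p G) x * QuotientGroup.mk' (Cfsg.pPrimeCore p G) g := by
    simp only [map_mul, map_inv] at hone
    have := congrArg (fun t => t * (QuotientGroup.mk' (Cfsg.pPrimeCore p G) x *
      QuotientGroup.mk' (Cfsg.pPrimeCore p G) g)) hone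
    simp only [one_mul] at this
    rw [← this]
    group
  exact h3

end Cfsg.Agent.Helper76
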