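import Cfsg.Agent.Helper76.PSolvable

/-!
# Sylow tools (helper76)

* `exists_sylow_le_of_not_dvd_index`: a subgroup of index prime to `p` contains a Sylow `p`-subgroup.
* `sylow_le_of_not_dvd_index_normal`: a normal subgroup of index prime to `q` contains every
  Sylow `q`-subgroup.
* `relIndex_sup_of_normal`, `index_dvd_card_of_sup_eq_top`.
* `eq_one_of_orderOf_pow_pow`: an element whose order is a power of `p` and divides a power of
  `q ≠ p` is trivial.
* `mem_pPrimeCore_of_commute`: in a `p`-solvable group, a `q`-element (`q ≠ p`) whose image in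
  `G / O_{p'}(G)` centralizes `O_p(G / O_{p'}(G))` lies in `O_{p'}(G)`.
-/

set_option autoImplicit false

namespace Cfsg.Agent.Helper76

variable {G : Type*} [Group G]

/-- A subgroup of index prime to `p` contains a Sylow `p`-subgroup. -/
theorem exists_sylow_le_of_not_dvd_index [Finite G] {p : ℕ} [Fact p.Prime] (H : Subgroup G)
    (h : ¬ p ∣ H.index) : ∃ P : Sylow p G, (P : Subgroup G) ≤ H := by
  obtain ⟨P₀⟩ : Nonempty (Sylow p H) := inferInstance
  have hP : IsPGroup p ((P₀ : Subgroup H).map H.subtype) := P₀.isPGroup'.map _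
  have hidx : ¬ p ∣ ((P₀ : Subgroup H).map H.subtype).index := by
    rw [Subgroup.index_map_subtype]
    exact Nat.Prime.not_dvd_mul Fact.out P₀.not_dvd_index h
  refine ⟨hP.toSylow hidx, ?_⟩
  rw [IsPGroup.toSylow_coe]
  exact Subgroup.map_subtype_le _

/-- An element whose order is a power of `p` and divides a power of `q ≠ p` is trivial. -/
theorem eq_one_of_orderOf_pow_pow {p q : ℕ} (hp : p.Prime) (hq : q.Prime) (hpq : p ≠ q) (y : G)
    (h1 : ∃ i : ℕ, orderOf y = p ^ i) (h2 : ∃ j : ℕ, orderOf y ∣ q ^ j) : y = 1 := by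
  obtain ⟨i, hi⟩ := h1
  obtain ⟨j, hj⟩ := h2
  rw [← orderOf_eq_one_iff, hi]
  rcases Nat.eq_zero_or_pos i with h0 | hpos
  · rw [h0, pow_zero]
  · exfalso
    rw [hi] at hj
    have h3 : p ∣ q ^ j := dvd_trans (dvd_pow_self p hpos.ne') hj
    have h4 : p ∣ q := hp.dvd_of_dvd_pow h3
    exact hpq ((Nat.prime_dvd_prime_iff_eq hp hq).mp h4)

/-- A normal subgroup of index prime to `q` contains every Sylow `q`-subgroup. -/
theorem sylow_le_of_not_dvd_index_normal [Finite G] {q : ℕ} [hq : Fact q.Prime] (K : Subgroup G)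
    [K.Normal] (Q : Sylow q G) (h : ¬ q ∣ K.index) : (Q : Subgroup G) ≤ K := by
  intro x hx
  rw [← QuotientGroup.eq_one_iff]
  obtain ⟨j, hj⟩ := (IsPGroup.iff_orderOf.mp Q.isPGroup') ⟨x, hx⟩
  rw [Subgroup.orderOf_mk] at hj
  have h1 : orderOf ((x : G) : G ⧸ K) ∣ q ^ j := by
    rw [← hj]; exact orderOf_map_dvd (QuotientGroup.mk' K) x
  obtain ⟨i, _, hi⟩ := (Nat.dvd_prime_pow hq.out).mp h1
  have h2 : orderOf ((x : G) : G ⧸ K) ∣ K.index := by
    rw [Subgroup.index_eq_card]; exact orderOf_dvd_natCard _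
  rw [← orderOf_eq_one_iff, hi]
  rcases Nat.eq_zero_or_pos i with h0 | hpos
  · rw [h0, pow_zero]
  · exfalso
    rw [hi] at h2
    exact h (dvd_trans (dvd_pow_self q hpos.ne') h2)

/-- `[HK : H] = [K : H ∩ K]` for `K` normal. -/
theorem relIndex_sup_of_normal [Finite G] (H K : Subgroup G) [K.Normal] :
    H.relIndex (H ⊔ K) = H.relIndex K := by
  have h1 : K.relIndex (H ⊔ K) = K.relIndex H := Subgroup.relIndex_sup_right H K
  have h2 : (H ⊓ K).relIndex H = K.relIndex H := Subgroup.inf_relIndex_left H K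
  have h3 : (H ⊓ K).relIndex K = H.relIndex K := Subgroup.inf_relIndex_right H K
  have h4 : (H ⊓ K).relIndex H * H.relIndex (H ⊔ K) = (H ⊓ K).relIndex (H ⊔ K) :=
    Subgroup.relIndex_mul_relIndex _ _ _ inf_le_left le_sup_left
  have h5 : (H ⊓ K).relIndex K * K.relIndex (H ⊔ K) = (H ⊓ K).relIndex (H ⊔ K) :=
    Subgroup.relIndex_mul_relIndex _ _ _ inf_le_right le_sup_right
  rw [h2] at h4
  rw [h3, h1] at h5
  have hpos : 0 < K.relIndex H := by
    unfold Subgroup.relIndex
    exact Nat.pos_of_ne_zero Subgroup.FiniteIndex.index_ne_zero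
  have h6 : K.relIndex H * H.relIndex (H ⊔ K) = K.relIndex H * H.relIndex K := by
    rw [h4, ← h5, mul_comm]
  exact Nat.eq_of_mul_eq_mul_left hpos h6

/-- If `HK = G` with `K` normal then `[G : H]` divides `|K|`. -/
theorem index_dvd_card_of_sup_eq_top [Finite G] (H K : Subgroup G) [K.Normal]
    (h : H ⊔ K = ⊤) : H.index ∣ Nat.card K := by
  rw [← Subgroup.relIndex_top_right, ← h, relIndex_sup_of_normal]
  exact Subgroup.relIndex_dvd_card H K

/-- For `K` normal, `[K : H ∩ K]` divides `[G : H]`. -/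
theorem relIndex_dvd_index_of_normal_right [Finite G] (H K : Subgroup G) [K.Normal] :
    H.relIndex K ∣ H.index := by
  rw [← relIndex_sup_of_normal]
  exact Subgroup.relIndex_dvd_index_of_le le_sup_left

instance pPrimeCore_normal_inst (p : ℕ) : (Cfsg.pPrimeCore p G).Normal := pPrimeCore_normal

instance pCore_normal_inst (p : ℕ) : (Cfsg.pCore p G).Normal := pCore_normal

/-- In a `p`-solvable group, a `q`-element (`q ≠ p`) whose image in `G / O_{p'}(G)` centralizes
`O_p(G / O_{p'}(G))` lies in `O_{p'}(G)`. -/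
theorem mem_pPrimeCore_of_commute [Finite G] {p q : ℕ} [hp : Fact p.Prime] [hq : Fact q.Prime]
    (hpq : p ≠ q) (hs : IsPSolvableElt p G) (x : G) (hxq : ∃ k : ℕ, orderOf x = q ^ k)
    (hx : ∀ r : G ⧸ Cfsg.pPrimeCore p G, r ∈ Cfsg.pCore p (G ⧸ Cfsg.pPrimeCore p G) →
      r * (x : G ⧸ Cfsg.pPrimeCore p G) = (x : G ⧸ Cfsg.pPrimeCore p G) * r) :
    x ∈ Cfsg.pPrimeCore p G := by
  have hHH := centralizer_pCore_le (hs.quotient (Cfsg.pPrimeCore p G))
    (pPrimeCore_quotient_eq_bot (p := p) (G := G))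
  have h1 : (x : G ⧸ Cfsg.pPrimeCore p G) ∈ Cfsg.pCore p (G ⧸ Cfsg.pPrimeCore p G) := by
    apply hHH
    rw [Subgroup.mem_centralizer_iff]
    intro r hr
    exact hx r hr
  rw [← QuotientGroup.eq_one_iff]
  apply eq_one_of_orderOf_pow_pow hp.out hq.out hpq
  · obtain ⟨i, hi⟩ := (IsPGroup.iff_orderOf.mp
      (pCore_isPGroup (p := p) (G := G ⧸ Cfsg.pPrimeCore p G))) ⟨_, h1⟩
    rw [Subgroup.orderOf_mk] at hi
    exact ⟨i, hi⟩
  · obtain ⟨k, hk⟩ := hxq
    exact ⟨k, hk ▸ orderOf_map_dvd (QuotientGroup.mk' (Cfsg.pPrimeCore p G)) x⟩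

end Cfsg.Agent.Helper76
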