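import Mathlib
import Cfsg.Prelude.Def_GeometricClasses

/-!
# helper76: CALL S5981 (helper98) — common tools for the pieces DBA / DBB / DBC

Diagonal elements of `GL_n(F)` and the eigenvalue multiplicities of their conjugates.
-/

set_option autoImplicit false
open Matrix Polynomial

namespace Cfsg.Agent.Helper76.THDiagCore

variable {F : Type*} [Field F] [DecidableEq F]

/-- the diagonal element of `GL_n(F)` with non-zero diagonal entries `d` -/
noncomputable def dg {n : ℕ} (d : Fin n → F) (hd : ∀ i, d i ≠ 0) : GL (Fin n) F :=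
  Matrix.GeneralLinearGroup.mkOfDetNeZero (Matrix.diagonal d) (by
    rw [Matrix.det_diagonal]
    exact Finset.prod_ne_zero_iff.mpr (fun i _ => hd i))

theorem dg_val {n : ℕ} (d : Fin n → F) (hd : ∀ i, d i ≠ 0) :
    ((dg d hd : GL (Fin n) F) : Matrix (Fin n) (Fin n) F) = Matrix.diagonal d := rfl

theorem dg_mem_sl {n : ℕ} (d : Fin n → F) (hd : ∀ i, d i ≠ 0) (h : ∏ i, d i = 1) :
    dg d hd ∈ Cfsg.Geo.specialLinear (Fin n) F := by
  rw [Cfsg.Geo.specialLinear, MonoidHom.mem_ker]
  ext
  rw [Matrix.GeneralLinearGroup.val_det_apply, dg_val, Matrix.det_diagonal, h]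
  rfl

theorem dg_pow {n : ℕ} (d : Fin n → F) (hd : ∀ i, d i ≠ 0) (k : ℕ) :
    ((dg d hd ^ k : GL (Fin n) F) : Matrix (Fin n) (Fin n) F)
      = Matrix.diagonal (fun i => d i ^ k) := by
  rw [Units.val_pow_eq_pow_val, dg_val, Matrix.diagonal_pow]
  rfl

theorem dg_pow_eq_one {n : ℕ} (d : Fin n → F) (hd : ∀ i, d i ≠ 0) (k : ℕ)
    (h : ∀ i, d i ^ k = 1) : dg d hd ^ k = 1 := by
  apply Units.ext
  rw [dg_pow, Units.val_one]
  have : (fun i => d i ^ k) = fun _ => (1 : F) := funext h
  rw [this, Matrix.diagonal_one]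

theorem dg_ne_scalar {n : ℕ} (d : Fin n → F) (hd : ∀ i, d i ≠ 0) (i j : Fin n)
    (hij : d i ≠ d j) (z : F) :
    ((dg d hd : GL (Fin n) F) : Matrix (Fin n) (Fin n) F)
      ≠ z • (1 : Matrix (Fin n) (Fin n) F) := by
  intro h
  rw [dg_val] at h
  have hi := congrFun (congrFun h i) i
  have hj := congrFun (congrFun h j) j
  rw [Matrix.diagonal_apply_eq, Matrix.smul_apply, Matrix.one_apply_eq, smul_eq_mul, mul_one]
    at hi hj
  exact hij (hi.trans hj.symm)

/-- the rank of `y - l` for a conjugate `y` of a diagonal element -/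
theorem rank_conj {n : ℕ} (d : Fin n → F) (hd : ∀ i, d i ≠ 0) (g : GL (Fin n) F) (l : F) :
    (((g⁻¹ * dg d hd * g : GL (Fin n) F) : Matrix (Fin n) (Fin n) F)
        - l • (1 : Matrix (Fin n) (Fin n) F)).rank
      = n - (Finset.univ.filter (fun i => d i = l)).card := by
  have h1 : ((g⁻¹ * dg d hd * g : GL (Fin n) F) : Matrix (Fin n) (Fin n) F)
        - l • (1 : Matrix (Fin n) (Fin n) F)
      = ((g⁻¹ : GL (Fin n) F) : Matrix (Fin n) (Fin n) F)
          * Matrix.diagonal (fun i => d i - l) * (g : Matrix (Fin n) (Fin n) F) := by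
    have h2 : Matrix.diagonal (fun i => d i - l)
        = Matrix.diagonal d - l • (1 : Matrix (Fin n) (Fin n) F) := by
      ext i j
      by_cases hij : i = j
      · subst hij
        simp
      · simp [hij]
    rw [h2, Matrix.mul_sub, Matrix.sub_mul, Matrix.mul_smul, Matrix.mul_one, Matrix.smul_mul,
      ← Units.val_mul, inv_mul_cancel, Units.val_one, Units.val_mul, Units.val_mul, dg_val]
  have hg : IsUnit (g : Matrix (Fin n) (Fin n) F).det := by
    have := (Matrix.isUnit_iff_isUnit_det (g : Matrix (Fin n) (Fin n) F)).mp g.isUnit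
    exact this
  have hg' : IsUnit ((g⁻¹ : GL (Fin n) F) : Matrix (Fin n) (Fin n) F).det := by
    have := (Matrix.isUnit_iff_isUnit_det ((g⁻¹ : GL (Fin n) F) : Matrix (Fin n) (Fin n) F)).mp
      (g⁻¹).isUnit
    exact this
  rw [h1, Matrix.rank_mul_eq_left_of_isUnit_det _ _ hg,
    Matrix.rank_mul_eq_right_of_isUnit_det _ _ hg', Matrix.rank_diagonal, Fintype.card_subtype]
  have h3 := Finset.card_filter_add_card_filter_not (s := (Finset.univ : Finset (Fin n)))
    (fun i => d i = l)
  rw [Finset.card_univ, Fintype.card_fin] at h3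
  have h4 : (Finset.univ.filter (fun i : Fin n => d i - l ≠ 0))
      = Finset.univ.filter (fun i : Fin n => ¬ d i = l) := by
    apply Finset.filter_congr
    intro i _
    rw [Ne, sub_eq_zero]
  rw [h4]
  omega

/-- the symmetry of the multiplicities forced by the rank condition on `H` -/
theorem cnt_symm {n : ℕ} (d : Fin n → F) (hd : ∀ i, d i ≠ 0) (H : Subgroup (GL (Fin n) F))
    (hH : ∀ y ∈ H, ∃ c : F, c ≠ 0 ∧ ∀ l : F, l ≠ 0 →
      ((y : Matrix (Fin n) (Fin n) F) - l • (1 : Matrix (Fin n) (Fin n) F)).rank =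
        ((y : Matrix (Fin n) (Fin n) F) - (c / l) • (1 : Matrix (Fin n) (Fin n) F)).rank)
    (g : GL (Fin n) F) (hg : g⁻¹ * dg d hd * g ∈ H) :
    ∃ c : F, c ≠ 0 ∧ ∀ l : F, l ≠ 0 →
      (Finset.univ.filter (fun i => d i = l)).card
        = (Finset.univ.filter (fun i => d i = c / l)).card := by
  obtain ⟨c, hc, hcl⟩ := hH _ hg
  refine ⟨c, hc, fun l hl => ?_⟩
  have h1 := hcl l hl
  rw [rank_conj, rank_conj] at h1
  have h2 : (Finset.univ.filter (fun i : Fin n => d i = l)).card ≤ n := by
    have := Finset.card_filter_le (Finset.univ : Finset (Fin n)) (fun i => d i = l)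
    rwa [Finset.card_univ, Fintype.card_fin] at this
  have h3 : (Finset.univ.filter (fun i : Fin n => d i = c / l)).card ≤ n := by
    have := Finset.card_filter_le (Finset.univ : Finset (Fin n)) (fun i => d i = c / l)
    rwa [Finset.card_univ, Fintype.card_fin] at this
  omega

end Cfsg.Agent.Helper76.THDiagCore
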