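import Mathlib
import Cfsg.Prelude.Def_GeometricClasses
import Cfsg.Prelude.Def_Classical
import Cfsg.Agent.Helper76.THDiagCore

/-!
# helper76: CALL S5981 (helper98), PIECE DBC — the element `diag(ω, ω, ω, 1, …, 1)` (`ω³ = 1`)
is not conjugate into a subgroup whose elements have symmetric eigenvalue multiplicities.
-/

set_option autoImplicit false
open Matrix Polynomial

namespace Cfsg.Agent.Helper76.THDBC

open Cfsg.Agent.Helper76.THDiagCore

variable {F : Type*} [Field F] [Fintype F]

/-- DBC -/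
theorem bad_diag_c {n : ℕ} (hn : 4 ≤ n) (hn6 : n ≠ 6) (ω : F) (hω1 : ω ≠ 1) (hω3 : ω ^ 3 = 1)
    (H : Subgroup (GL (Fin n) F))
    (hH : ∀ y ∈ H, ∃ c : F, c ≠ 0 ∧ ∀ l : F, l ≠ 0 →
      ((y : Matrix (Fin n) (Fin n) F) - l • (1 : Matrix (Fin n) (Fin n) F)).rank =
        ((y : Matrix (Fin n) (Fin n) F) - (c / l) • (1 : Matrix (Fin n) (Fin n) F)).rank) :
    ∃ x : GL (Fin n) F, x ∈ Cfsg.Geo.specialLinear (Fin n) F ∧ x ^ 3 = 1 ∧
      (∀ z : F, (x : Matrix (Fin n) (Fin n) F) ≠ z • (1 : Matrix (Fin n) (Fin n) F)) ∧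
      ∀ g : GL (Fin n) F, g⁻¹ * x * g ∉ H := by
  classical
  have hω0 : ω ≠ 0 := by
    rintro rfl
    simp at hω3
  obtain ⟨d, hddef⟩ : ∃ d : Fin n → F, d = fun i : Fin n => if (i : ℕ) < 3 then ω else 1 := ⟨_, rfl⟩
  have hdi : ∀ i : Fin n, d i = if (i : ℕ) < 3 then ω else 1 := fun i => by rw [hddef]
  have hd : ∀ i, d i ≠ 0 := by
    intro i
    rw [hdi]
    split_ifs
    · exact hω0
    · exact one_ne_zero
  -- the multiplicities
  have hc3 : (Finset.univ.filter (fun i : Fin n => (i : ℕ) < 3)).card = 3 := by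
    rw [Fin.card_filter_val_lt]
    omega
  have hcn : (Finset.univ.filter (fun i : Fin n => ¬ (i : ℕ) < 3)).card = n - 3 := by
    have := Finset.card_filter_add_card_filter_not (s := (Finset.univ : Finset (Fin n)))
      (fun i => (i : ℕ) < 3)
    rw [Finset.card_univ, Fintype.card_fin, hc3] at this
    omega
  have hcntω : (Finset.univ.filter (fun i : Fin n => d i = ω)).card = 3 := by
    rw [← hc3]
    congr 1
    apply Finset.filter_congr
    intro i _
    rw [hdi]
    split_ifs with h
    · simp [h]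
    · simp [h, Ne.symm hω1]
  have hcnt1 : (Finset.univ.filter (fun i : Fin n => d i = 1)).card = n - 3 := by
    rw [← hcn]
    congr 1
    apply Finset.filter_congr
    intro i _
    rw [hdi]
    split_ifs with h
    · simp [h, hω1]
    · simp [h]
  have hcnt0 : ∀ l : F, l ≠ ω → l ≠ 1 → (Finset.univ.filter (fun i : Fin n => d i = l)).card = 0 := by
    intro l h1 h2
    rw [Finset.card_eq_zero, Finset.filter_eq_empty_iff]
    intro i _
    rw [hdi]
    split_ifs
    · exact Ne.symm h1
    · exact Ne.symm h2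
  refine ⟨dg d hd, ?_, ?_, ?_, ?_⟩
  · apply dg_mem_sl
    have : ∏ i, d i = ω ^ (Finset.univ.filter (fun i : Fin n => (i : ℕ) < 3)).card := by
      rw [hddef, Finset.prod_ite, Finset.prod_const, Finset.prod_const_one, mul_one]
    rw [this, hc3, hω3]
  · apply dg_pow_eq_one
    intro i
    rw [hdi]
    split_ifs
    · exact hω3
    · exact one_pow 3
  · apply dg_ne_scalar d hd ⟨0, by omega⟩ ⟨3, by omega⟩
    rw [hdi, hdi]
    simp [hω1]
  · intro g hg
    obtain ⟨c, hc, hsym⟩ := cnt_symm d hd H hH g hg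
    have h1 := hsym ω hω0
    rw [hcntω] at h1
    have hcω : c / ω = ω := by
      by_contra hne
      by_cases h1' : c / ω = 1
      · rw [h1', hcnt1] at h1
        omega
      · rw [hcnt0 _ hne h1'] at h1
        omega
    have h2 := hsym 1 one_ne_zero
    rw [hcnt1, div_one] at h2
    have hcc : c = ω * ω := by
      field_simp at hcω
      rw [hcω]
      ring
    have hne1 : c ≠ ω := by
      rw [hcc]
      intro h
      apply hω1
      have : ω * ω = ω * 1 := by rw [h, mul_one]
      exact mul_left_cancel₀ hω0 this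
    have hne2 : c ≠ 1 := by
      rw [hcc]
      intro h
      apply hω1
      calc ω = ω * (ω * ω) := by rw [h, mul_one]
        _ = ω ^ 3 := by ring
        _ = 1 := hω3
    rw [hcnt0 c hne1 hne2] at h2
    omega

end Cfsg.Agent.Helper76.THDBC
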