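import Mathlib
import Cfsg.Agent.Helper44.UCDefs

/-!
# helper76: CALL S2646 (helper44), PIECE SIM — `N (1 + c N)⁻¹` is similar to the shift
`N = nilp K d`.
-/

set_option autoImplicit false

namespace Cfsg.Agent.Helper76.UCSIM

open Matrix Cfsg.Agent.Helper21.JCent Cfsg.Agent.Helper44.UC

/-- entries of the powers of the shift -/
theorem nilp_pow_apply {K : Type*} [Field K] {t : ℕ} (d : Fin t → ℕ) (i : ℕ)
    (x y : (k : Fin t) × Fin (d k)) :
    (nilp K d ^ i) x y = if x.1 = y.1 ∧ (x.2 : ℕ) = (y.2 : ℕ) + i then 1 else 0 := by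
  induction i generalizing y with
  | zero =>
    obtain ⟨l, a⟩ := x
    obtain ⟨k, b⟩ := y
    rw [pow_zero, Matrix.one_apply]
    by_cases h : l = k
    · subst h
      by_cases hab : a = b
      · subst hab
        simp
      · have h2 : (a : ℕ) ≠ (b : ℕ) := fun h' => hab (Fin.ext h')
        simp [hab, h2]
    · simp [h]
  | succ i ih =>
    obtain ⟨k, j⟩ := y
    rw [pow_succ, mul_nilp_apply]
    split_ifs with h h1 h1
    · rw [ih, if_pos ⟨h1.1, by have := h1.2; simp only at this ⊢; omega⟩]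
    · rw [ih, if_neg]
      rintro ⟨h2, h3⟩
      exact h1 ⟨h2, by simp only at h3 ⊢; omega⟩
    · exfalso
      obtain ⟨l, a⟩ := x
      obtain ⟨h2, h3⟩ := h1
      simp only at h2 h3
      subst h2
      have := a.2
      omega
    · rfl

/-- entries of a polynomial in the shift -/
theorem aeval_nilp_apply {K : Type*} [Field K] {t : ℕ} (d : Fin t → ℕ) (f : Polynomial K)
    (x y : (k : Fin t) × Fin (d k)) :
    (Polynomial.aeval (nilp K d) f) x y
      = if x.1 = y.1 ∧ (y.2 : ℕ) ≤ (x.2 : ℕ) then f.coeff ((x.2 : ℕ) - (y.2 : ℕ)) else 0 := by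
  rw [Polynomial.aeval_eq_sum_range, Matrix.sum_apply]
  simp only [Matrix.smul_apply, nilp_pow_apply, smul_eq_mul, mul_ite, mul_one, mul_zero]
  split_ifs with h
  · rw [Finset.sum_eq_single ((x.2 : ℕ) - (y.2 : ℕ))]
    · rw [if_pos ⟨h.1, by omega⟩]
    · intro b _ hb
      rw [if_neg]
      rintro ⟨_, h2⟩
      omega
    · intro hn
      rw [if_pos ⟨h.1, by omega⟩]
      apply Polynomial.coeff_eq_zero_of_natDegree_lt
      rw [Finset.mem_range] at hn
      omega
  · apply Finset.sum_eq_zero
    intro b _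
    rw [if_neg]
    rintro ⟨h1, h2⟩
    exact h ⟨h1, by omega⟩

/-- SIM: `N (1 + c N)⁻¹` is similar to the shift `N = nilp K d`. -/
theorem uc_sim {K : Type*} [Field K] {t : ℕ} (d : Fin t → ℕ) (hd : ∀ k, 1 ≤ d k) (c : K) :
    IsUnit ((1 : Matrix ((k : Fin t) × Fin (d k)) ((k : Fin t) × Fin (d k)) K)
        + c • nilp K d).det ∧
    ∃ P : Matrix ((k : Fin t) × Fin (d k)) ((k : Fin t) × Fin (d k)) K, IsUnit P.det ∧
      P * nilp K d = (nilp K d * (1 + c • nilp K d)⁻¹) * P := by
  classical
  obtain ⟨D, hD⟩ : ∃ D : ℕ, D = ∑ k, d k := ⟨_, rfl⟩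
  -- the shift is nilpotent
  have hN : nilp K d ^ (D + 1) = 0 := by
    ext x y
    rw [nilp_pow_apply, Matrix.zero_apply, if_neg]
    rintro ⟨-, h2⟩
    have h3 : d x.1 ≤ D := by
      rw [hD]
      exact Finset.single_le_sum (fun _ _ => Nat.zero_le _) (Finset.mem_univ x.1)
    have := x.2.2
    omega
  -- the inverse of `1 + c N` as a polynomial in `N`
  obtain ⟨g, hgdef⟩ : ∃ g : Polynomial K,
      g = ∑ i ∈ Finset.range (D + 1), (-(Polynomial.C c * Polynomial.X)) ^ i := ⟨_, rfl⟩
  have hg : (1 + Polynomial.C c * Polynomial.X) * g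
      = 1 - (-(Polynomial.C c * Polynomial.X)) ^ (D + 1) := by
    have := mul_neg_geom_sum (-(Polynomial.C c * Polynomial.X : Polynomial K)) (D + 1)
    rw [sub_neg_eq_add] at this
    rw [hgdef]
    exact this
  have hg0 : g.coeff 0 = 1 := by
    rw [hgdef, Polynomial.coeff_zero_eq_eval_zero, Polynomial.eval_finsetSum,
      Finset.sum_range_succ']
    simp
  have hcN : Polynomial.aeval (nilp K d) (Polynomial.C c * Polynomial.X : Polynomial K)
      = c • nilp K d := by
    rw [map_mul, Polynomial.aeval_C, Polynomial.aeval_X, Algebra.smul_def]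
  have hW : (1 + c • nilp K d) * Polynomial.aeval (nilp K d) g = 1 := by
    have h1 := congrArg (Polynomial.aeval (nilp K d)) hg
    rw [map_mul, map_add, map_one, hcN, map_sub, map_one, map_pow, map_neg, hcN, neg_pow,
      smul_pow, hN, smul_zero, mul_zero, sub_zero] at h1
    exact h1
  have hinv : (1 + c • nilp K d)⁻¹ = Polynomial.aeval (nilp K d) g :=
    Matrix.inv_eq_right_inv hW
  refine ⟨Matrix.isUnit_det_of_right_inverse hW, ?_⟩
  -- the conjugating matrix
  refine ⟨Matrix.of fun x y => (Polynomial.aeval (nilp K d) (g ^ (y.2 : ℕ))) x y, ?_, ?_⟩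
  · -- unitriangular
    have hbt : Matrix.BlockTriangular
        (Matrix.of fun x y : (k : Fin t) × Fin (d k) =>
          (Polynomial.aeval (nilp K d) (g ^ (y.2 : ℕ))) x y)
        (fun x => OrderDual.toDual (x.2 : ℕ)) := by
      intro x y hxy
      rw [OrderDual.toDual_lt_toDual] at hxy
      rw [Matrix.of_apply, aeval_nilp_apply, if_neg]
      rintro ⟨-, h2⟩
      omega
    rw [hbt.det]
    have hone : ∀ a : ℕᵒᵈ, (Matrix.toSquareBlock
        (Matrix.of fun x y : (k : Fin t) × Fin (d k) =>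
          (Polynomial.aeval (nilp K d) (g ^ (y.2 : ℕ))) x y)
        (fun x => OrderDual.toDual (x.2 : ℕ)) a) = 1 := by
      intro a
      ext ⟨x, hx⟩ ⟨y, hy⟩
      rw [Matrix.toSquareBlock_def, Matrix.of_apply, Matrix.of_apply, aeval_nilp_apply,
        Matrix.one_apply]
      have hxy : (x.2 : ℕ) = (y.2 : ℕ) := by
        have := hx.trans hy.symm
        exact OrderDual.toDual.injective this
      obtain ⟨l, a'⟩ := x
      obtain ⟨k, b'⟩ := y
      simp only at hxy ⊢
      by_cases h : l = k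
      · subst h
        have hab : a' = b' := Fin.ext hxy
        subst hab
        rw [if_pos ⟨rfl, le_refl _⟩, if_pos rfl, Nat.sub_self, Polynomial.coeff_zero_eq_eval_zero,
          Polynomial.eval_pow, ← Polynomial.coeff_zero_eq_eval_zero, hg0, one_pow]
      · rw [if_neg (fun h' => h h'.1), if_neg]
        intro h'
        apply h
        have := congrArg Subtype.val h'
        exact congrArg Sigma.fst this
    rw [Finset.prod_congr rfl (fun a _ => by rw [hone a, Matrix.det_one])]
    rw [Finset.prod_const_one]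
    exact isUnit_one
  · -- the intertwining relation
    ext x ⟨k, j⟩
    rw [mul_nilp_apply, hinv]
    have hR : ((nilp K d * Polynomial.aeval (nilp K d) g) *
        (Matrix.of fun x y : (k : Fin t) × Fin (d k) =>
          (Polynomial.aeval (nilp K d) (g ^ (y.2 : ℕ))) x y)) x ⟨k, j⟩
        = (Polynomial.aeval (nilp K d) (Polynomial.X * g ^ ((j : ℕ) + 1))) x ⟨k, j⟩ := by
      have h1 : Polynomial.aeval (nilp K d) (Polynomial.X * g ^ ((j : ℕ) + 1))
          = (nilp K d * Polynomial.aeval (nilp K d) g) *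
            Polynomial.aeval (nilp K d) (g ^ (j : ℕ)) := by
        rw [pow_succ', map_mul, map_mul, Polynomial.aeval_X, Matrix.mul_assoc]
      rw [h1, Matrix.mul_apply, Matrix.mul_apply]
      rfl
    rw [hR, aeval_nilp_apply]
    split_ifs with h h1 h1
    · rw [Matrix.of_apply, aeval_nilp_apply]
      by_cases h2 : x.1 = k ∧ (j : ℕ) + 1 ≤ (x.2 : ℕ)
      · rw [if_pos h2]
        have h3 : (x.2 : ℕ) - (j : ℕ) = ((x.2 : ℕ) - ((j : ℕ) + 1)) + 1 := by omega
        simp only at h3 ⊢
        rw [h3, Polynomial.coeff_X_mul]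
      · rw [if_neg h2]
        have h3 : (x.2 : ℕ) - (j : ℕ) = 0 := by
          simp only at h1
          by_contra h4
          exact h2 ⟨h1.1, by omega⟩
        simp only at h3 ⊢
        rw [h3, Polynomial.coeff_X_mul_zero]
    · rw [Matrix.of_apply, aeval_nilp_apply, if_neg]
      rintro ⟨h2, h3⟩
      exact h1 ⟨h2, by simp only at h3 ⊢; omega⟩
    · simp only at h1
      have h3 : (x.2 : ℕ) - (j : ℕ) = 0 := by
        obtain ⟨l, a⟩ := x
        obtain ⟨h2, h4⟩ := h1
        simp only at h2 h4 ⊢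
        subst h2
        have := a.2
        omega
      simp only at h3 ⊢
      rw [h3, Polynomial.coeff_X_mul_zero]
    · rfl

end Cfsg.Agent.Helper76.UCSIM
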